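import Cfsg.Agent.U5F.Chr
import Cfsg.Agent.FK.Uniq
import Cfsg.Agent.H62.NoFlag

/-! Project U5F: automorphisms of `S`.  See `notes/U5F.md`. -/

set_option autoImplicit false
set_option linter.unusedSectionVars false

namespace Cfsg.Agent.U5F

open US FK
open RFS (Au)
open scoped commutatorElement

variable {K : Type*} [Field K] [Bar K] {G : Type*} [Group G] [Finite G] {p : ℕ} [Fact p.Prime] [CharP K p]
  {u : US K →* G} {f g F n : US K → US K}

namespace AuS

theorem dec (h : Au ⊤ F) (x y : US K) : F x = F y * F (y⁻¹ * x) := by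
  rw [← h.mul _ trivial _ trivial, mul_inv_cancel_left]

theorem Z_le {x : US K} (hx : x ∈ (sZ : Subgroup (US K))) : x ∈ commutator (US K) := by
  obtain ⟨h0, h1, h2, h3, h4⟩ := hx
  obtain ⟨t, ht⟩ := exists_sub (t := x.f) (by simp [h0, h3])
  have hc := c_Y (x := Xe (-t)) (by simp) (Xa 1)
  have : x = ⁅Xe (-t), Xa (1 : K)⁆ := by
    ext
    exacts [h0.trans hc.1.symm, h1.trans hc.2.1.symm, h2.trans hc.2.2.1.symm, h3.trans hc.2.2.2.1.symm,
      h4.trans hc.2.2.2.2.symm, by rw [comm_f_Y (by simp)]; simp [← ht]; ring]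
  exact this ▸ Subgroup.commutator_mem_commutator trivial trivial

theorem Y_le {x : US K} (hx : x ∈ (sY : Subgroup (US K))) : x ∈ commutator (US K) := by
  have hc := c_W (x := Xd x.e) (by simp) (Xb 1)
  have he := comm_e_W (x := Xd x.e) (by simp) (Xb 1)
  have hm : ⁅Xd x.e, Xb (1 : K)⁆ ∈ commutator (US K) := Subgroup.commutator_mem_commutator trivial trivial
  generalize ⁅Xd x.e, Xb (1 : K)⁆ = m at hc he hm
  obtain ⟨h0, h1, h2, h3⟩ := hx
  obtain ⟨k0, k1, k2, k3⟩ := hc
  exact (mul_mem_cancel_left hm).1 (Z_le (by simp [h0, h1, h2, h3, k0, k1, k2, k3, he]))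

theorem W_le {x : US K} (hx : x ∈ (sW : Subgroup (US K))) : x ∈ commutator (US K) := by
  obtain ⟨h0, h1⟩ := hx
  obtain ⟨t, ht⟩ := exists_sub (t := x.c) (by simp [h1])
  have hm : ⁅Xb (1 : K), Xa x.d⁆ * ⁅Xb t, Xb (1 : K)⁆ ∈ commutator (US K) :=
    mul_mem (Subgroup.commutator_mem_commutator trivial trivial) (Subgroup.commutator_mem_commutator trivial trivial)
  refine (mul_mem_cancel_left hm).1 (Y_le ?_)
  simp [comm_a, comm_b, comm_c, comm_d, h0, h1, ← ht]

theorem act_one {k : TF K} (h : ∀ x, (act k x).a = x.a ∧ (act k x).b = x.b) : k = 1 := by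
  have h1 : (k.left.1 : K) = 1 := by simpa [act_apply] using (h (Xa 1)).1
  have h2 : (k.left.2 : K) = 1 := by simpa [act_apply] using (h (Xb 1)).2
  refine SemidirectProduct.ext (Prod.ext (Units.ext h1) (Units.ext h2)) (RingEquiv.ext fun a => ?_)
  simpa [act_apply, h1] using (h (Xa a)).1

end AuS

open AuS

theorem aut_dec (h : Au ⊤ F) : ∃ (r t : K) (φ : K ≃+* K), r ≠ 0 ∧ t ≠ 0 ∧
    ∀ x, (F x).a = r * φ x.a ∧ (F x).b = t * φ x.b := by
  have ha : ∀ x, (F x).a = (F (Xa x.a)).a := fun x => by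
    rw [dec h x (Xa x.a), mul_a, mem_sQ.1 (ch_Q h ((Xa x.a)⁻¹ * x) (by simp)), add_zero]
  have hb : ∀ x, (F x).b = (F (Xb x.b)).b := fun x => by
    rw [dec h x (Xb x.b), mul_b, mem_sR.1 (ch_R h ((Xb x.b)⁻¹ * x) (by simp)), add_zero]
  have hd : ∀ x ∈ (sW : Subgroup (US K)), (F x).d = (F (Xd x.d)).d := fun x hx => by
    have := ch_J h ((Xd x.d)⁻¹ * x) (by simp [hx.1, hx.2])
    rw [dec h x (Xd x.d), mul_d, this.2.1, this.2.2, mul_zero, add_zero, add_zero]
  have hW : ∀ r, F (Xd r) ∈ (sW : Subgroup (US K)) := fun r => ch_W h _ (by simp)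
  obtain ⟨F', h', e', -⟩ := h.exists_inv
  obtain ⟨φ, r, t, hr, ht, e1, e2, -⟩ := exists_aut (h := fun r => (F (Xd r)).d) (f := fun s => (F (Xa s)).a)
    (g := fun t => (F (Xb t)).b) (fun a b => by
      have := hd (Xd a * Xd b) (by simp)
      rw [h.mul _ trivial _ trivial, mul_d, (hW a).1, zero_mul, add_zero] at this
      simpa using this.symm)
    (fun a e => by
      have := ch_J h' _ ⟨(hW a).1, (hW a).2, e⟩
      rw [e' _ trivial] at this
      exact this.2.2)
    fun s t => by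
      have := hd _ (c_top (Xa s) (Xb t))
      rw [h.map_comm trivial trivial, comm_d, comm_d, mem_sQ.1 (ch_Q h (Xb t) (by simp))] at this
      simpa using this.symm
  exact ⟨r, t, φ, hr, ht, fun x => ⟨(ha x).trans (e1 _), (hb x).trans (e2 _)⟩⟩

theorem aut_p (α : MulAut (US K)) (h : ∀ x, (α x).a = x.a ∧ (α x).b = x.b) : ∃ j, α ^ p ^ j = 1 :=
  H62.pElt_of_frattini (pg_US p) fun x =>
    H3.commutator_le_frattini (pg_US p) (W_le (by simp [h x]))

theorem exists_std (h : Sat p u) : ∃ β : US K ≃* US K, Std (u.comp β.toMonoidHom) := by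
  let A : Subgroup (MulAut (US K)) :=
    { carrier := {α | ∀ x, (α x).a = x.a ∧ (α x).b = x.b}
      one_mem' := fun _ => ⟨rfl, rfl⟩
      mul_mem' := fun {α β} ha hb x => ⟨(ha (β x)).1.trans (hb x).1, (ha (β x)).2.trans (hb x).2⟩
      inv_mem' := fun {α} ha x => by
        have := ha (α⁻¹ x)
        rw [MulAut.apply_inv_self] at this
        exact ⟨this.1.symm, this.2.symm⟩ }
  have : A.Normal := ⟨fun α ha β x => by
    obtain ⟨r, t, φ, -, -, e⟩ := aut_dec (Au.equiv β)
    have := e (β⁻¹ x)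
    rw [MulAut.apply_inv_self] at this
    rw [MulAut.mul_apply, MulAut.mul_apply, (e _).1, (e _).2, (ha _).1, (ha _).2]
    exact ⟨this.1.symm, this.2.symm⟩⟩
  have : Finite (MulAut (US K)) := Finite.of_injective (fun α => (α : US K → US K)) DFunLike.coe_injective
  obtain ⟨β, hβ⟩ := h.exists_std (St := (act : TF K →* MulAut (US K)).range) fun X hX =>
    (conj_into (A := A) (fun α => (aut_p α.1 α.2).imp fun _ e => Subtype.ext e)
      (eq_bot_iff.2 (by
        rintro _ ⟨ha, k, rfl⟩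
        rw [act_one ha, map_one]
        exact one_mem _)) hX fun x _ => by
      obtain ⟨r, t, φ, hr, ht, e⟩ := aut_dec (Au.equiv x)
      refine ⟨act ⟨(Units.mk0 r hr, Units.mk0 t ht), φ⟩ * x⁻¹, fun y => ?_, _, (inv_mul_cancel_right _ _).symm⟩
      have := e (x⁻¹ y)
      rw [MulAut.apply_inv_self] at this
      exact ⟨this.1.symm, this.2.symm⟩).imp fun _ k => k.2
  refine ⟨β, fun F hF => ?_⟩
  obtain ⟨s, _, ⟨k, rfl⟩, e⟩ := hβ F hF
  exact ⟨s, _, _, k.right, k.left.1.ne_zero, k.left.2.ne_zero, e⟩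

theorem not_dvd_X (h : Sat p u) : ¬ p ∣ Nat.card ((Gam u).comap (act : TF K →* MulAut (US K))) := by
  have : Finite (RingAut K) := Finite.of_injective (fun α => (α : K → K)) DFunLike.coe_injective
  have : Finite (TF K) := Finite.of_injective (fun k => (k.left, k.right)) fun _ _ e =>
    SemidirectProduct.ext (congrArg Prod.fst e) (congrArg Prod.snd e)
  exact h.not_dvd (act.comp (Subgroup.subtype _)) (fun k => k.2) fun k s e => Subtype.ext (act_one fun x => by
    rw [show act k.1 x = s * x * s⁻¹ from e x]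
    simp)

end Cfsg.Agent.U5F
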