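import Cfsg.Agent.U5F.Top

/-! Project U5F: pairs with a regular element, first part.  See `notes/U5F.md`. -/

set_option autoImplicit false
set_option linter.unusedSectionVars false

namespace Cfsg.Agent.U5F

open US FK
open RFS (Au)
open scoped commutatorElement

variable {K : Type*} [Field K] [Bar K] {G : Type*} [Group G] [Finite G] {p : ℕ} [Fact p.Prime] [CharP K p]
  {u : US K →* G} {E : Subgroup (US K)} {L : Subgroup G} {v e₀ : US K}

namespace ENa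

theorem ex_cz {H : Type*} [Group H] [Finite H] (D₁ D₂ C : Subgroup H) (hn : ∀ a ∈ D₁, ∀ c ∈ C, a * c * a⁻¹ ∈ C) :
    ∃ D : Subgroup H, ∀ a, a ∈ D ↔ a ∈ D₁ ∧ ∀ b ∈ D₂, ⁅a, b⁆ ∈ C :=
  ⟨D₁ ⊓ SR3.St D₂ C, fun a => ⟨fun h => ⟨h.1, h.2.2⟩, fun h => ⟨h.1, SR3.mem_nm_of_conj (hn a h.1), h.2⟩⟩⟩

theorem c_WW {x y : US K} (hx : x ∈ (sW : Subgroup (US K))) (hy : y ∈ (sW : Subgroup (US K))) :
    ⁅x, y⁆ ∈ (sZ : Subgroup (US K)) := by
  obtain ⟨h0, h1, h2, h3⟩ := c_W hx y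
  exact ⟨h0, h1, h2, h3, by simp [comm_e_W hx, hy.1, hy.2]⟩

theorem a_zero {x : US K} (h : ∀ t : K, ⁅x, (Xe t : US K)⁆ = 1) : x.a = 0 :=
  (indep (α := -σ x.a) (β := x.a) fun t => by
    have := comm_f_Y (x := Xe t) (by simp) x
    rw [← commutatorElement_inv, h t] at this
    simp at this
    linear_combination -this).2

/-- the chain `E > C > Z` -/
theorem fin (h : Pr p u E L) {C : Subgroup (US K)} (iC : Iv u E L C) (iZ : Iv u E L sZ) (h1 : sY ≤ C) (h2 : C ≤ sW) :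
    sW ≤ E := fun _ hx => h.chain2 iC iZ (fun e _ => h1 (c_W hx e)) (fun _ hb => c_WW hx (h2 hb))
  fun _ hc => (m_Z hc _).symm

/-- the subgroup `φ = 0` -/
def sA (n : US K) : Subgroup (US K) where
  carrier := {x | x ∈ (sW : Subgroup (US K)) ∧ x.d * σ n.b + n.a * x.c = 0}
  one_mem' := by simp
  mul_mem' := fun {x y} ⟨h0, h1⟩ ⟨k0, k1⟩ => ⟨mul_mem h0 k0, by
    simp [h0.1, h0.2, k0.2]; linear_combination h1 + k1⟩
  inv_mem' := fun {x} ⟨h0, h1⟩ => ⟨inv_mem h0, by simp [h0.1, h0.2]; linear_combination -h1⟩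

theorem reg (h : Pr p u E L) (hV : Om p E ⊥ ≤ sY) (hY : sY ≤ E) {n : US K} (hn : n ∈ E) (ha : n.a ≠ 0) (hb : n.b ≠ 0)
    (nV : ∀ e ∈ E, ⁅n, e⁆ ∈ Om p E ⊥) : sW ≤ E := by
  have sa : σ n.a ≠ 0 := by simpa using ha
  have sb : σ n.b ≠ 0 := by simpa using hb
  have hE : ∀ e ∈ E, ∃ l, σ l = l ∧ e.a = l * n.a ∧ e.b = l * n.b := fun e he => by
    obtain ⟨-, -, h2, h3⟩ := hV (nV e he)
    rw [comm_c] at h2
    rw [comm_d] at h3
    obtain ⟨l, hl, e1⟩ := prop_of (x := n.b) (y := e.b) hb (by linear_combination -h2)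
    refine ⟨l, hl, mul_right_cancel₀ hb ?_, e1⟩
    rw [e1] at h3
    linear_combination -h3
  have ce : ∀ x ∈ (sW : Subgroup (US K)), ∀ e : US K, ∀ l, σ l = l → e.a = l * n.a → e.b = l * n.b →
      ⁅x, e⁆.e = -(l * (x.d * σ n.b + n.a * x.c)) := fun x hx e l hl e1 e2 => by
    rw [comm_e_W hx, e1, e2, map_mul, hl]; ring
  have y0 : ∀ x ∈ (sW : Subgroup (US K)), ∀ m, σ m = m → x.d * σ n.b + n.a * x.c = m * n.a → x ∈ E :=
    fun x hx m hm e => h.chain1 (ivV h) (fun e' he' => by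
      obtain ⟨l, hl, e1, e2⟩ := hE e' he'
      exact mem_V_of hY (fun e he => (hE e he).imp fun _ k => ⟨k.1, k.2.1⟩) (c_W hx e') (l := -(l * m))
        (by rw [map_neg, map_mul, hl, hm]) (by rw [ce x hx e' l hl e1 e2, e]; ring))
      fun b hb => (m_J ⟨(hV hb).1, (hV hb).2.1, (hV hb).2.2.2⟩ hx.1).symm
  have eW : ∀ x ∈ E, x.a = 0 → x ∈ (sW : Subgroup (US K)) := fun x hx h0 => by
    obtain ⟨l, -, e1, e2⟩ := hE x hx
    exact ⟨h0, by rw [e2, (mul_eq_zero.1 (e1.symm.trans h0)).resolve_right ha, zero_mul]⟩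
  have xd : ∀ m, σ m = m → (Xd (m * n.a / σ n.b) : US K) ∈ E := fun m hm =>
    y0 _ (by simp) m hm (by simp [sb])
  have xY : ∀ t : K, (Xe t : US K) ∈ (sY : Subgroup (US K)) := fun t => by simp
  by_cases hp : p = 2
  · subst hp
    have c0 : (2 : K) = 0 := CharTwo.two_eq_zero
    have hJ : sJ ≤ E := fun x hx => y0 x ⟨hx.1, hx.2.1⟩ x.c (by simp [hx.2.1, CharTwo.neg_eq]) (by simp [hx.2.2]; ring)
    have iJ : Iv u E L sJ := h.iv_of hJ fun f hf _ b hb' => by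
      have e1 : f b ^ 2 = 1 := by
        rw [pow_two, ← hf.mul _ (hJ hb') _ (hJ hb'), ← pow_two, pow_p_J 2 hb', hf.one]
      obtain ⟨l, -, e2, e3⟩ := hE _ (hf.mem _ (hJ hb'))
      have e4 := congrArg US.d e1
      rw [pow_d, e2, e3] at e4
      have e5 : l = 0 := by simpa [c0, ha, hb] using e4
      exact sq_W e1 (by rw [e2, e5, zero_mul])
    obtain ⟨C, hC⟩ := ex_cz E sJ ⊥ fun a _ c hc => by simp [Subgroup.mem_bot.1 hc]
    have iC := h.iv_cz h.iv_top iJ h.iv_bot hC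
    have cW : C ≤ sW := fun x hx => eW x ((hC x).1 hx).1 (a_zero fun t => ((hC x).1 hx).2 _ (by simp))
    have qC : ∀ x ∈ E, x.a = 0 → x ∈ C := fun x hx h0 => (hC x).2 ⟨hx, fun b hb' =>
      commutatorElement_eq_one_iff_mul_comm.2 (m_J hb' h0).symm⟩
    have sq : ∀ x ∈ (sW : Subgroup (US K)), x * x ∈ (sZ : Subgroup (US K)) := fun x hx => by
      simp [hx.1, hx.2, CharTwo.add_self_eq_zero]
    refine fin h iC (h.iv_of (Z_le h) fun f hf k z hz => ?_) (fun y hy => qC y (hY hy) hy.1) cW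
    obtain ⟨l, hl⟩ := Finite.surjective_of_injective (frobenius K 2).injective
      (z.f * (σ n.b * n.b) / (n.a * σ n.a))
    rw [frobenius_def] at hl
    have zf : σ z.f = z.f := by simp [hz.1, hz.2.2.2.1, CharTwo.neg_eq]
    have sl : σ l = l := (frobenius K 2).injective (by
      rw [frobenius_def, frobenius_def, ← map_pow, hl]
      simp only [map_div₀, map_mul, σσ, zf]; ring)
    have e : z = Xd (l * n.a / σ n.b) * Xd (l * n.a / σ n.b) := by
      obtain ⟨z0, z1, z2, z3, z4⟩ := sq (Xd (l * n.a / σ n.b)) (by simp)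
      refine US.ext (hz.1.trans z0.symm) (hz.2.1.trans z1.symm) (hz.2.2.1.trans z2.symm)
        (hz.2.2.2.1.trans z3.symm) (hz.2.2.2.2.trans z4.symm) ?_
      have : z.f = l ^ 2 * (n.a * σ n.a) / (σ n.b * n.b) := by rw [hl]; field_simp
      rw [this]
      simp [CharTwo.add_self_eq_zero, sl, CharTwo.sub_eq_add]
      field_simp
    rw [e, hf.mul _ (xd l sl) _ (xd l sl)]
    exact sq _ (cW (k C iC _ (qC _ (xd l sl) rfl)))
  · have two := two_ne (K := K) p hp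
    obtain ⟨ε, e0, he⟩ := exists_skew K
    have iZ : Iv u E L sZ := ivZ2 (A := sA n) h hY hn ha (fun x hx => y0 x hx.1 0 (map_zero _) (by rw [hx.2, zero_mul]))
      (fun a ha' e he' => by
        obtain ⟨l, hl, e1, e2⟩ := hE e he'
        obtain ⟨h0, h1, h2, h3⟩ := c_W ha'.1 e
        exact ⟨h0, h1, h2, h3, by rw [ce a ha'.1 e l hl e1 e2, ha'.2, mul_zero, neg_zero]⟩)
      fun x hx hc => by
        have xW := eW x hx (a_zero fun t => commutatorElement_eq_one_iff_mul_comm.2 (hc _ ⟨by simp, by simp⟩))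
        obtain ⟨m, hm, e1⟩ := V_Y hn ha (SR3.comm_symm (nV x hx)) (c_W xW n)
        rw [comm_e_W xW] at e1
        have e2 := congrArg σ e1
        simp only [map_sub, map_neg, map_mul, σσ, US.hc, xW.2, hm, map_zero] at e2
        have e3 := (comm_Q (x := x) (y := Xd (ε * n.a / σ n.b) * Xc (-ε) (by simp [he])) xW.1 (by simp)).2
        rw [commutatorElement_eq_one_iff_mul_comm.2 (hc _ ⟨by simp, by simp [sb]; ring⟩)] at e3
        simp [he] at e3
        have e4 : n.a * n.b * σ x.d + x.d * (σ n.a * σ n.b) = 0 := by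
          refine mul_left_cancel₀ e0 ?_
          field_simp at e3
          linear_combination -e3
        have e5 : m * (2 * n.a * σ n.a) = 0 := by linear_combination -σ n.a * e1 - n.a * e2 - e4
        rw [(mul_eq_zero.1 e5).resolve_right (mul_ne_zero (mul_ne_zero two ha) sa)] at e1
        exact ⟨xW, by linear_combination -e1⟩
    obtain ⟨C, hC⟩ := ex_cz E E (sZ : Subgroup (US K)) fun a _ c hc => Subgroup.Normal.conj_mem inferInstance c hc a
    refine fin h (h.iv_cz h.iv_top h.iv_top iZ hC) iZ (fun y hy => (hC y).2 ⟨hY hy, fun e _ => c_Y hy e⟩)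
      fun x hx => eW x ((hC x).1 hx).1 ?_
    obtain ⟨l, hl, e1, e2⟩ := hE x ((hC x).1 hx).1
    have e3 := (SR3.comm_symm (((hC x).1 hx).2 _ (xd 1 (map_one _)))).2.2.2.2
    rw [ce _ (by simp) x l hl e1 e2] at e3
    rw [e1]
    simpa [sb] using e3

end ENa

theorem en1 (h : Pr p u E L) (hV : Om p E ⊥ ≤ sY) (he : e₀ ∈ E) (h0 : e₀.a ≠ 0) (hb : e₀.b ≠ 0) : sW ≤ E := by
  have hY := Y_le h fun x hx => (hV hx).1
  obtain ⟨N, hN⟩ := ENa.ex_cz E E (Om p E ⊥) fun a ha c hc => by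
    rwa [(mem_V.1 hc).2.2 a ha, mul_inv_cancel_right]
  by_cases hW : N ≤ sW
  · exact fun x hx => h.chain2 (h.iv_cz h.iv_top h.iv_top (ivV h) hN) (ivV h)
      (fun e _ => (hN _).2 ⟨hY (c_W hx e), fun e' _ => Z_le_V h (c_Y (c_W hx e) e')⟩)
      (fun b hb => Z_le_V h (ENa.c_WW hx (hW hb)))
      fun c hc => (m_J ⟨(hV hc).1, (hV hc).2.1, (hV hc).2.2.2⟩ hx.1).symm
  obtain ⟨n, hn, hn'⟩ := SetLike.not_le_iff_exists.1 hW
  obtain ⟨n1, n2⟩ := (hN n).1 hn
  have e := (hV (n2 e₀ he)).2.2.2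
  rw [comm_d] at e
  refine ENa.reg h hV hY n1 (fun k => hn' ⟨k, ?_⟩) (fun k => hn' ⟨?_, k⟩) n2
  · simpa [k, h0] using e
  · simpa [k, hb] using e

end Cfsg.Agent.U5F
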