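import Cfsg.Agent.U5F.Top

/-! Project U5F: pairs with a regular element, second part.  See `notes/U5F.md`. -/

set_option autoImplicit false
set_option linter.unusedSectionVars false

namespace Cfsg.Agent.U5F

open US FK
open RFS (Au)
open scoped commutatorElement

variable {K : Type*} [Field K] [Bar K] {G : Type*} [Group G] [Finite G] {p : ℕ} [Fact p.Prime] [CharP K p]
  {u : US K →* G} {E : Subgroup (US K)} {L : Subgroup G} {v e₀ : US K}

namespace ENb

/-- the members of `E` that are central modulo `Z` -/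
def N (E : Subgroup (US K)) : Subgroup (US K) where
  carrier := {x | x ∈ E ∧ ∀ e ∈ E, ⁅x, e⁆ ∈ (sZ : Subgroup (US K))}
  one_mem' := ⟨one_mem _, fun e _ => by rw [commutatorElement_one_left]; exact one_mem _⟩
  mul_mem' := fun {a b} ha hb => ⟨mul_mem ha.1 hb.1, fun e he => by
    have := mul_mem (Subgroup.Normal.conj_mem inferInstance _ (hb.2 e he) a) (ha.2 e he)
    convert this using 1
    simp only [commutatorElement_def]; group⟩
  inv_mem' := fun {a} ha => ⟨inv_mem ha.1, fun e he => by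
    have := Subgroup.Normal.conj_mem inferInstance _ (inv_mem (ha.2 e he)) a⁻¹
    convert this using 1
    simp only [commutatorElement_def]; group⟩

theorem mem_Z {x : US K} (hy : x ∈ (sY : Subgroup (US K))) (he : x.e = 0) : x ∈ (sZ : Subgroup (US K)) :=
  ⟨hy.1, hy.2.1, hy.2.2.1, hy.2.2.2, he⟩

theorem c_WW {x y : US K} (hx : x ∈ (sW : Subgroup (US K))) (hy : y ∈ (sW : Subgroup (US K))) :
    ⁅x, y⁆ ∈ (sZ : Subgroup (US K)) :=
  mem_Z (c_W hx y) (by rw [comm_e_W hx, hy.1, hy.2]; simp)

theorem skew {x : US K} (h : x.b = 0) : σ x.c = -x.c := by simp [h]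

end ENb

open ENb in
theorem en2 (h : Pr p u E L) (hV : Om p E ⊥ ≤ sQ) (he : e₀ ∈ E) (h0 : e₀.a ≠ 0) (hb : e₀.b ≠ 0)
    (hv : v ∈ Om p E ⊥) : v.d = 0 := by
  by_contra hd
  have VW := V_W hV he h0
  have vW := VW hv
  have hY := Y_le h hV
  obtain ⟨-, vp, vc⟩ := mem_V.1 hv
  have hp : p ≠ 2 := by
    rintro rfl
    exact hd (sq_W vp vW.1).2.2
  have h2 := two_ne (K := K) p hp
  have R : ∀ e ∈ E, v.d * σ e.b + e.a * v.c = 0 := fun e he => by
    have := comm_e_W vW e
    rw [commutatorElement_eq_one_iff_mul_comm.2 (vc e he).symm, one_e] at this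
    linear_combination this
  have hb' : σ e₀.b ≠ 0 := by simpa using hb
  have hc : v.c ≠ 0 := fun e => by
    have := R e₀ he
    rw [e, mul_zero, add_zero] at this
    exact mul_ne_zero hd hb' this
  have QW : ∀ e ∈ E, e.a = 0 → e ∈ (sW : Subgroup (US K)) := fun e he ha => by
    have := R e he
    rw [ha, zero_mul, add_zero] at this
    exact ⟨ha, by simpa [hd] using this⟩
  have dF : ∀ x ∈ E, x.a = 0 → ∃ l, σ l = l ∧ x.d = l * v.d := fun x hx ha => by
    have := (comm_Q ha vW.1).2
    rw [commutatorElement_eq_one_iff_mul_comm.2 (vc x hx), one_f] at this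
    exact prop_of hd (by linear_combination -this)
  have iZ : Iv u E L sZ := ivZ1 h hY he h0 fun x hx ha k e he' => by
    have xW := QW x hx ha
    obtain ⟨l, hl, el⟩ := dF x hx ha
    have ee : ∀ e ∈ E, ⁅x, e⁆.e = e.a * (l * v.c - x.c) := fun e he => by
      rw [comm_e_W xW, el]; linear_combination (-l) * R e he
    obtain ⟨m, hm, em⟩ := V_Y he h0 (k e₀ he) (c_W xW _)
    rw [ee e₀ he, mul_comm] at em
    have e1 : l * v.c - x.c = m := mul_right_cancel₀ h0 em
    have e2 : l * v.c - x.c = 0 :=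
      skew_fix h2 (by rw [map_sub, map_mul, hl, skew vW.2, skew xW.2]; ring) (by rw [e1, hm])
    exact mem_Z (c_W xW e) (by rw [ee e he', e2, mul_zero])
  by_cases hF : ∀ e ∈ E, ∃ l, σ l = l ∧ e.b = l * e₀.b
  · have hA : ∀ e ∈ E, ∃ l, σ l = l ∧ e.a = l * e₀.a := fun e he' => by
      obtain ⟨l, hl, el⟩ := hF e he'
      refine ⟨l, hl, mul_right_cancel₀ hc ?_⟩
      have r := R e he'
      rw [el, map_mul, hl] at r
      linear_combination r - l * R e₀ he
    have xW : (Xd (-v.d / v.c) : US K) ∈ (sW : Subgroup (US K)) := by simp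
    have hx : (Xd (-v.d / v.c) : US K) ∈ E := by
      refine h.chain2 (ivV h) iZ (fun e he' => ?_) (fun b hb => c_WW xW (VW hb)) fun c hc => (m_Z hc _).symm
      obtain ⟨l, hl, el⟩ := hA e he'
      refine mem_V_of hY hA (c_W xW e) (l := -l) (by rw [map_neg, hl]) ?_
      rw [comm_e_W xW, neg_mul, ← el, Xd_d, Xd_c]
      field_simp
      linear_combination R e he'
    obtain ⟨l, hl, el⟩ := dF _ hx rfl
    rw [Xd_d] at el
    have e1 : l * v.c = -1 := by
      field_simp at el
      linear_combination -el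
    have e2 : l * v.c = 0 := skew_fix h2 (by rw [map_mul, hl, skew vW.2]; ring) (by rw [e1]; simp)
    rw [e2] at e1
    simp at e1
  · push Not at hF
    obtain ⟨e₁, he₁, n1⟩ := hF
    have iN : Iv u E L (N E) := h.iv_cz h.iv_top h.iv_top iZ fun _ => Iff.rfl
    have NW : N E ≤ sW := fun n hn => by
      have nb : n.b = 0 := by
        by_contra nb
        have c0 := (hn.2 e₀ he).2.2.1
        have c1 := (hn.2 e₁ he₁).2.2.1
        rw [comm_c] at c0 c1
        obtain ⟨l, hl, el⟩ := prop_of nb (y := e₀.b) (by linear_combination -c0)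
        obtain ⟨m, hm, em⟩ := prop_of nb (y := e₁.b) (by linear_combination -c1)
        have l0 : l ≠ 0 := left_ne_zero_of_mul (el ▸ hb)
        exact n1 (m / l) (by rw [map_div₀, hl, hm]) (by rw [em, el]; field_simp)
      have := R n hn.1
      rw [nb, map_zero, mul_zero, zero_add] at this
      exact ⟨(mul_eq_zero.1 this).resolve_right hc, nb⟩
    obtain ⟨ε, ε0, hε⟩ := exists_skew K
    have xW : (Xd (ε * v.d) : US K) ∈ (sW : Subgroup (US K)) := by simp
    have hx : (Xd (ε * v.d) : US K) ∈ E :=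
      h.chain2 iN iZ (fun e _ => ⟨hY (c_W xW e), fun e' _ => c_Y (c_W xW e) e'⟩) (fun b hb => c_WW xW (NW hb))
        fun c hc => (m_Z hc _).symm
    obtain ⟨l, hl, el⟩ := dF _ hx rfl
    rw [Xd_d] at el
    exact ε0 (skew_fix h2 hε (by rw [mul_right_cancel₀ hd el, hl]))

end Cfsg.Agent.U5F
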