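import Cfsg.Agent.U5F.Tv

/-! Project U5F: pairs inside `P`.  See `notes/U5F.md`. -/

set_option autoImplicit false
set_option linter.unusedSectionVars false

namespace Cfsg.Agent.U5F

open US FK
open RFS (Au)
open scoped commutatorElement

variable {K : Type*} [Field K] [Bar K] {G : Type*} [Group G] [Finite G] {p : ℕ} [Fact p.Prime] [CharP K p]
  {u : US K →* G} {E : Subgroup (US K)} {L : Subgroup G} {v e₀ : US K}

namespace EP

theorem Z_ext {z w : US K} (hz : z ∈ (sZ : Subgroup (US K))) (hw : w ∈ (sZ : Subgroup (US K))) (h : z.f = w.f) :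
    z = w :=
  US.ext (hz.1.trans hw.1.symm) (hz.2.1.trans hw.2.1.symm) (hz.2.2.1.trans hw.2.2.1.symm)
    (hz.2.2.2.1.trans hw.2.2.2.1.symm) (hz.2.2.2.2.trans hw.2.2.2.2.symm) h

theorem Z_skew {z : US K} (hz : z ∈ (sZ : Subgroup (US K))) : σ z.f = -z.f := by
  simp [hz.1, hz.2.2.2.1]

theorem Z_ne {z : US K} (hz : z ∈ (sZ : Subgroup (US K))) (h : z ≠ 1) : z.f ≠ 0 := fun k =>
  h (Z_ext hz (one_mem _) k)

theorem pow_Z (p : ℕ) [CharP K p] {x : US K} (hx : x ∈ (sP : Subgroup (US K))) :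
    x ^ p ∈ (sZ : Subgroup (US K)) := by
  simp [pow_a, pow_b, pow_c, pow_d, pow_e, hx.1, hx.2]

/-- the centre of `E` -/
def Zc (E : Subgroup (US K)) : Subgroup (US K) := E ⊓ Subgroup.centralizer (E : Set (US K))

theorem mem_Zc {x : US K} : x ∈ Zc E ↔ x ∈ E ∧ ∀ e ∈ E, e * x = x * e := Iff.rfl

theorem ivZc (h : Pr p u E L) : Iv u E L (Zc E) := h.iv_cz h.iv_top h.iv_top h.iv_bot fun a => by
  simp only [mem_Zc, Subgroup.mem_bot, commutatorElement_eq_one_iff_mul_comm]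
  exact and_congr_right fun _ => forall₂_congr fun _ _ => eq_comm

/-- `E / Z` is a space over the fixed field -/
theorem scale (h : Pr p u E L) (hE : E ≤ sP) {x y : US K} {l : K} (hx : x ∈ E) (hl : σ l = l)
    (hy : y ∈ (sP : Subgroup (US K))) (ha : y.a = l * x.a) (hd : y.d = l * x.d) (he : y.e = l * x.e) : y ∈ E := by
  refine h.chain1 (ivZc h) (fun e k => ?_) fun b hb => ?_
  · have z := c_PP hy (hE k)
    exact ⟨Z_le h z, fun e' _ => (m_Z z e').symm⟩
  · have := (comm_iff_P (hE hx) (hE hb.1)).1 (hb.2 x hx)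
    rw [comm_iff_P hy (hE hb.1), ha, hd, he]
    simp only [map_mul, hl]
    linear_combination l * this

theorem of_ivZ (h : Pr p u E L) (hE : E ≤ sP) (iZ : Iv u E L sZ) : E = sP :=
  le_antisymm hE fun x hx => h.chain1 iZ (fun _ he => c_PP hx (hE he)) fun _ hb => (m_Z hb x).symm

theorem nab (h : Pr p u E L) (hE : E ≤ sP) {x y : US K} (hx : x ∈ E) (hy : y ∈ E) (k : x * y ≠ y * x) :
    Iv u E L sZ := by
  have e : (sZ : Subgroup (US K)) = ⁅E, E⁆ := by
    refine le_antisymm (fun z hz => ?_) (Subgroup.commutator_le.2 fun a ha b hb => c_PP (hE ha) (hE hb))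
    have c := c_PP (hE hx) (hE hy)
    have n := Z_ne c fun e => k (commutatorElement_eq_one_iff_mul_comm.1 e)
    have hl := skew_div (Z_skew hz) (Z_skew c)
    obtain ⟨l, el⟩ : ∃ l, l = z.f / ⁅x, y⁆.f := ⟨_, rfl⟩
    rw [← el] at hl
    obtain ⟨x', h0, h1, h2, h3⟩ := exists_P (l * x.a) (l * x.d) (l * x.e)
    have : z = ⁅x', y⁆ := Z_ext hz (c_PP h0 (hE hy)) (by
      have : z.f = l * ⁅x, y⁆.f := by rw [el]; field_simp
      rw [this, comm_P h0 (hE hy), comm_P (hE hx) (hE hy), h1, h2, h3]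
      simp only [map_mul, hl]
      ring)
    exact this ▸ Subgroup.commutator_mem_commutator (scale h hE hx hl h0 h1 h2 h3) hy
  exact e ▸ h.iv_comm h.iv_top h.iv_top

theorem sq_f {x : US K} [CharP K 2] (hx : x ∈ (sP : Subgroup (US K))) :
    (x ^ 2).f = -(x.a * σ x.e + x.d * σ x.d + x.e * σ x.a) := by
  have c0 : ((2 : ℕ) : K) = 0 := CharP.cast_eq_zero K 2
  rw [pow_f, c0]
  simp [hx.1, hx.2, Nat.choose]

theorem sq_root [CharP K 2] {t : K} (ht : σ t = t) : ∃ l, σ l = l ∧ l ^ 2 = t := by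
  obtain ⟨l, hl⟩ := (Finite.injective_iff_surjective.1 (frobenius K 2).injective) t
  rw [frobenius_def] at hl
  refine ⟨l, (frobenius K 2).injective ?_, hl⟩
  rw [frobenius_def, frobenius_def, ← map_pow, hl, ht]

theorem npow (h : Pr p u E L) (hE : E ≤ sP) {x : US K} (hx : x ∈ E) (k : x ^ p ≠ 1) : Iv u E L sZ := by
  obtain rfl : p = 2 := by
    by_contra hp
    exact k (pow_p_P p hp (hE hx).1 (hE hx).2)
  refine h.iv_of (Z_le h) fun f hf _ z hz => ?_
  have c := pow_Z 2 (hE hx)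
  have n := Z_ne c k
  obtain ⟨l, hl, el⟩ := sq_root (skew_div (Z_skew hz) (Z_skew c))
  obtain ⟨x', h0, h1, h2, h3⟩ := exists_P (l * x.a) (l * x.d) (l * x.e)
  have m := scale h hE hx hl h0 h1 h2 h3
  have : z = x' ^ 2 := Z_ext hz (pow_Z 2 h0) (by
    have : z.f = l ^ 2 * (x ^ 2).f := by rw [el]; field_simp
    rw [this, sq_f h0, sq_f (hE hx), h1, h2, h3]
    simp only [map_mul, hl]
    ring)
  rw [this, sq, hf.mul _ m _ m, ← sq]
  exact pow_Z 2 (hE (hf.mem _ m))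

/-- the commutator form -/
def fm (x y : US K) : K :=
  y.a * σ x.e + y.e * σ x.a + y.d * σ x.d - (x.a * σ y.e + x.e * σ y.a + x.d * σ y.d)

theorem fm_skew (x y : US K) : σ (fm x y) = -fm x y := by
  simp [fm]; ring

/-- an element of `P` with coordinates `l · w` -/
noncomputable def sc (w : US K) (l : K) : US K := Xe (l * w.e) * Xd (l * w.d) * Xa (l * w.a)

theorem sc_P (w : US K) (l : K) : sc w l ∈ (sP : Subgroup (US K)) := ⟨by simp [sc], by simp [sc]⟩
theorem sc_a (w : US K) (l : K) : (sc w l).a = l * w.a := by simp [sc]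
theorem sc_d (w : US K) (l : K) : (sc w l).d = l * w.d := by simp [sc]
theorem sc_e (w : US K) (l : K) : (sc w l).e = l * w.e := by simp [sc]

theorem div_P {x y : US K} (hx : x ∈ (sP : Subgroup (US K))) (hy : y ∈ (sP : Subgroup (US K))) :
    (x⁻¹ * y).a = y.a - x.a ∧ (x⁻¹ * y).d = y.d - x.d ∧ (x⁻¹ * y).e = y.e - x.e := by
  refine ⟨?_, ?_, ?_⟩ <;> simp [hx.1, hx.2, hy.1, hy.2] <;> ring

theorem mul_P {x y : US K} (hy : y ∈ (sP : Subgroup (US K))) :
    (x * y).a = x.a + y.a ∧ (x * y).d = x.d + y.d ∧ (x * y).e = x.e + y.e := by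
  refine ⟨?_, ?_, ?_⟩ <;> simp [hy.1, hy.2]

theorem span (h : Pr p u E L) (hE : E ≤ sP) (ab : ∀ a ∈ E, ∀ b ∈ E, a * b = b * a) (pw : ∀ a ∈ E, a ^ p = 1)
    {w y : US K} (hw : w ∈ (sP : Subgroup (US K))) (nw : w ∉ E) (hy : y ∈ (sP : Subgroup (US K))) :
    ∃ l, σ l = l ∧ ∃ e ∈ E, y.a = l * w.a + e.a ∧ y.d = l * w.d + e.d ∧ y.e = l * w.e + e.e := by
  obtain ⟨ε, e0, hε⟩ := exists_skew K
  have o : Off p E ⊥ E (fun l : Fx K => sc w l.1) fun x => (⟨fm w x / ε, skew_div (fm_skew w x) hε⟩ : Fx K) := by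
    refine ⟨fun i => .of_comm fun e he => Z_le h (c_PP (sc_P _ _) (hE he)),
      fun i j => Z_le h (c_PP (sc_P _ _) (sc_P _ _)), fun i => Z_le h (pow_Z p (sc_P _ _)), fun i j k => ?_,
      ⟨⟨1, map_one _⟩, fun k => nw (scale h hE k (map_one σ) hw ?_ ?_ ?_)⟩, fun a ha b hb k i => ?_⟩
    · by_contra n
      have n' : j.1 - i.1 ≠ 0 := sub_ne_zero.2 fun e => n (Subtype.ext e.symm)
      obtain ⟨h1, h2, h3⟩ := div_P (sc_P w i.1) (sc_P w j.1)
      refine nw (scale h hE (l := (j.1 - i.1)⁻¹) k (by rw [map_inv₀, map_sub, i.2, j.2]) hw ?_ ?_ ?_)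
      · rw [h1, sc_a, sc_a]; field_simp
      · rw [h2, sc_d, sc_d]; field_simp
      · rw [h3, sc_e, sc_e]; field_simp
    · rw [sc_a]; simp
    · rw [sc_d]; simp
    · rw [sc_e]; simp
    · have k' : fm w a = fm w b := (div_left_inj' e0).1 (congrArg Subtype.val k)
      obtain ⟨h1, h2, h3⟩ := div_P (hE ha) (hE hb)
      rw [Subgroup.mem_bot, commutatorElement_eq_one_iff_mul_comm,
        comm_iff_P (sc_P _ _) (hE (mul_mem (inv_mem ha) hb)), h1, h2, h3, sc_a, sc_d, sc_e]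
      simp only [map_mul, map_sub, i.2]
      simp only [fm] at k'
      linear_combination i.1 * k'
  obtain ⟨i, e, he, rfl⟩ := tv h ab pw o fun e he => Z_le h (c_PP hy (hE he))
  obtain ⟨h1, h2, h3⟩ := mul_P (x := sc w i.1) (hE he)
  exact ⟨i.1, i.2, e, he, by rw [h1, sc_a], by rw [h2, sc_d], by rw [h3, sc_e]⟩

theorem not_el (h : Pr p u E L) (hE : E ≤ sP) (ab : ∀ a ∈ E, ∀ b ∈ E, a * b = b * a) (pw : ∀ a ∈ E, a ^ p = 1) :
    False := by
  obtain ⟨θ, hθ⟩ := exists_σ_ne K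
  have pe : ∀ t : K, Xe t ∈ (sP : Subgroup (US K)) := fun t => ⟨rfl, rfl⟩
  have pd : ∀ t : K, Xd t ∈ (sP : Subgroup (US K)) := fun t => ⟨rfl, rfl⟩
  have pa : ∀ t : K, Xa t ∈ (sP : Subgroup (US K)) := fun t => ⟨rfl, rfl⟩
  obtain ⟨t, t0, ht⟩ : ∃ t : K, t ≠ 0 ∧ Xe t ∈ E := by
    by_contra n
    push Not at n
    obtain ⟨l, hl, e, he, h1, h2, h3⟩ := span h hE ab pw (pe 1) (n 1 one_ne_zero) (pe θ)
    simp only [Xe_a, Xe_d, Xe_e, mul_zero, zero_add, mul_one] at h1 h2 h3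
    refine n (θ - l) (sub_ne_zero.2 fun k => hθ (k ▸ hl)) (scale h hE he (map_one σ) (pe _) ?_ ?_ ?_)
    · simp [← h1]
    · simp [← h2]
    · simp [h3]
  have s0 : σ t ≠ 0 := by simpa using t0
  have nw : Xa (θ * t) ∉ E := fun k => by
    have := (comm_iff_P (pa _) (pe _)).1 (ab _ k _ ht)
    simp only [Xa_a, Xa_d, Xa_e, Xe_a, Xe_d, Xe_e, map_mul, map_zero, mul_zero, add_zero, zero_add] at this
    exact hθ (mul_left_cancel₀ (mul_ne_zero t0 s0) (by linear_combination -this))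
  have hd : ∀ s : K, Xd s ∈ E := fun s => by
    obtain ⟨l, hl, e, he, h1, h2, h3⟩ := span h hE ab pw (pa _) nw (pd s)
    simp only [Xa_a, Xa_d, Xa_e, Xd_a, Xd_d, Xd_e, mul_zero, zero_add] at h1 h2 h3
    have c := (comm_iff_P (hE he) (pe _)).1 (ab _ he _ ht)
    have ea : e.a = -(l * (θ * t)) := by linear_combination -h1
    rw [ea] at c
    simp only [Xe_a, Xe_d, Xe_e, map_mul, map_neg, hl, map_zero, mul_zero, zero_mul, add_zero, zero_add] at c
    have l0 : l = 0 := by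
      have : l * ((σ θ - θ) * (t * σ t)) = 0 := by linear_combination c
      exact (mul_eq_zero.1 this).resolve_right (mul_ne_zero (sub_ne_zero.2 hθ) (mul_ne_zero t0 s0))
    refine scale h hE he (map_one σ) (pd _) ?_ ?_ ?_
    · simp [ea, l0]
    · simp [← h2]
    · simp [← h3]
  have := (comm_iff_P (pd 1) (pd θ)).1 (ab _ (hd _) _ (hd _))
  simp only [Xd_a, Xd_d, Xd_e, map_one, map_zero, mul_zero, add_zero, zero_add, one_mul, mul_one] at this
  exact hθ this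

end EP

theorem eqP (h : Pr p u E L) (hE : E ≤ sP) : E = sP := by
  by_cases ab : ∀ a ∈ E, ∀ b ∈ E, a * b = b * a
  · by_cases pw : ∀ a ∈ E, a ^ p = 1
    · exact (EP.not_el h hE ab pw).elim
    · push Not at pw
      obtain ⟨x, hx, k⟩ := pw
      exact EP.of_ivZ h hE (EP.npow h hE hx k)
  · push Not at ab
    obtain ⟨x, hx, y, hy, k⟩ := ab
    exact EP.of_ivZ h hE (EP.nab h hE hx hy k)

end Cfsg.Agent.U5F
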