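import Cfsg.Agent.U5F.Top

/-! Project U5F: pairs inside `R`, first part.  See `notes/U5F.md`. -/

set_option autoImplicit false
set_option linter.unusedSectionVars false

namespace Cfsg.Agent.U5F

open US FK
open RFS (Au)
open scoped commutatorElement

variable {K : Type*} [Field K] [Bar K] {G : Type*} [Group G] [Finite G] {p : ℕ} [Fact p.Prime] [CharP K p]
  {u : US K →* G} {E : Subgroup (US K)} {L : Subgroup G} {v e₀ : US K}

namespace ERa

theorem c_DR {x y : US K} (hx : x ∈ (sD : Subgroup (US K))) (hy : y ∈ (sR : Subgroup (US K))) :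
    ⁅x, y⁆ ∈ (sZ : Subgroup (US K)) := by
  simp [comm_a, comm_b, comm_c, comm_d, comm_e_W ⟨hx.1, hx.2.1⟩, hx.1, hx.2.1, hx.2.2, mem_sR.1 hy]

theorem skew {x : US K} (hx : x ∈ (sR : Subgroup (US K))) : σ x.c = -x.c := by simp [mem_sR.1 hx]

theorem Y_comm (hR : sR ≤ E) (hR' : E ≤ sR) (he : e₀ ∈ E) (h0 : e₀.a ≠ 0) : ⁅E, E⁆ = sY := by
  refine le_antisymm (Subgroup.commutator_le.2 fun x hx y hy => c_RR (hR' hx) (hR' hy)) fun y hy => ?_
  obtain ⟨ε, h1, h2⟩ := exists_skew K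
  have m1 : (Xa (y.e / ε) : US K) ∈ (sR : Subgroup (US K)) := rfl
  have m2 : (Xc ε h2 : US K) ∈ (sR : Subgroup (US K)) := rfl
  have g1 := c_RR m1 m2
  have g2 : ⁅(Xa (y.e / ε) : US K), Xc ε h2⁆.e = y.e := by
    rw [comm_e_R m1 m2]; simp [h1]
  have g3 := Subgroup.commutator_mem_commutator (hR m1) (hR m2)
  generalize ⁅(Xa (y.e / ε) : US K), Xc ε h2⁆ = g at g1 g2 g3
  have z : y * g⁻¹ ∈ (sZ : Subgroup (US K)) := by
    simp [hy.1, hy.2.1, hy.2.2.1, hy.2.2.2, g1.1, g1.2.1, g1.2.2.1, g1.2.2.2, g2]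
  obtain ⟨y', hy', e⟩ := exists_comm_Y h0 z
  have := mul_mem (Subgroup.commutator_mem_commutator (hR (show y' ∈ sR from hy'.2.1)) he) g3
  rwa [← e, inv_mul_cancel_right] at this

end ERa

open ERa

theorem er_D (h : Pr p u E L) (hR : E ≤ sR) (hV : Om p E ⊥ ≤ sQ) (he : e₀ ∈ E) (h0 : e₀.a ≠ 0) :
    sD ≤ E ∧ Om p E ⊥ ≤ sY := by
  by_cases hp : p = 2
  · subst hp
    have hY : Om 2 E ⊥ ≤ sY := fun v hv => V_J hV he h0 hv (sq_W (mem_V.1 hv).2.1 (hV hv)).2.2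
    exact ⟨fun x hx => h.chain1 (ivV h) (fun e k => Z_le_V h (c_DR hx (hR k))) fun b hb =>
      (m_J ⟨(hY hb).1, (hY hb).2.1, (hY hb).2.2.2⟩ hx.1).symm, hY⟩
  · have hD : sD ≤ E := fun x hx => h.chain1 (ivZ_R h hp hR (Y_le h hV) he h0) (fun e k => c_DR hx (hR k))
      fun b hb => (m_Z hb x).symm
    refine ⟨hD, fun v hv => V_J hV he h0 hv ?_⟩
    have := (indep (α := σ v.d) (β := -v.d) fun t => by
      have c := (mem_V.1 hv).2.2 (Xd t) (hD ⟨rfl, rfl, rfl⟩)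
      have f := (comm_Q (x := v) (y := Xd t) (hV hv) rfl).2
      rw [commutatorElement_eq_one_iff_mul_comm.2 c.symm, one_f, Xd_d] at f
      linear_combination -f).2
    simpa using this

theorem er_span (h : Pr p u E L) (hR : E ≤ sR) (hD : sD ≤ E) (hV : Om p E ⊥ ≤ sY) (he : e₀ ∈ E) (h0 : e₀.a ≠ 0)
    (hc : e₀.c ≠ 0) : ∀ e ∈ E, ∃ l, σ l = l ∧ e.a = l * e₀.a := by
  intro e₁ he₁
  by_contra hn
  have h1 : e₁.a ≠ 0 := fun k => hn ⟨0, map_zero _, by rw [k, zero_mul]⟩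
  have eZ : Om p E ⊥ = sZ := le_antisymm (fun v hv => by
    obtain ⟨l, hl, e⟩ := V_Y he h0 hv (hV hv)
    obtain ⟨l', hl', e'⟩ := V_Y he₁ h1 hv (hV hv)
    refine ⟨(hV hv).1, (hV hv).2.1, (hV hv).2.2.1, (hV hv).2.2.2, by_contra fun k => hn ?_⟩
    have n : l' ≠ 0 := fun k' => k (by rw [e', k', zero_mul])
    exact ⟨l / l', by rw [map_div₀, hl, hl'], by field_simp; linear_combination e - e'⟩) (Z_le_V h)
  have iZ : Iv u E L sZ := eZ ▸ ivV h
  have iD : Iv u E L sD := h.iv_cz h.iv_top h.iv_top iZ fun x =>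
    ⟨fun hx => ⟨hD hx, fun b hb => c_DR hx (hR hb)⟩, fun ⟨hx, k⟩ => by
      have k0 := (k e₀ he).2.2.2.2
      have k1 := (k e₁ he₁).2.2.2.2
      rw [comm_e_R (hR hx) (hR he)] at k0
      rw [comm_e_R (hR hx) (hR he₁)] at k1
      have c : x.c = 0 := by_contra fun c => hn ⟨e₁.c / e₀.c, skew_div (skew (hR he₁)) (skew (hR he)), by
        field_simp
        exact mul_right_cancel₀ c (by linear_combination e₁.c * k0 - e₀.c * k1)⟩
      exact ⟨by simpa [c, hc] using k0, hR hx, c⟩⟩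
  have hR' : sR ≤ E := fun x hx => h.chain2 iD iZ
    (fun e k => let y := c_RR hx (hR k); ⟨y.1, y.2.1, y.2.2.1⟩) (fun b hb => SR3.comm_symm (c_DR hb hx))
    fun c hc => (m_Z hc x).symm
  exact top h (fun x hx => hR' hx.2) he h0 (Y_comm hR' hR he h0 ▸ h.iv_comm h.iv_top h.iv_top)

end Cfsg.Agent.U5F
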