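import Cfsg.Agent.U5F.Top

/-! Project U5F: pairs inside `R`, second part.  See `notes/U5F.md`. -/

set_option autoImplicit false
set_option linter.unusedSectionVars false

namespace Cfsg.Agent.U5F

open US FK
open RFS (Au)
open scoped commutatorElement

variable {K : Type*} [Field K] [Bar K] {G : Type*} [Group G] [Finite G] {p : ℕ} [Fact p.Prime] [CharP K p]
  {u : US K →* G} {E : Subgroup (US K)} {L : Subgroup G} {v e₀ : US K}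

namespace ERb

theorem Y_D : (sY : Subgroup (US K)) ≤ sD := fun _ h => ⟨h.1, h.2.1, h.2.2.1⟩

theorem skew_c {x : US K} (h : x ∈ (sR : Subgroup (US K))) : σ x.c = -x.c := by simp [mem_sR.1 h]

theorem comm_d {x z : US K} (hx : x ∈ (sW : Subgroup (US K))) (hd : x.d ≠ 0) (hz : z ∈ (sZ : Subgroup (US K))) :
    ∃ t, ⁅x, Xd t⁆ = z := by
  obtain ⟨h0, h1, h2, h3, h4⟩ := hz
  obtain ⟨t, ht⟩ := exists_skew_eq hd (s := -z.f) (by simp [h0, h3])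
  refine ⟨t, ?_⟩
  ext
  · rw [comm_a, h0]
  · rw [comm_b, h1]
  · simp [comm_c, h2, hx.2]
  · simp [US.comm_d, h3, hx.1]
  · simp [(comm_Q hx.1 (Xd_a t)).1, h4, hx.2]
  · rw [(comm_Q hx.1 (Xd_a t)).2, Xd_d]; linear_combination -ht

theorem glue {x y z : US K} (hx : x ∈ (sR : Subgroup (US K))) (hR : E ≤ sR) (hy : y ∈ E)
    (hz : z ∈ (sY : Subgroup (US K))) (e : ⁅x, y⁆.e = z.e)
    (k : ∀ z ∈ (sZ : Subgroup (US K)), ∃ y ∈ E, ⁅x, y⁆ = z) : ∃ y ∈ E, ⁅x, y⁆ = z := by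
  obtain ⟨h0, h1, h2, h3⟩ := c_RR hx (hR hy)
  have : ⁅x, y⁆⁻¹ * z ∈ (sZ : Subgroup (US K)) := by
    generalize ⁅x, y⁆ = w at *
    simp [h0, h1, h2, h3, e, hz.1, hz.2.1, hz.2.2.1, hz.2.2.2]
  obtain ⟨y', hy', e'⟩ := k _ this
  refine ⟨_, mul_mem hy hy', ?_⟩
  rw [SR3.comm_mul_right, e', ← m_Z this, mul_inv_cancel_right, mul_inv_cancel_left]

section two

variable [CharP K 2] (h : Pr 2 u E L) (hR : E ≤ sR) (hD : sD ≤ E) (hV : Om 2 E ⊥ ≤ sY) (he : e₀ ∈ E) (h0 : e₀.a ≠ 0)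
  (hl : ∀ e ∈ E, ∃ l, σ l = l ∧ e.a = l * e₀.a)
include h hR hD hV he h0 hl

theorem mem_E {x : US K} (hx : x ∈ (sR : Subgroup (US K))) {l : K} (h1 : σ l = l) (h2 : x.a = l * e₀.a) : x ∈ E := by
  refine h.chain1 (ivV h) (fun e he' => ?_) fun b hb => ?_
  · obtain ⟨m, k1, k2⟩ := hl e he'
    refine mem_V_of (Y_D.trans hD) hl (c_RR hx (hR he')) (l := l * e.c - m * x.c) ?_ ?_
    · rw [map_sub, map_mul, map_mul, h1, k1, skew_c hx, skew_c (hR he'), CharTwo.neg_eq, CharTwo.neg_eq]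
    · rw [comm_e_R hx (hR he'), h2, k2]; ring
  obtain ⟨m, k1, k2⟩ := V_Y he h0 hb (hV hb)
  obtain ⟨a0, a1, a2, a3, a4⟩ := c_Y (hV hb) x
  refine (commutatorElement_eq_one_iff_mul_comm.1 (US.ext a0 a1 a2 a3 a4 ?_)).symm
  rw [comm_f_Y (hV hb), k2, h2, map_mul, map_mul, h1, k1, one_f]; ring

theorem onto {x z : US K} (hx : x ∈ E) (h1 : x ∉ (sD : Subgroup (US K))) (h2 : x ∉ (sJ : Subgroup (US K)))
    (hz : z ∈ Om 2 E ⊥) : ∃ y ∈ E, ⁅x, y⁆ = z := by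
  obtain ⟨m, k1, k2⟩ := V_Y he h0 hz (hV hz)
  obtain ⟨l, k3, k4⟩ := hl x hx
  have hb := mem_sR.1 (hR hx)
  by_cases a0 : x.a = 0
  · have c0 : x.c ≠ 0 := fun c0 => h1 ⟨a0, hb, c0⟩
    refine glue (y := Xa (-(m / x.c) * e₀.a)) (hR hx) hR (mem_E h hR hD hV he h0 hl rfl ?_ rfl) (hV hz) ?_ fun z hz => ?_
    · rw [map_neg, map_div₀, k1, skew_c (hR hx), CharTwo.neg_eq x.c]
    · rw [comm_e_R hb rfl, k2, a0, Xa_a]; field_simp; ring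
    · obtain ⟨t, ht⟩ := comm_d ⟨a0, hb⟩ (fun d0 => h2 ⟨a0, hb, d0⟩) hz
      exact ⟨_, hD ⟨rfl, rfl, rfl⟩, ht⟩
  have l0 : l ≠ 0 := fun l0 => a0 (by rw [k4, l0, zero_mul])
  refine glue (y := Xc (m / l) (by rw [map_div₀, k1, k3, CharTwo.neg_eq])) (hR hx) hR
    (mem_E h hR hD hV he h0 hl rfl (map_zero σ) (zero_mul _).symm) (hV hz) ?_ fun z hz => ?_
  · rw [comm_e_R hb rfl, k2, k4, Xc_a, Xc_c]; field_simp; ring
  · obtain ⟨y, hy, e⟩ := exists_comm_Y a0 (inv_mem hz)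
    exact ⟨y, hD (Y_D hy), by rw [← commutatorElement_inv, ← e, inv_inv]⟩

theorem ivD : Iv u E L sD := by
  refine h.iv_of hD fun f hf hi x hx => by_contra fun hn => ?_
  have k : ∀ x ∈ (sD : Subgroup (US K)), f x ∈ (sD : Subgroup (US K)) ∨ f x ∈ (sJ : Subgroup (US K)) := fun x hx => by
    by_contra! c
    have v : Xe e₀.a ∈ Om 2 E ⊥ := mem_V_of (Y_D.trans hD) hl ⟨rfl, rfl, rfl, rfl⟩ (map_one σ) (one_mul _).symm
    obtain ⟨y', hy', e⟩ := onto h hR hD hV he h0 hl (hf.mem x (hD hx)) c.1 c.2 (hi _ (ivV h) _ v)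
    obtain ⟨y, hy, rfl⟩ := hf.sur y' hy'
    rw [← hf.map_comm (hD hx) hy] at e
    have := congrArg US.e (hf.inj _ (hD (Y_D (c_RR hx.2.1 (hR hy)))) _ (mem_V.1 v).1 e)
    rw [comm_e_R hx.2.1 (hR hy), hx.1, hx.2.2, Xe_e] at this
    exact h0 (by linear_combination -this)
  obtain ⟨θ, hθ⟩ := exists_σ_ne K
  have m : ∀ t : K, Xd t ∈ (sD : Subgroup (US K)) := fun t => ⟨rfl, rfl, rfl⟩
  obtain ⟨t, ht⟩ : ∃ t : K, f (Xd t) ∉ (sJ : Subgroup (US K)) := by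
    by_contra! c
    have := congrArg US.f (hf.inj _ (hD (mul_mem (m 1) (m θ))) _ (hD (mul_mem (m θ) (m 1)))
      (by rw [hf.mul _ (hD (m 1)) _ (hD (m θ)), hf.mul _ (hD (m θ)) _ (hD (m 1)), m_J (c 1) (c θ).1]))
    simp at this
    exact hθ (by linear_combination -this)
  obtain ⟨a0, a1, a2⟩ := (k _ (m t)).resolve_right ht
  obtain ⟨b0, b1, b2⟩ := (k _ hx).resolve_left hn
  have := k _ (mul_mem hx (m t))
  rw [hf.mul _ (hD hx) _ (hD (m t))] at this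
  rcases this with c | c
  · exact hn ⟨b0, b1, by simpa [a1, a2] using c.2.2⟩
  · exact ht ⟨a0, a1, by simpa [b0, b2] using c.2.2⟩

end two

end ERb

open ERb in
theorem er_line (h : Pr p u E L) (hR : E ≤ sR) (hD : sD ≤ E) (hV : Om p E ⊥ ≤ sY) (he : e₀ ∈ E) (h0 : e₀.a ≠ 0)
    (hl : ∀ e ∈ E, ∃ l, σ l = l ∧ e.a = l * e₀.a) : False := by
  by_cases hp : p = 2
  · subst hp
    obtain ⟨θ, hθ⟩ := exists_σ_ne K
    have i := ivD h hR hD hV he h0 hl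
    obtain ⟨l, h1, h2⟩ := hl (Xa (θ * e₀.a)) (h.chain2 i (h.iv_comm i i) (fun e he => Y_D (c_RR rfl (hR he)))
      (fun b hb => by
        obtain ⟨t, ht⟩ := ERb.comm_d (x := Xd 1) ⟨rfl, rfl⟩ one_ne_zero (c_PP (x := Xa (θ * e₀.a)) ⟨rfl, rfl⟩ hb.2)
        exact ht ▸ Subgroup.commutator_mem_commutator ⟨rfl, rfl, rfl⟩ ⟨rfl, rfl, rfl⟩)
      fun c hc => (m_Z ((Subgroup.commutator_le (H₁ := sD) (H₂ := sD)).2 (fun a ha b hb => c_PP ha.2 hb.2) hc) _).symm)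
    exact hθ (mul_right_cancel₀ h0 h2 ▸ h1)
  obtain ⟨ε, e0, hε⟩ := exists_skew K
  obtain ⟨l, h1, h2⟩ := hl (Xa (ε * e₀.a)) (h.chain2 (ivV h) (ivZ_R h hp hR (Y_D.trans hD) he h0)
    (fun e he => mem_V_of (Y_D.trans hD) hl (c_RR rfl (hR he)) (l := ε * e.c)
      (by rw [map_mul, hε, skew_c (hR he), neg_mul_neg]) (by rw [comm_e_R rfl (hR he), Xa_a, Xa_c]; ring))
    (fun b hb => commutatorElement_inv b _ ▸ inv_mem (c_Y (hV hb) _)) fun c hc => (m_Z hc _).symm)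
  exact e0 (skew_fix (two_ne p hp) hε (mul_right_cancel₀ h0 h2 ▸ h1))

end Cfsg.Agent.U5F
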