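import Cfsg.Agent.U5F.Tv

/-! Project U5F: no regular element is central.  See `notes/U5F.md`. -/

set_option autoImplicit false
set_option linter.unusedSectionVars false

namespace Cfsg.Agent.U5F

open US FK
open RFS (Au)
open scoped commutatorElement

variable {K : Type*} [Field K] [Bar K] {G : Type*} [Group G] [Finite G] {p : ℕ} [Fact p.Prime] [CharP K p]
  {u : US K →* G} {E : Subgroup (US K)} {L : Subgroup G} {v e₀ : US K}

namespace I1

theorem prop {x : US K} (ha : v.a ≠ 0) (hb : v.b ≠ 0) (h : x * v = v * x) :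
    ∃ l, σ l = l ∧ x.a = l * v.a ∧ x.b = l * v.b := by
  have h1 := congrArg US.c h
  have h2 := congrArg US.d h
  simp only [mul_c, mul_d] at h1 h2
  obtain ⟨l, hl, e⟩ := prop_of (x := v.b) (y := x.b) hb (by linear_combination h1)
  refine ⟨l, hl, mul_right_cancel₀ hb ?_, e⟩
  rw [e] at h2
  linear_combination h2

theorem con {x : US K} {l : K} (h : x * v = v * x) (hl : σ l = l) (h1 : x.a = l * v.a) (h2 : x.b = l * v.b) :
    v.a * x.c = l * v.a * v.c - (x.d - l * v.d) * σ v.b ∧
    v.a * v.b * (σ x.d - l * σ v.d) + σ v.a * σ v.b * (x.d - l * v.d) =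
      (l ^ 2 - l) * (σ v.a * σ v.b * (v.a * v.b)) := by
  have e := congrArg US.e h
  simp only [mul_e, h1, h2, map_mul, hl] at e
  have e1 : v.a * x.c = l * v.a * v.c - (x.d - l * v.d) * σ v.b := by linear_combination -e
  have e2 := congrArg σ e1
  simp only [map_mul, map_sub, hl, σσ, US.hc, h2] at e2
  exact ⟨e1, by linear_combination v.a * e2 + σ v.a * e1⟩

theorem comm {x y : US K} (ha : v.a ≠ 0) (hb : v.b ≠ 0) (hx : x * v = v * x) (hy : y * v = v * y) :
    x * y = y * x := by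
  obtain ⟨l, hl, a1, b1⟩ := prop ha hb hx
  obtain ⟨m, hm, a2, b2⟩ := prop ha hb hy
  obtain ⟨e1, c1⟩ := con hx hl a1 b1
  obtain ⟨e2, c2⟩ := con hy hm a2 b2
  have f1 := congrArg US.f hx
  have f2 := congrArg US.f hy
  simp only [mul_f, a1, a2, b1, b2, map_mul, hl, hm] at f1 f2
  ext <;> simp only [mul_a, mul_b, mul_c, mul_d, mul_e, mul_f, a1, a2, b1, b2, map_mul, hl, hm]
  · ring
  · ring
  · ring
  · ring
  · linear_combination l * e2 - m * e1
  · refine mul_left_cancel₀ (mul_ne_zero ha hb) ?_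
    linear_combination (v.a * v.b * m) * f1 - (v.a * v.b * l) * f2 + (y.d - m * v.d) * c1 - (x.d - l * v.d) * c2

end I1

theorem reg_v (h : Pr p u E L) (hv : v ∈ Om p E ⊥) (ha : v.a ≠ 0) (hb : v.b ≠ 0) : False := by
  obtain ⟨-, vp, vc⟩ := mem_V.1 hv
  have p5 := five_le p vp ha (.inl hb)
  have two : (2 : K) ≠ 0 := two_ne p (by omega)
  have sa : σ v.a ≠ 0 := by simpa using ha
  have sb : σ v.b ≠ 0 := by simpa using hb
  obtain ⟨ε, e0, he⟩ := exists_skew K
  have k : ∀ x : US K, ∃ l : Fx K, x ∈ E → x.a = l * v.a ∧ x.b = l * v.b := fun x => by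
    by_cases hx : x ∈ E
    · obtain ⟨l, hl, e⟩ := I1.prop ha hb (vc x hx)
      exact ⟨⟨l, hl⟩, fun _ => e⟩
    · exact ⟨⟨0, map_zero _⟩, fun e => absurd e hx⟩
  choose lam hlam using k
  have key : ∀ y ∈ E, y ∈ (sY : Subgroup (US K)) → ∀ l, σ l = l → y.e = l * ε * v.a → l = 0 :=
    fun y hy hY l hl e => by
      have := comm_f_Y hY v
      rw [commutatorElement_eq_one_iff_mul_comm.2 (vc y hy), e] at this
      simp only [one_f, map_mul, hl, he] at this
      have e2 : l * (2 * ε * v.a * σ v.a) = 0 := by linear_combination this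
      exact (mul_eq_zero.1 e2).resolve_right (mul_ne_zero (mul_ne_zero (mul_ne_zero two e0) ha) sa)
  have xY : ∀ t : K, (Xe t : US K) ∈ (sY : Subgroup (US K)) := fun t => by simp
  have o : Off p E ⊥ E (fun l : Fx K => (Xe (l * ε * v.a) : US K)) lam :=
    ⟨fun i => .of_comm fun e _ => Z_le h (c_Y (xY _) e), fun i j => Z_le h (c_Y (xY _) _),
      fun i => by rw [pow_p p p5]; exact one_mem _,
      fun i j e => Subtype.ext (sub_eq_zero.1 (key _ e (mul_mem (inv_mem (xY _)) (xY _)) (j - i)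
        (by rw [map_sub, i.2, j.2]) (by simp; ring))).symm,
      ⟨⟨1, map_one _⟩, fun e => one_ne_zero (key _ e (xY _) 1 (map_one _) rfl)⟩,
      fun x hx y hy e i => commutatorElement_eq_one_iff_mul_comm.2 (m_J (by simp) (by
        simp [(hlam x hx).1, (hlam y hy).1, e]))⟩
  have hW : (Xd (v.a / σ v.b) : US K) ∈ (sW : Subgroup (US K)) := by simp
  obtain ⟨i, e, he', e1⟩ := tv h (fun a h1 b h2 => I1.comm ha hb (vc a h1) (vc b h2)) (fun a _ => pow_p p p5 a) o
    (y := Xd (v.a / σ v.b)) fun e he => h.cen _ fun e' he' => by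
      have g1 := c_W hW e
      have g2 : ⁅(Xd (v.a / σ v.b) : US K), e⁆.e = -(lam e * v.a) := by
        rw [comm_e_W hW, (hlam e he).2, map_mul, (lam e).2]; simp; field_simp
      obtain ⟨z0, z1, z2, z3, z4⟩ := c_Y g1 e'
      refine commutatorElement_eq_one_iff_mul_comm.1 (US.ext z0 z1 z2 z3 z4 ?_)
      rw [comm_f_Y g1, g2, (hlam e' he').1]
      simp only [map_neg, map_mul, (lam e).2, (lam e').2, one_f]
      ring
  have e2 : e = (Xe (i * ε * v.a) : US K)⁻¹ * Xd (v.a / σ v.b) := by rw [e1, inv_mul_cancel_left]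
  have := comm_e_W (x := e) (by simp [e2]) v
  rw [commutatorElement_eq_one_iff_mul_comm.2 (vc e he')] at this
  simp [e2, sb] at this
  exact ha this

end Cfsg.Agent.U5F
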