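import Cfsg.Agent.U5F.Tv

/-! Project U5F: no element of `R` outside `P` and `Q` is central.  See `notes/U5F.md`. -/

set_option autoImplicit false
set_option linter.unusedSectionVars false

namespace Cfsg.Agent.U5F

open US FK
open RFS (Au)
open scoped commutatorElement

variable {K : Type*} [Field K] [Bar K] {G : Type*} [Group G] [Finite G] {p : ℕ} [Fact p.Prime] [CharP K p]
  {u : US K →* G} {E : Subgroup (US K)} {L : Subgroup G} {v e₀ : US K}

namespace I2

/-- the invariant of an element of `C(v)` -/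
def dl (v x : US K) : K := x.d - x.a / v.a * v.d

theorem cb {x : US K} (ha : v.a ≠ 0) (hb : v.b = 0) (hc : v.c ≠ 0) (h : x * v = v * x) :
    x.b = 0 ∧ ∃ l, σ l = l ∧ x.a = l * v.a ∧ x.c = l * v.c := by
  have hd := congrArg US.d h
  simp [hb] at hd
  replace hd : x.b = 0 := (mul_eq_zero.1 (show v.a * x.b = 0 by linear_combination -hd)).resolve_left ha
  have he := congrArg US.e h
  simp [hb, hd] at he
  refine ⟨hd, x.c / v.c, skew_div (by simp [hd]) (by simp [hb]), ?_, by field_simp⟩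
  field_simp
  linear_combination he

theorem comm_f_Z {x y : US K} (h : ⁅x, y⁆ ∈ (sZ : Subgroup (US K))) : ⁅x, y⁆.f = (x * y).f - (y * x).f := by
  have e : x * y = ⁅x, y⁆ * (y * x) := by simp [commutatorElement_def, mul_assoc]
  obtain ⟨h0, h1, h2, h3, h4⟩ := h
  rw [e, mul_f ⁅x, y⁆, h0, h3, h4]; ring

theorem cz {x y : US K} (ha : v.a ≠ 0) (hb : v.b = 0) (hc : v.c ≠ 0) (hx : x * v = v * x) (hy : y * v = v * y) :
    ⁅x, y⁆ ∈ (sZ : Subgroup (US K)) ∧ ⁅x, y⁆.f = dl v y * σ (dl v x) - dl v x * σ (dl v y) := by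
  obtain ⟨xb, l, hl, xa, xc⟩ := cb ha hb hc hx
  obtain ⟨yb, m, hm, ya, yc⟩ := cb ha hb hc hy
  have hz : ⁅x, y⁆ ∈ (sZ : Subgroup (US K)) := by
    obtain ⟨h0, h1, h2, h3⟩ := c_RR (x := x) (y := y) xb yb
    refine ⟨h0, h1, h2, h3, ?_⟩
    rw [comm_e_R xb yb, xa, xc, ya, yc]; ring
  refine ⟨hz, ?_⟩
  have e1 := congrArg US.f hx
  have e2 := congrArg US.f hy
  rw [mul_f, mul_f, xb, hb, xa, xc, map_mul, hl] at e1
  rw [mul_f, mul_f, yb, hb, ya, yc, map_mul, hm] at e2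
  rw [comm_f_Z hz, dl, dl, mul_f, mul_f, xb, yb, xa, xc, ya, yc, mul_div_cancel_right₀ _ ha,
    mul_div_cancel_right₀ _ ha]
  simp only [map_mul, map_sub, hl, hm, map_zero] at e1 e2 ⊢
  linear_combination m * e1 - l * e2

theorem cm {x y : US K} (ha : v.a ≠ 0) (hb : v.b = 0) (hc : v.c ≠ 0) (hx : x * v = v * x) (hy : y * v = v * y) :
    x * y = y * x ↔ dl v y * σ (dl v x) = dl v x * σ (dl v y) := by
  obtain ⟨⟨h0, h1, h2, h3, h4⟩, h5⟩ := cz ha hb hc hx hy
  rw [← commutatorElement_eq_one_iff_mul_comm, ← sub_eq_zero (a := dl v y * _), ← h5]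
  exact ⟨fun h => by rw [h, one_f], fun h => US.ext h0 h1 h2 h3 h4 h⟩

theorem exists_g (ha : v.a ≠ 0) (hb : v.b = 0) (t : K) :
    ∃ g : US K, g.a = 0 ∧ g.d = t ∧ dl v g = t ∧ g * v = v * g := by
  obtain ⟨s, hs⟩ := exists_skew_eq ha (s := t * σ v.d - v.d * σ t) (by simp; ring)
  refine ⟨Xd t * Xe s, by simp, by simp, by simp [dl], ?_⟩
  ext <;> simp [hb] <;> first | ring1 | linear_combination hs

theorem not_Y {y : US K} (h2 : (2 : K) ≠ 0) (ha : v.a ≠ 0) (hy : y ∈ (sY : Subgroup (US K))) {s : K}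
    (hs : σ s = -s) (he : y.e = s * v.a) (h : y * v = v * y) : s = 0 := by
  have := comm_f_Y hy v
  rw [commutatorElement_eq_one_iff_mul_comm.2 h, one_f, he, map_mul, hs] at this
  have h' : σ v.a ≠ 0 := by simpa using ha
  have k : 2 * (v.a * σ v.a) * s = 0 := by linear_combination this
  exact (mul_eq_zero.1 k).resolve_left (mul_ne_zero h2 (mul_ne_zero ha h'))

end I2

open I2 in
theorem ac_v (h : Pr p u E L) (hv : v ∈ Om p E ⊥) (ha : v.a ≠ 0) (hb : v.b = 0) (hc : v.c ≠ 0) : False := by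
  classical
  obtain ⟨-, vp, cv⟩ := mem_V.1 hv
  have h5 := five_le p vp ha (Or.inr hc)
  have h2 : (2 : K) ≠ 0 := two_ne p (by omega)
  obtain ⟨ε, ε0, hε⟩ := exists_skew K
  by_cases ab : ∀ a ∈ E, ∀ b ∈ E, a * b = b * a
  · obtain ⟨x₀, hx₀, d0⟩ : ∃ x₀ ∈ E, dl v x₀ ≠ 0 := by
      by_contra k
      push Not at k
      obtain ⟨g, -, -, g3, g4⟩ := exists_g ha hb (1 : K)
      have := k g (h.cen g fun e he => (cm ha hb hc g4 (cv e he)).2 (by rw [k e he]; simp))
      rw [g3] at this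
      exact one_ne_zero this
    let β : Fx K → US K := fun l => Xe (l.1 * ε * v.a)
    let lam : US K → Fx K := fun x => if k : σ (x.a / v.a) = x.a / v.a then ⟨_, k⟩ else ⟨0, map_zero _⟩
    have bY : ∀ l, β l ∈ (sY : Subgroup (US K)) := fun l => by simp [β]
    have hl : ∀ x ∈ E, (lam x).1 = x.a / v.a := fun x hx => by
      obtain ⟨-, l, k, xa, -⟩ := cb ha hb hc (cv x hx)
      have : σ (x.a / v.a) = x.a / v.a := by rw [xa, mul_div_cancel_right₀ _ ha, k]
      simp only [lam, dif_pos this]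
    have inj : ∀ i j, (β i)⁻¹ * β j ∈ E → i = j := fun i j k => by
      have := not_Y h2 ha (mul_mem (inv_mem (bY i)) (bY j)) (s := (j.1 - i.1) * ε)
        (by rw [map_mul, map_sub, i.2, j.2, hε]; ring) (by simp [β]; ring) (cv _ k)
      exact (Subtype.ext (sub_eq_zero.1 ((mul_eq_zero.1 this).resolve_right ε0))).symm
    have o : Off p E ⊥ E β lam := ⟨fun i => .of_comm fun e _ => Z_le h (c_Y (bY i) e),
      fun i j => Z_le h (c_Y (bY i) _), fun i => pow_p p h5 (β i) ▸ one_mem E, inj,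
      ⟨⟨1, map_one _⟩, fun k => by
        have := inj ⟨0, map_zero _⟩ ⟨1, map_one _⟩ (mul_mem (inv_mem (by
          have : β ⟨0, map_zero _⟩ = 1 := by ext <;> simp [β]
          rw [this]; exact one_mem E)) k)
        exact zero_ne_one (congrArg Subtype.val this)⟩, fun x hx w hw e i => by
        have e' := congrArg Subtype.val e
        rw [hl x hx, hl w hw, div_left_inj' ha] at e'
        exact commutatorElement_eq_one_iff_mul_comm.2
          (m_J ⟨(bY i).1, (bY i).2.1, (bY i).2.2.2⟩ (show (x⁻¹ * w).a = 0 by simp [e']))⟩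
    obtain ⟨g, g1, g2, -, g4⟩ := exists_g ha hb (ε * dl v x₀)
    obtain ⟨i, e, he, rfl⟩ := tv h ab (fun a _ => pow_p p h5 a) o (y := g)
      fun e he => Z_le h (cz ha hb hc g4 (cv e he)).1
    have k := (cm ha hb hc (cv e he) (cv x₀ hx₀)).1 (ab e he x₀ hx₀)
    have ea : e.a = 0 := by simpa [β] using g1
    have ed : dl v e = ε * dl v x₀ := by rw [dl, ea, ← g2]; simp [β]
    rw [ed, map_mul, hε] at k
    have d1 : σ (dl v x₀) ≠ 0 := by simpa using d0
    have k' : 2 * ε * (dl v x₀ * σ (dl v x₀)) = 0 := by linear_combination -k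
    exact mul_ne_zero (mul_ne_zero h2 ε0) (mul_ne_zero d0 d1) k'
  · push Not at ab
    obtain ⟨x₀, hx₀, y₀, hy₀, ne⟩ := ab
    have iZ : Iv u E L (E ⊓ Subgroup.centralizer (E : Set (US K))) := h.iv_cz h.iv_top h.iv_top h.iv_bot fun a => by
      simp only [Subgroup.mem_inf, Subgroup.mem_centralizer_iff, SetLike.mem_coe, Subgroup.mem_bot,
        commutatorElement_eq_one_iff_mul_comm]
      exact and_congr_right fun _ => forall₂_congr fun _ _ => eq_comm
    have d0 : ∀ z ∈ E ⊓ Subgroup.centralizer (E : Set (US K)), dl v z = 0 := fun z hz => by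
      by_contra k
      obtain ⟨l, hl, e1⟩ := prop_of k ((cm ha hb hc (cv _ hx₀) (cv z hz.1)).1 (hz.2 x₀ hx₀))
      obtain ⟨m, hm, e2⟩ := prop_of k ((cm ha hb hc (cv _ hy₀) (cv z hz.1)).1 (hz.2 y₀ hy₀))
      exact ne ((cm ha hb hc (cv _ hx₀) (cv _ hy₀)).2 (by rw [e1, e2, map_mul, map_mul, hl, hm]; ring))
    have CE : ∀ w, w * v = v * w → w ∈ E := fun w hw => h.chain1 iZ (fun e he => by
      have hz := (cz ha hb hc hw (cv e he)).1
      exact ⟨Z_le h hz, fun x _ => (m_Z hz x).symm⟩) fun z hz =>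
        (cm ha hb hc hw (cv z hz.1)).2 (by rw [d0 z hz]; simp)
    have EZ : ⁅E, E⁆ ≤ sZ := Subgroup.commutator_le.2 fun x hx y hy => (cz ha hb hc (cv x hx) (cv y hy)).1
    have ZE : sZ ≤ ⁅E, E⁆ := fun z hz => by
      obtain ⟨t, ht⟩ := exists_sub (t := z.f) (by simp [hz.1, hz.2.2.2.1])
      obtain ⟨g, -, -, g3, g4⟩ := exists_g ha hb (1 : K)
      obtain ⟨g', -, -, g3', g4'⟩ := exists_g ha hb t
      obtain ⟨⟨h0, h1, h2, h3, h4⟩, h5⟩ := cz ha hb hc g4 g4'
      have : z = ⁅g, g'⁆ := US.ext (hz.1.trans h0.symm) (hz.2.1.trans h1.symm) (hz.2.2.1.trans h2.symm)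
        (hz.2.2.2.1.trans h3.symm) (hz.2.2.2.2.trans h4.symm) (by rw [h5, g3, g3', ← ht]; simp)
      exact this ▸ Subgroup.commutator_mem_commutator (CE g g4) (CE g' g4')
    have hy : (Xe (ε * v.a) : US K) ∈ (sY : Subgroup (US K)) := by simp
    exact ε0 (not_Y h2 ha hy hε rfl (cv _ (h.chain1 (h.iv_comm h.iv_top h.iv_top) (fun e _ => ZE (c_Y hy e))
      fun b hb => (m_Z (EZ hb) _).symm)))

end Cfsg.Agent.U5F
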