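import Cfsg.Agent.U5F.ModD

/-! Project U5F: diagonal, field and Weyl elements of the model.  See `notes/U5F.md`. -/

set_option autoImplicit false
set_option linter.unusedSectionVars false

namespace Cfsg.Agent.U5F

open US FK
open RFS (Au)
open scoped commutatorElement

variable {K : Type*} [Field K] [Bar K] {p : ℕ} [Fact p.Prime] [CharP K p]

namespace ModA

open Matrix

/-- the diagonal matrix attached to an element of the extended torus -/
def dl (k : TF K) : Fin 5 → K :=
  ![(k.left.1 : K) * k.left.2, k.left.2, 1, (σ (k.left.2 : K))⁻¹, (σ ((k.left.1 : K) * k.left.2))⁻¹]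

theorem dl_ne (k : TF K) (i : Fin 5) : dl k i ≠ 0 := by
  fin_cases i <;> simp [dl]

theorem dl_rev (k : TF K) (i : Fin 5) : σ (dl k i.rev) = (dl k i)⁻¹ := by
  fin_cases i <;> simp [dl, Fin.rev]

theorem dl_one (i : Fin 5) : dl (1 : TF K) i = 1 := by
  fin_cases i <;> simp [dl]

theorem dl_mul (k k' : TF K) (i : Fin 5) : dl (k * k') i = dl k i * k.right (dl k' i) := by
  have e1 : (((k * k').left.1 : Kˣ) : K) = k.left.1 * k.right (k'.left.1 : K) := rfl
  have e2 : (((k * k').left.2 : Kˣ) : K) = k.left.2 * k.right (k'.left.2 : K) := rfl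
  fin_cases i <;> simp only [dl, e1, e2] <;> simp <;> ring

/-- the action on matrices -/
def tw (k : TF K) (M : M5 K) : M5 K := of fun i j => dl k i * k.right (M i j) * (dl k j)⁻¹

theorem tw_eq (k : TF K) (M : M5 K) :
    tw k M = diagonal (dl k) * (k.right : K →+* K).mapMatrix M * diagonal fun j => (dl k j)⁻¹ := by
  ext i j
  simp [tw, mul_diagonal, diagonal_mul]

theorem tw_det (k : TF K) {M : M5 K} (h : M.det = 1) : (tw k M).det = 1 := by
  rw [tw_eq, det_mul, det_mul, ← RingHom.map_det, h, map_one, mul_one, ← det_mul, diagonal_mul_diagonal]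
  simp [dl_ne]

theorem tw_mul (k : TF K) (M N : M5 K) : tw k (M * N) = tw k M * tw k N := by
  ext i j
  simp only [tw, of_apply, mul_apply, map_sum, map_mul, Finset.mul_sum, Finset.sum_mul]
  refine Finset.sum_congr rfl fun l _ => ?_
  have := dl_ne k l
  field_simp

theorem tw_id (k : TF K) : tw k (1 : M5 K) = 1 := by
  ext i j
  by_cases h : i = j
  · subst h; simp [tw, dl_ne]
  · simp [tw, one_apply_ne h]

theorem tw_adj (k : TF K) (M : M5 K) : adj (tw k M) = tw k (adj M) := by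
  ext i j
  simp only [tw, of_apply, adj_apply, map_mul, map_inv₀, dl_rev, map_σ, inv_inv]
  ring

theorem tw_one (M : M5 K) : tw 1 M = M := by
  ext i j
  simp [tw, dl_one]

theorem tw_tw (k k' : TF K) (M : M5 K) : tw (k * k') M = tw k (tw k' M) := by
  ext i j
  have e : ∀ t : K, (k * k').right t = k.right (k'.right t) := fun _ => rfl
  simp only [tw, of_apply, dl_mul, e, map_mul, map_inv₀, mul_inv]
  ring

/-- the action on the group -/
def th (k : TF K) (g : SJ K) : SJ K := ⟨⟨tw k g.1.1, tw_det k g.1.2⟩, by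
  show adj (tw k g.1.1) * tw k g.1.1 = 1
  rw [tw_adj, ← tw_mul, mem_SJ.1 g.2, tw_id]⟩

theorem th_th (k k' : TF K) (g : SJ K) : th (k * k') g = th k (th k' g) :=
  Subtype.ext (Subtype.ext (tw_tw k k' _))

theorem th_one (g : SJ K) : th 1 g = g := Subtype.ext (Subtype.ext (tw_one _))

theorem th_mul (k : TF K) (g h : SJ K) : th k (g * h) = th k g * th k h :=
  Subtype.ext (Subtype.ext (tw_mul k g.1.1 h.1.1))

/-- an element of `SJ` intertwining the matrices induces `f` -/
theorem in_of {A : Subgroup (US K)} {f : US K → US K} (M : M5 K) (hd : M.det = 1) (ha : adj M * M = 1)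
    (h : ∀ a ∈ A, M * mat a = mat (f a) * M) : In (u0 : US K →* SJ K) A f :=
  ⟨⟨⟨M, hd⟩, ha⟩, fun a k => mul_inv_eq_iff_eq_mul.2 (Subtype.ext (Subtype.ext (h a k)))⟩

end ModA

open ModA Matrix

theorem exists_theta : ∃ θ : TF K →* MulAut (SJ K), ∀ k x, θ k (u0 x) = u0 (act k x) := by
  refine ⟨MonoidHom.mk' (fun k =>
    { toFun := th k
      invFun := th k⁻¹
      left_inv := fun g => by rw [← th_th, inv_mul_cancel, th_one]
      right_inv := fun g => by rw [← th_th, mul_inv_cancel, th_one]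
      map_mul' := th_mul k }) fun k k' => MulEquiv.ext (th_th k k'), fun k x => Subtype.ext (Subtype.ext ?_)⟩
  show tw k (mat x) = mat (act k x)
  rw [act_apply]
  have h1 : (k.left.1 : K) ≠ 0 := k.left.1.ne_zero
  have h2 : (k.left.2 : K) ≠ 0 := k.left.2.ne_zero
  have h3 : σ (k.left.1 : K) ≠ 0 := by simpa using h1
  have h4 : σ (k.left.2 : K) ≠ 0 := by simpa using h2
  ext i j
  fin_cases i <;> fin_cases j <;> simp [tw, dl, mat] <;> field_simp

theorem tor0_u0 : Tor0 (u0 : US K →* SJ K) := fun t₁ t₂ h1 h2 => by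
  have h3 : σ t₁ ≠ 0 := by simpa using h1
  have h4 : σ t₂ ≠ 0 := by simpa using h2
  refine in_of (diagonal ![t₁, t₂, σ t₁ * σ t₂ / (t₁ * t₂), (σ t₂)⁻¹, (σ t₁)⁻¹]) ?_ ?_ fun a _ => ?_
  · rw [det_diagonal, Fin.prod_univ_five]
    simp
    field_simp
  · ext i j
    rw [mul_diagonal]
    fin_cases i <;> fin_cases j <;> simp [Fin.rev] <;> field_simp
  · ext i j
    rw [mul_diagonal, diagonal_mul]
    fin_cases i <;> fin_cases j <;> simp [mat] <;> field_simp

theorem nu_u0 : In (u0 : US K →* SJ K) sP nu := by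
  refine in_of !![1, 0, 0, 0, 0; 0, 0, 0, 1, 0; 0, 0, -1, 0, 0; 0, 1, 0, 0, 0; 0, 0, 0, 0, 1] ?_ ?_ fun a ha => ?_
  · simp [det_succ_row_zero, Fin.sum_univ_succ, Fin.succAbove]
  · ext i j
    fin_cases i <;> fin_cases j <;> simp [mul_apply, Fin.sum_univ_five, Fin.rev]
  · ext i j
    fin_cases i <;> fin_cases j <;> simp [mat, mul_apply, Fin.sum_univ_five, ha.1, ha.2]

theorem mu_u0 : In (u0 : US K →* SJ K) sQ mu := by
  refine in_of !![0, 1, 0, 0, 0; 1, 0, 0, 0, 0; 0, 0, 1, 0, 0; 0, 0, 0, 0, 1; 0, 0, 0, 1, 0] ?_ ?_ fun a ha => ?_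
  · simp [det_succ_row_zero, Fin.sum_univ_succ, Fin.succAbove]
  · ext i j
    fin_cases i <;> fin_cases j <;> simp [mul_apply, Fin.sum_univ_five, Fin.rev]
  · ext i j
    fin_cases i <;> fin_cases j <;> simp [mat, mul_apply, Fin.sum_univ_five, mem_sQ.1 ha] <;> ring

end Cfsg.Agent.U5F
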