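import Cfsg.Agent.U5F.Defs
import Cfsg.Agent.H92.GroupFS

/-! Project U5F: extension of the model.  See `notes/U5F.md`. -/

set_option autoImplicit false
set_option linter.unusedSectionVars false

namespace Cfsg.Agent.U5F

open US FK
open RFS (Au)
open scoped commutatorElement

universe w

variable {K : Type w} [Field K] [Bar K] {p : ℕ} [Fact p.Prime] [CharP K p]

open SemidirectProduct in
theorem model_ext {G₀ : Type w} [Group G₀] [Finite G₀] {u₀ : US K →* G₀} {θ : TF K →* MulAut G₀} (h : Md p u₀ θ)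
    (X : Subgroup (TF K)) (hX : ¬ p ∣ Nat.card X) (hT : ∀ k, In u₀ ⊤ (act k) → k ∈ X) :
    ∃ (G : Type w) (_ : Group G) (_ : Finite G) (u : US K →* G), Sat p u ∧ Std u ∧ Tor0 u ∧ In u sP nu ∧
      In u sQ mu ∧ ¬ p ∣ u.range.index ∧ ∀ k, In u ⊤ (act k) ↔ k ∈ X := by
  have : Finite X := Nat.finite_of_card_ne_zero fun e => hX (e ▸ dvd_zero p)
  have : Finite (G₀ ⋊[θ.comp X.subtype] X) := Finite.of_equiv _ equivProd.symm
  let u : US K →* G₀ ⋊[θ.comp X.subtype] X := inl.comp u₀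
  have k0 : ∀ (A : Subgroup (US K)) (F : US K → US K), In u₀ A F → In u A F := fun A F ⟨g, e⟩ =>
    ⟨inl g, fun a ha => by
      change inl g * inl _ * _ = inl _
      rw [← e a ha, map_mul, map_mul, map_inv]⟩
  have k1 : ∀ (g : G₀ ⋊[θ.comp X.subtype] X) a,
      g * u a * g⁻¹ = inl (g.left * u₀ (act (g.right : TF K) a) * g.left⁻¹) := fun g a => by
    rw [← h.act, map_mul, map_mul, map_inv]
    refine Eq.trans ?_ (congrArg (fun x => inl g.left * x * (inl g.left)⁻¹) (inl_aut g.right (u₀ a)).symm)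
    conv_lhs => rw [← inl_left_mul_inr_right g]
    simp only [map_inv, mul_inv_rev, mul_assoc]
    rfl
  have k2 : ∀ F, In u ⊤ F → ∃ x ∈ X, In u₀ ⊤ fun a => F (act x⁻¹ a) := by
    rintro F ⟨g, e⟩
    refine ⟨g.right, g.right.2, g.left, fun a _ => ?_⟩
    have h1 := inl_injective ((k1 g (act (g.right : TF K)⁻¹ a)).symm.trans (e _ trivial))
    rwa [← MulAut.mul_apply, ← map_mul, mul_inv_cancel, map_one, MulAut.one_apply] at h1
  have k3 : ¬ p ∣ u.range.index := by
    rw [← MonoidHom.map_range, Subgroup.index_map_of_injective _ inl_injective, range_inl_eq_ker_rightHom,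
      Subgroup.index_ker, MonoidHom.range_eq_top.2 rightHom_surjective, Subgroup.card_top]
    exact fun e => ((Fact.out : p.Prime).dvd_mul.1 e).elim h.syl hX
  have k4 : IsPGroup p u.range := u.range_eq_map ▸ ((pg_US p).to_subgroup ⊤).map u
  refine ⟨_, inferInstance, this, u, ⟨pg_US p, inl_injective.comp h.inj, H92.saturated_group (k4.toSylow k3)⟩,
    fun F hF => ?_, fun t₁ t₂ h1 h2 => k0 _ _ (h.tor t₁ t₂ h1 h2), k0 _ _ h.nu, k0 _ _ h.mu, k3,
    fun k => ⟨fun e => ?_, fun e => ⟨inr ⟨k, e⟩, fun a _ => ?_⟩⟩⟩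
  · obtain ⟨x, -, e⟩ := k2 F hF.ind
    obtain ⟨s, t₁, t₂, h1, h2, e1⟩ := h.nm _ ⟨hF.au.comp (Au.equiv (act x⁻¹)), e⟩
    have : σ t₁ ≠ 0 := by simpa using h1
    have : σ t₂ ≠ 0 := by simpa using h2
    refine ⟨s, t₁ / t₂ * x.left.1, t₁ * t₂ ^ 2 / (σ t₁ * σ t₂) * x.left.2, x.right,
      mul_ne_zero (div_ne_zero h1 h2) (Units.ne_zero _), mul_ne_zero (by positivity) (Units.ne_zero _), fun a => ?_⟩
    have e2 := e1 (act x a)
    rwa [← MulAut.mul_apply, ← map_mul, inv_mul_cancel, map_one, MulAut.one_apply, act_apply, tor_tor] at e2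
  · obtain ⟨x, hx, e1⟩ := k2 _ e
    have := mul_mem (hT (k * x⁻¹) (e1.congr fun a _ => by rw [map_mul, MulAut.mul_apply])) hx
    rwa [inv_mul_cancel_right] at this
  · rw [k1, left_inr, right_inr, one_mul, inv_one, mul_one]; rfl

end Cfsg.Agent.U5F
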