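import Cfsg.Agent.U5F.ModD
import Cfsg.Agent.S0278
import Cfsg.Agent.S0279
import Cfsg.Agent.S0280

/-! Project U5F: the Sylow subgroup.  See `notes/U5F.md`. -/

set_option autoImplicit false
set_option linter.unusedSectionVars false

namespace Cfsg.Agent.U5F

open US FK
open RFS (Au)
open scoped commutatorElement

variable {K : Type*} [Field K] [Bar K] {p : ℕ} [Fact p.Prime] [CharP K p]

namespace ModCAux

theorem p_dvd_q : p ∣ Bar.q K := by
  obtain ⟨n, hn, e⟩ := exists_q (K := K) p
  exact e ▸ dvd_pow_self p hn.ne'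

theorem not_dvd_prod : ¬ p ∣ ∏ i ∈ Finset.range 5,
    (if Even i then Bar.q K ^ (i + 1) + 1 else Bar.q K ^ (i + 1) - 1) := by
  have hp : p.Prime := Fact.out
  intro h
  obtain ⟨i, -, h⟩ := (Prime.dvd_finsetProd_iff hp.prime _).1 h
  have d : p ∣ Bar.q K ^ (i + 1) := dvd_pow p_dvd_q (Nat.succ_ne_zero i)
  refine hp.one_lt.ne' (Nat.dvd_one.1 ?_)
  split_ifs at h
  · exact (Nat.dvd_add_right d).1 h
  · have h1 : 1 ≤ Bar.q K ^ (i + 1) := Nat.one_le_pow _ _ (by have := two_le_q (K := K); omega)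
    have := Nat.dvd_sub d h
    rwa [Nat.sub_sub_self h1] at this

/-- an injective image of the unitriangular group in a group of the right order is a Sylow subgroup -/
theorem ndvd {X : Type*} [Group X] [Finite X] {v : US K →* X} (hv : Function.Injective v) {m : ℕ}
    (h : m * Nat.card X = Bar.q K ^ (5 * (5 - 1) / 2) * ∏ i ∈ Finset.range 5,
      (if Even i then Bar.q K ^ (i + 1) + 1 else Bar.q K ^ (i + 1) - 1)) : ¬ p ∣ v.range.index := by
  intro d
  rw [← v.range.card_mul_index, ← Nat.card_congr (MonoidHom.ofInjective hv).toEquiv, card_US,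
    mul_left_comm] at h
  have h0 : 0 < Bar.q K ^ 10 := pow_pos (by have := two_le_q (K := K); omega) _
  exact not_dvd_prod (K := K) (p := p) (Nat.eq_of_mul_eq_mul_left h0 h ▸ d.mul_left m)

end ModCAux

theorem syl_u0 : ¬ p ∣ (u0 : US K →* SJ K).range.index := by
  let _ := Bar.fin (K := K)
  obtain ⟨e⟩ := nonempty_SU (K := K)
  exact ModCAux.ndvd u0_inj (m := Bar.q K + 1) (by
    rw [← Nat.card_congr e.toEquiv]
    exact S0278.result Bar.card 5 (by norm_num))

theorem exists_eps (T : Sylow p (Cfsg.PSU 5 K (Bar.q K))) :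
    Nonempty (US K ≃* (T : Subgroup (Cfsg.PSU 5 K (Bar.q K)))) := by
  let _ := Bar.fin (K := K)
  have hp : p.Prime := Fact.out
  obtain ⟨e⟩ := nonempty_SU (K := K)
  let w : US K →* Cfsg.SU 5 K (Bar.q K) := e.symm.toMonoidHom.comp u0
  have hw : Function.Injective w := e.symm.injective.comp u0_inj
  let v : US K →* Cfsg.PSU 5 K (Bar.q K) := (QuotientGroup.mk' _).comp w
  have hv : Function.Injective v := (injective_iff_map_eq_one v).2 fun x hx => by
    have h1 : w x ∈ Subgroup.center (Cfsg.SU 5 K (Bar.q K)) := (QuotientGroup.eq_one_iff _).1 hx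
    have h2 := (Subgroup.orderOf_dvd_natCard _ h1).trans
      ((S0279.result (F := K) Bar.card 5 (by norm_num)).dvd.trans (Nat.gcd_dvd_right 5 (Bar.q K + 1)))
    rw [orderOf_injective w hw] at h2
    obtain ⟨k, hk⟩ := (IsPGroup.iff_orderOf.1 (pg_US (K := K) p)) x
    rcases k with _ | k
    · exact orderOf_eq_one_iff.1 hk
    · exact absurd (Nat.dvd_one.1 ((Nat.dvd_add_right ModCAux.p_dvd_q).1
        ((hk ▸ dvd_pow_self p (Nat.succ_ne_zero k)).trans h2))) hp.one_lt.ne'
  have hn := ModCAux.ndvd (p := p) hv (m := Nat.gcd 5 (Bar.q K + 1) * (Bar.q K + 1)) (by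
    rw [mul_assoc]
    exact S0280.result Bar.card 5 (by norm_num))
  have hP : IsPGroup p v.range := (pg_US p).of_equiv (MonoidHom.ofInjective hv)
  exact ⟨(MonoidHom.ofInjective hv).trans (Sylow.equiv (hP.toSylow hn) T)⟩

end Cfsg.Agent.U5F
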