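import Cfsg.Agent.U5F.ModD

/-! Project U5F: the normalizer of the unitriangular group.  See `notes/U5F.md`. -/

set_option autoImplicit false
set_option linter.unusedSectionVars false

namespace Cfsg.Agent.U5F

open US FK
open RFS (Au)
open scoped commutatorElement

variable {K : Type*} [Field K] [Bar K] {p : ℕ} [Fact p.Prime] [CharP K p]

namespace ModN

open Matrix

theorem cols {M : M5 K} (h : ∀ x, ∃ a, M * mat a = mat x * M) :
    (M 1 0 = 0 ∧ M 2 0 = 0 ∧ M 3 0 = 0 ∧ M 4 0 = 0) ∧ M 2 1 = 0 ∧ M 3 1 = 0 ∧ M 4 1 = 0 := by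
  obtain ⟨a, ha⟩ := h (Xa 1)
  obtain ⟨b, hb⟩ := h (Xb 1)
  have a00 := congrFun₂ ha 0 0
  have a30 := congrFun₂ ha 3 0
  have a31 := congrFun₂ ha 3 1
  have b20 := congrFun₂ hb 2 0
  have b10 := congrFun₂ hb 1 0
  have b21 := congrFun₂ hb 2 1
  have b11 := congrFun₂ hb 1 1
  simp [mat, mul_apply, Fin.sum_univ_five] at a00 a30 a31 b20 b10 b21 b11
  have h20 : M 2 0 = 0 := by simpa [b20] using b10
  have h31 : M 3 1 = 0 := by simpa [h20] using b21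
  exact ⟨⟨a00, h20, b20, a30⟩, by simpa [a00, h31] using b11, h31, by simpa [b20] using a31⟩

theorem uni {m : M5 K} (h : adj m * m = 1) (h0 : ∀ i j, j < i → m i j = 0) (h1 : ∀ i, m i i = 1) :
    ∃ s, m = mat s := by
  have e01 := congrFun₂ h 0 1
  have e12 := congrFun₂ h 1 2
  have e02 := congrFun₂ h 0 2
  have e13 := congrFun₂ h 1 3
  have e03 := congrFun₂ h 0 3
  have e04 := congrFun₂ h 0 4
  have z : m 1 0 = 0 ∧ m 2 0 = 0 ∧ m 3 0 = 0 ∧ m 4 0 = 0 ∧ m 2 1 = 0 ∧ m 3 1 = 0 ∧ m 4 1 = 0 ∧ m 3 2 = 0 ∧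
      m 4 2 = 0 ∧ m 4 3 = 0 := by
    refine ⟨?_, ?_, ?_, ?_, ?_, ?_, ?_, ?_, ?_, ?_⟩ <;> exact h0 _ _ (by decide)
  simp [mul_apply, Fin.sum_univ_five, Fin.rev, h1, z] at e01 e12 e02 e13 e03 e04
  have f34 : m 3 4 = -σ (m 0 1) := σ_inj (by simp; linear_combination e01)
  have f23 : m 2 3 = -σ (m 1 2) := σ_inj (by simp; linear_combination e12)
  have f24 : m 2 4 = σ (m 0 1) * σ (m 1 2) - σ (m 0 2) := σ_inj (by
    simp [f34] at e02 ⊢; linear_combination e02)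
  have hc : σ (m 1 3) = -m 1 3 - m 1 2 * σ (m 1 2) := by
    simp [f23] at e13; linear_combination e13
  have f14 : m 1 4 = -σ (m 0 3) - m 1 2 * σ (m 0 2) - m 1 3 * σ (m 0 1) := σ_inj (by
    simp [f34, f24, f23, hc] at e03 ⊢; linear_combination e03)
  refine ⟨⟨m 0 1, m 1 2, m 1 3, m 0 2, m 0 3, m 0 4, hc, ?_⟩, ?_⟩
  · simp [f34, f24, f14, hc] at e04; linear_combination e04
  · ext i j
    fin_cases i <;> fin_cases j <;> simp [mat, h1, z, f34, f23, f24, f14]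

theorem dg_mat {t₁ t₂ : K} (h1 : t₁ ≠ 0) (h2 : t₂ ≠ 0) (a : US K) :
    diagonal ![t₁, t₂, σ t₁ * σ t₂ / (t₁ * t₂), (σ t₂)⁻¹, (σ t₁)⁻¹] * mat a =
      mat (tor (t₁ / t₂) (t₁ * t₂ ^ 2 / (σ t₁ * σ t₂)) a) *
        diagonal ![t₁, t₂, σ t₁ * σ t₂ / (t₁ * t₂), (σ t₂)⁻¹, (σ t₁)⁻¹] := by
  have : σ t₁ ≠ 0 := by simpa using h1
  have : σ t₂ ≠ 0 := by simpa using h2
  ext i j
  rw [diagonal_mul, mul_diagonal]
  fin_cases i <;> fin_cases j <;> simp [mat] <;> field_simp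

end ModN

open U5F.ModN Matrix in
theorem nm_u0 {F : US K → US K} (h : Fa (u0 : US K →* SJ K) ⊤ F) : ∃ (s : US K) (t₁ t₂ : K), t₁ ≠ 0 ∧ t₂ ≠ 0 ∧
    ∀ a, F a = s * tor (t₁ / t₂) (t₁ * t₂ ^ 2 / (σ t₁ * σ t₂)) a * s⁻¹ := by
  obtain ⟨g, hg⟩ := h.ind
  obtain ⟨M, hM⟩ : ∃ M, M = g.1.1 := ⟨_, rfl⟩
  have hl : adj M * M = 1 := hM ▸ g.2
  have hr : M * adj M = 1 := mul_eq_one_comm.1 hl
  have hd : M.det = 1 := hM ▸ g.1.2
  have e : ∀ a, M * mat a = mat (F a) * M := fun a =>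
    hM ▸ congrArg (fun x : SJ K => x.1.1) (mul_inv_eq_iff_eq_mul.1 (hg a trivial))
  obtain ⟨⟨z10, z20, z30, z40⟩, z21, z31, z41⟩ := cols (M := M) fun x => by
    obtain ⟨a, -, rfl⟩ := h.au.sur x trivial
    exact ⟨a, e a⟩
  obtain ⟨⟨z43, z42, -, -⟩, z32, -, -⟩ := cols (M := adj M) fun x => ⟨F x, by
    rw [← mul_one (adj M * _), ← hr, ← mul_assoc, mul_assoc (adj M), ← e, ← mul_assoc, hl, one_mul]⟩
  replace z43 : M 4 3 = 0 := by simpa [Fin.rev] using z43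
  replace z42 : M 4 2 = 0 := by simpa [Fin.rev] using z42
  replace z32 : M 3 2 = 0 := by simpa [Fin.rev] using z32
  have tri : ∀ i j, j < i → M i j = 0 := fun i j hij => by
    fin_cases i <;> fin_cases j <;> first | assumption | exact absurd hij (by decide)
  rw [det_of_upperTriangular fun i j hij => tri i j hij, Fin.prod_univ_five] at hd
  have e33 := congrFun₂ hl 3 3
  have e44 := congrFun₂ hl 4 4
  simp [mul_apply, Fin.sum_univ_five, Fin.rev, z10, z20, z30, z40, z21, z31, z41, z43] at e33 e44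
  have s1 : σ (M 0 0) ≠ 0 := left_ne_zero_of_mul_eq_one e44
  have s2 : σ (M 1 1) ≠ 0 := left_ne_zero_of_mul_eq_one e33
  have h1 : M 0 0 ≠ 0 := by simpa using s1
  have h2 : M 1 1 ≠ 0 := by simpa using s2
  have d3 : M 3 3 = (σ (M 1 1))⁻¹ := eq_inv_of_mul_eq_one_right e33
  have d4 : M 4 4 = (σ (M 0 0))⁻¹ := eq_inv_of_mul_eq_one_right e44
  have d2 : M 2 2 = σ (M 0 0) * σ (M 1 1) / (M 0 0 * M 1 1) := by
    rw [d3, d4] at hd
    field_simp at hd ⊢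
    linear_combination hd
  obtain ⟨t, ht⟩ : ∃ t : Fin 5 → K,
    t = ![M 0 0, M 1 1, σ (M 0 0) * σ (M 1 1) / (M 0 0 * M 1 1), (σ (M 1 1))⁻¹, (σ (M 0 0))⁻¹] := ⟨_, rfl⟩
  have hMt : ∀ i, M i i = t i := fun i => by fin_cases i <;> simp [ht, d2, d3, d4]
  have tt : ∀ i, σ (t i.rev) * t i = 1 := fun i => by
    fin_cases i <;> simp [ht, Fin.rev] <;> field_simp
  have t0 : ∀ i, t i ≠ 0 := fun i => right_ne_zero_of_mul_eq_one (tt i)
  obtain ⟨s, hs⟩ := uni (m := M * diagonal fun i => (t i)⁻¹) (by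
      rw [adj_mul, mul_assoc, ← mul_assoc (adj M), hl, one_mul]
      ext i j
      rw [mul_diagonal, adj_apply, diagonal_apply, one_apply]
      by_cases hij : i = j
      · rw [hij, if_pos rfl, if_pos rfl, map_inv₀, ← mul_inv, tt, inv_one]
      · rw [if_neg hij, if_neg fun k => hij (Fin.rev_injective k).symm, map_zero, zero_mul])
    (fun i j hij => by rw [mul_diagonal, tri i j hij, zero_mul])
    fun i => by rw [mul_diagonal, hMt, mul_inv_cancel₀ (t0 i)]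
  have hs' : M = mat s * diagonal t := by
    rw [← hs, mul_assoc, diagonal_mul_diagonal]
    simp [t0]
  refine ⟨s, M 0 0, M 1 1, h1, h2, fun a => mat_inj ?_⟩
  have := e a
  nth_rw 1 [hs'] at this
  rw [mul_assoc, ht, dg_mat h1 h2, ← ht, ← mul_assoc, ← mat_mul, ← inv_mul_cancel_right (s * _) s, mat_mul,
    mul_assoc, ← hs'] at this
  rw [← mul_one (mat (F a)), ← hr, ← mul_assoc, ← this, mul_assoc, hr, mul_one]

end Cfsg.Agent.U5F
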