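import Cfsg.Agent.U5F.Perp
import Cfsg.Agent.FK.TI

/-! Project U5F: extension of automorphisms.  See `notes/U5F.md`. -/

set_option autoImplicit false
set_option linter.unusedSectionVars false

namespace Cfsg.Agent.U5F

open US FK
open RFS (Au)
open scoped commutatorElement

variable {K : Type*} [Field K] [Bar K] {G : Type*} [Group G] [Finite G] {p : ℕ} [Fact p.Prime] [CharP K p]
  {u : US K →* G} {f g F n : US K → US K}

namespace ExtAux

theorem mem_WW {z : US K} (hz : z ∈ (sZ : Subgroup (US K))) : z ∈ ⁅(sW : Subgroup (US K)), (sW : Subgroup (US K))⁆ := by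
  obtain ⟨h0, h1, h2, h3, h4⟩ := hz
  obtain ⟨t, ht⟩ := exists_skew_eq (one_ne_zero (α := K)) (s := z.f) (by simp [h0, h3])
  have e : z = ⁅(Xd t : US K), Xd 1⁆ := by
    obtain ⟨k1, k2⟩ := comm_Q (x := (Xd t : US K)) (y := Xd 1) rfl rfl
    ext
    · simp [comm_a, h0]
    · simp [comm_b, h1]
    · simp [comm_c, h2]
    · simp [comm_d, h3]
    · simp [k1, h4]
    · rw [k2, ← ht]; simp
  rw [e]
  exact Subgroup.commutator_mem_commutator ⟨rfl, rfl⟩ ⟨rfl, rfl⟩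

theorem Z_eq : ⁅(sW : Subgroup (US K)), (sW : Subgroup (US K))⁆ = sZ :=
  le_antisymm (Subgroup.commutator_le.2 fun x hx y hy => by
    simp [comm_a, comm_b, comm_c, comm_d, (comm_Q hx.1 hy.1).1, hx.1, hx.2, hy.1, hy.2]) fun _ => mem_WW

theorem Y_eq : ⁅(sW : Subgroup (US K)), (sQ : Subgroup (US K))⁆ = sY := by
  refine le_antisymm (Subgroup.commutator_le.2 fun x hx y _ => c_W hx y) fun y ⟨h0, h1, h2, h3⟩ => ?_
  have k : ⁅(Xd (-y.e) : US K), Xb 1⁆ ∈ ⁅(sW : Subgroup (US K)), (sQ : Subgroup (US K))⁆ :=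
    Subgroup.commutator_mem_commutator ⟨rfl, rfl⟩ rfl
  refine (Subgroup.mul_mem_cancel_left _ (inv_mem k)).1
    (Subgroup.commutator_mono le_rfl (show (sW : Subgroup (US K)) ≤ sQ from fun x hx => hx.1) (mem_WW ?_))
  have k1 := (comm_Q (y := (Xd (-y.e) : US K)) (x := Xb 1) rfl rfl).1
  simp [comm_a, comm_b, comm_c, comm_d, k1, h0, h1, h2, h3]

theorem flip {B : Subgroup (US K)} {x y : US K} (h : ⁅x, y⁆ ∈ B) : ⁅y, x⁆ ∈ B := by
  rw [← commutatorElement_inv]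
  exact inv_mem h

theorem dec (c : Cx p u) {A : Subgroup (US K)} (h : Ext u A f) : ∃ (s : US K) (r t : K) (φ : K ≃+* K), r ≠ 0 ∧ t ≠ 0 ∧
    In u ⊤ (fun a => tor r t (fld φ a)) ∧ ∀ a ∈ A, f a = s * tor r t (fld φ a) * s⁻¹ := by
  obtain ⟨F, hF, e⟩ := h
  obtain ⟨s, r, t, φ, hr, ht, k⟩ := c.std F hF
  refine ⟨s, r, t, φ, hr, ht, ((In.conj u ⊤ s⁻¹).comp hF.ind fun _ _ => trivial).congr fun a _ => ?_,
    fun a ha => by rw [← e a ha, k]⟩
  rw [k]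
  group

theorem tw {A B : Subgroup (US K)} (hA : ∀ F, Au ⊤ F → ∀ a ∈ A, F a ∈ A) (hB : ∀ F, Au ⊤ F → ∀ a ∈ B, F a ∈ B)
    (hf : Fa u A f) (hn : ¬ ∀ y ∈ B, f y ∈ B) (β : US K ≃* US K) :
    ∃ f', Fa (u.comp β.toMonoidHom) A f' ∧ ¬ ∀ y ∈ B, f' y ∈ B := by
  have a1 := Au.equiv β
  have a2 := Au.equiv β.symm
  refine ⟨fun a => β.symm (f (β a)), ⟨(a2.res le_top (hA _ a2)).comp (hf.au.comp (a1.res le_top (hA _ a1))),
    hf.ind.tw β (hA _ a1)⟩, fun k => hn fun y hy => ?_⟩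
  simpa using hB _ a1 _ (k _ (hB _ a2 y hy))

end ExtAux

open ExtAux

theorem extQ (h : Two p u sQ sP) (hf : Fa u sQ f) (k : PW f) : Ext u sQ f := by
  refine (h.ext_or (B := sW) (fun x hx => hx.1) (fun s e he => Subgroup.Normal.conj_mem inferInstance e he s)
    hf k).resolve_right fun ⟨L, hL, iW⟩ => ?_
  have iY := hL.iv_comm iW hL.iv_top
  have iZ := hL.iv_comm iW iW
  rw [Y_eq] at iY
  rw [Z_eq] at iZ
  have := hL.chain (x := Xa 1) (.step iW (fun b _ => c_top _ b) (.step iY (fun b hb => flip (c_W hb _))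
    (.step iZ (fun b hb => flip (c_Y hb _)) (.step hL.iv_bot
      (fun b hb => commutatorElement_eq_one_iff_mul_comm.2 (m_Z hb _).symm) .bot))))
  simp at this

theorem extP (h : Two p u sQ sP) (hf : Fa u sP f) (k : PY f) : Ext u sP f := by
  refine (h.symm.ext_or (B := sY) (fun x hx => ⟨hx.2.1, hx.2.2.1⟩)
    (fun s e he => Subgroup.Normal.conj_mem inferInstance e he s) hf k).resolve_right fun ⟨L, hL, iY⟩ => ?_
  have iD : Iv u sP L sD := hL.iv_cz hL.iv_top iY hL.iv_bot fun a =>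
    ⟨fun ha => ⟨⟨ha.2.1, ha.2.2⟩, fun b hb => commutatorElement_eq_one_iff_mul_comm.2 (m_DY ha hb)⟩,
      fun ha => perp_Y ha.1 fun b hb => commutatorElement_eq_one_iff_mul_comm.1 (ha.2 b hb)⟩
  have iZ : Iv u sP L sZ := hL.iv_of (fun x hx => ⟨hx.2.1, hx.2.2.1⟩) fun f hf _ => chP_Z hf
  have := hL.chain (x := Xb 1) (.step iD (fun b hb => by simp [comm_a, comm_b, comm_c, hb.1])
    (.step iY (fun b hb => flip (c_W ⟨hb.1, hb.2.1⟩ _))
    (.step iZ (fun b hb => flip (c_Y hb _)) (.step hL.iv_bot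
      (fun b hb => commutatorElement_eq_one_iff_mul_comm.2 (m_Z hb _).symm) .bot))))
  simp at this

theorem pY_of_ext (h : Ext u sP f) : PY f := fun y hy =>
  let ⟨_, hF, e⟩ := h
  e y ⟨hy.2.1, hy.2.2.1⟩ ▸ ch_Y hF.au y hy

theorem p0 (h : Two p u sQ sP) (hf : Fa u sP f) {s : US K} (hs : s ∉ (sP : Subgroup (US K))) (hg : Fa u sP g) (k : PY g)
    (e : ∀ a ∈ (sP : Subgroup (US K)), f (s * a * s⁻¹) = g (f a)) : PY f := by
  obtain ⟨F, hF, e'⟩ := extP h hg k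
  exact pY_of_ext (h.symm.ti hf hs hF fun a ha => by rw [e a ha, e' _ (hf.au.mem a ha)])

theorem Cx.decP (c : Cx p u) (hf : Fa u sP f) (k : PY f) : ∃ (s : US K) (r t : K) (φ : K ≃+* K), r ≠ 0 ∧ t ≠ 0 ∧
    In u ⊤ (fun a => tor r t (fld φ a)) ∧ ∀ a ∈ (sP : Subgroup (US K)), f a = s * tor r t (fld φ a) * s⁻¹ :=
  dec c (extP c.two hf k)

theorem Cx.decQ (c : Cx p u) (hf : Fa u sQ f) (k : PW f) : ∃ (s : US K) (r t : K) (φ : K ≃+* K), r ≠ 0 ∧ t ≠ 0 ∧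
    In u ⊤ (fun a => tor r t (fld φ a)) ∧ ∀ a ∈ (sQ : Subgroup (US K)), f a = s * tor r t (fld φ a) * s⁻¹ :=
  dec c (extQ c.two hf k)

theorem EssP.tw (h : EssP u) (β : US K ≃* US K) : EssP (u.comp β.toMonoidHom) :=
  let ⟨_, hf, hn⟩ := h
  ExtAux.tw (fun _ => ch_P) (fun _ => ch_Y) hf hn β

theorem EssQ.tw (h : EssQ u) (β : US K ≃* US K) : EssQ (u.comp β.toMonoidHom) :=
  let ⟨_, hf, hn⟩ := h
  ExtAux.tw (fun _ => ch_Q) (fun _ => ch_W) hf hn β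

end Cfsg.Agent.U5F
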