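import Cfsg.Agent.U5F.ChQ
import Cfsg.Agent.U5F.Ext
import Cfsg.Agent.FK.Uniq

/-! Project U5F: the Weyl element on `Q`.  See `notes/U5F.md`. -/

set_option autoImplicit false
set_option linter.unusedSectionVars false

namespace Cfsg.Agent.U5F

open US FK
open RFS (Au)
open scoped commutatorElement

variable {K : Type*} [Field K] [Bar K] {G : Type*} [Group G] [Finite G] {p : ℕ} [Fact p.Prime] [CharP K p]
  {u : US K →* G} {f g F n : US K → US K}

namespace MuQ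

/-- the torus of `SU₅(q)` -/
def τ (k : Kˣ × Kˣ) : US K → US K := tor ((k.1 : K) / k.2) ((k.1 : K) * (k.2 : K) ^ 2 / (σ (k.1 : K) * σ (k.2 : K)))

theorem σ_ne (t : Kˣ) : σ (t : K) ≠ 0 := by simp

theorem fa_τ (t0 : Tor0 u) (k : Kˣ × Kˣ) : Fa u sQ (τ k) :=
  (fa_tor (div_ne_zero k.1.ne_zero k.2.ne_zero) (div_ne_zero (mul_ne_zero k.1.ne_zero (pow_ne_zero _ k.2.ne_zero))
    (mul_ne_zero (σ_ne _) (σ_ne _))) (t0 _ _ k.1.ne_zero k.2.ne_zero)).2

theorem τ_b (k : Kˣ × Kˣ) (x : US K) :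
    (τ k x).b = (k.1 : K) * (k.2 : K) ^ 2 / (σ (k.1 : K) * σ (k.2 : K)) * x.b := rfl

theorem τ_d (k : Kˣ × Kˣ) (x : US K) :
    (τ k x).d = (k.1 : K) ^ 2 * (k.2 : K) / (σ (k.1 : K) * σ (k.2 : K)) * x.d := by
  have := σ_ne k.1
  have := σ_ne k.2
  have := k.2.ne_zero
  simp only [τ, tor_d]
  field_simp

theorem τ_τ (k k' : Kˣ × Kˣ) (x : US K) : τ k (τ k' x) = τ (k * k') x := by
  have := σ_ne k.1
  have := σ_ne k.2
  have := σ_ne k'.1
  have := σ_ne k'.2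
  have := k.2.ne_zero
  have := k'.2.ne_zero
  simp only [τ, tor_tor, Prod.fst_mul, Prod.snd_mul, Units.val_mul, map_mul]
  congr 1 <;> field_simp

theorem τ_one (x : US K) : τ 1 x = x := by simp [τ]

theorem mu_τ (k : Kˣ × Kˣ) {x : US K} (hx : x ∈ (sQ : Subgroup (US K))) : mu (τ k.swap x) = τ k (mu x) := by
  have := σ_ne k.1
  have := σ_ne k.2
  have := k.1.ne_zero
  have := k.2.ne_zero
  ext <;> simp [τ, mem_sQ.1 hx] <;> field_simp <;> simp

theorem inner (c : Cx p u) (hf : Fa u sQ f) (e : ∀ x ∈ (sQ : Subgroup (US K)), (f x).b = x.b ∧ (f x).d = x.d) :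
    ∃ s ∈ (sQ : Subgroup (US K)), ∀ a ∈ (sQ : Subgroup (US K)), f a = s * a * s⁻¹ := by
  obtain ⟨s, r, t, φ, -, -, -, h⟩ := c.decQ hf fun y hy => ⟨hf.au.mem y hy.1, (e y hy.1).1.trans hy.2⟩
  have k : ∀ a ∈ (sQ : Subgroup (US K)), t * φ a.b = a.b ∧ r * t * φ a.d + s.a * (t * φ a.b) = a.d := fun a ha => by
    have h1 := cj_Q s (x := tor r t (fld φ a)) (by simp [mem_sQ.1 ha])
    rw [← h a ha, (e a ha).1, (e a ha).2] at h1
    exact ⟨h1.1.symm, h1.2.symm⟩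
  have t1 : t = 1 := by simpa using (k (Xb 1) rfl).1
  have φ1 : ∀ x, φ x = x := fun x => by simpa [t1] using (k (Xb x) rfl).1
  have r1 : r = 1 := by simpa [t1] using (k (Xd 1) rfl).2
  have s0 : s.a = 0 := by simpa [t1] using (k (Xb 1) rfl).2
  refine ⟨s, s0, fun a ha => ?_⟩
  rw [h a ha, r1, t1, tor_one, show fld φ a = a by ext <;> simp [φ1]]

theorem mu_of (c : Cx p u) (t0 : Tor0 u) (hm : Fa u sQ f)
    (e : ∀ x ∈ (sQ : Subgroup (US K)), (f x).b = x.d ∧ (f x).d = x.b) : In u sQ mu := by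
  obtain ⟨g, hg, gf, fg⟩ := hm.exists_inv
  have eg : ∀ x ∈ (sQ : Subgroup (US K)), (g x).b = x.d ∧ (g x).d = x.b := fun x hx => by
    have := e _ (hg.au.mem x hx)
    rw [fg x hx] at this
    exact ⟨this.2.symm, this.1.symm⟩
  have hω : Au sQ fun a => mu (f a) := au_mu.comp hm.au
  obtain ⟨θ, hθ⟩ := exists_σ_ne K
  have θ0 : θ ≠ 0 := fun k => hθ (by simp [k])
  have θ1 : θ ≠ 1 := fun k => hθ (by simp [k])
  obtain ⟨b, hb, k⟩ := rigid (Z := sJ) (t := τ) (k₀ := (Units.mk0 θ θ0, (Units.mk0 θ θ0)⁻¹)) hω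
    (fun k => (fa_τ t0 k).au) (fun z => ⟨fun hz => ⟨hz.1, fun a ha => m_J hz ha⟩, fun hz => cz_Q hz.2⟩)
    (fun k k' a _ => by rw [τ_τ, τ_τ, mul_comm]) (fun b hb h => by
      have σθ : σ θ ≠ 0 := by simpa using θ0
      have h1 := h.2.1
      have h2 := h.2.2
      rw [mul_b, τ_b] at h1
      rw [mul_d, τ_d] at h2
      simp [mem_sQ.1 hb] at h1 h2
      field_simp at h1 h2
      refine ⟨hb, ?_, ?_⟩
      · exact (mul_eq_zero.1 (show (θ - 1) * b.b = 0 by linear_combination -h1)).resolve_left (sub_ne_zero.2 θ1)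
      · exact (mul_eq_zero.1 (show (θ - 1) * b.d = 0 by linear_combination h2)).resolve_left (sub_ne_zero.2 θ1))
    (fun k => by
      have h1 := fa_τ t0 k
      have h2 := fa_τ t0 k.swap⁻¹
      obtain ⟨s, hs, es⟩ := inner c (hm.comp (h1.comp (hg.comp h2))) fun x hx => by
        have m2 := h2.au.mem x hx
        have m1 := hg.au.mem _ m2
        have := σ_ne k.1
        have := σ_ne k.2
        have := k.1.ne_zero
        have := k.2.ne_zero
        rw [(e _ (h1.au.mem _ m1)).1, (e _ (h1.au.mem _ m1)).2, τ_b, τ_d, (eg _ m2).1, (eg _ m2).2, τ_b, τ_d]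
        constructor <;> simp <;> field_simp
      refine ⟨mu s, mu_mem s, fun a ha => ?_⟩
      have m1 := hm.au.mem a ha
      have m2 := (fa_τ t0 k.swap).au.mem _ m1
      have := es _ m2
      rw [τ_τ, inv_mul_cancel, τ_one, gf a ha] at this
      show mu (f (τ k a)) = _
      rw [this, au_mu.map_conj hs m2, mu_τ k m1])
  have fin := chaseQ ((Au.conj b (nm_Q b)).comp hω) (fun x hx => by
    have h1 := cj_Q b (x := mu (f x)) rfl
    rw [h1.1, h1.2, mem_sQ.1 hb, zero_mul, add_zero]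
    exact ⟨(e x hx).2, (e x hx).1⟩)
    fun t₁ t₂ h1 h2 x hx => k (Units.mk0 t₁ h1, Units.mk0 t₂ h2) x hx
  refine (hm.ind.comp (In.conj u sQ b) (nm_Q b)).congr fun y hy => ?_
  have h1 := fin _ (nm_Q b y hy)
  have h2 : mu (f (b * y * b⁻¹)) = y := by simpa using h1
  rw [← mu_mu (hm.au.mem _ (nm_Q b y hy)), h2]

end MuQ

open MuQ

theorem muQ (c : Cx p u) (t0 : Tor0 u) (hf : Fa u sQ f)
    (e : ∀ x ∈ (sQ : Subgroup (US K)), (f x).b = x.d ∧ (f x).d = -x.b) : In u sQ mu := by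
  have h0 := fa_τ t0 (1, -1)
  refine mu_of c t0 (hf.comp h0) fun x hx => ?_
  rw [(e _ (h0.au.mem x hx)).1, (e _ (h0.au.mem x hx)).2, τ_b, τ_d]
  simp

end Cfsg.Agent.U5F
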