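import Cfsg.Agent.U5F.SwA
import Cfsg.Agent.FK.Uniq

/-! Project U5F: the Weyl element on `P`.  See `notes/U5F.md`. -/

set_option autoImplicit false
set_option linter.unusedSectionVars false

namespace Cfsg.Agent.U5F

open US FK
open RFS (Au)
open scoped commutatorElement

variable {K : Type*} [Field K] [Bar K] {G : Type*} [Group G] [Finite G] {p : ℕ} [Fact p.Prime] [CharP K p]
  {u : US K →* G} {f g F n : US K → US K}

namespace NuP

theorem xaP (t : K) : Xa t ∈ (sP : Subgroup (US K)) := ⟨rfl, rfl⟩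
theorem xdP (t : K) : Xd t ∈ (sP : Subgroup (US K)) := ⟨rfl, rfl⟩
theorem xeP (t : K) : Xe t ∈ (sP : Subgroup (US K)) := ⟨rfl, rfl⟩
theorem xeY (t : K) : Xe t ∈ (sY : Subgroup (US K)) := ⟨rfl, rfl, rfl, rfl⟩
theorem xdD (t : K) : Xd t ∈ (sD : Subgroup (US K)) := ⟨rfl, rfl, rfl⟩
theorem YP {y : US K} (h : y ∈ (sY : Subgroup (US K))) : y ∈ (sP : Subgroup (US K)) := ⟨h.2.1, h.2.2.1⟩
theorem ZP {y : US K} (h : y ∈ (sZ : Subgroup (US K))) : y ∈ (sP : Subgroup (US K)) := ⟨h.2.1, h.2.2.1⟩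

/-- the coordinates of a swap element -/
theorem sw_coord {w : K} (h : Two p u sQ sP) (k : Gr u f 0) (h0 : ∀ y ∈ (sY : Subgroup (US K)), (f y).e = 0)
    (hw : w ≠ 0) (hs : σ w = -w) (s : Sw u f w n) {x : US K} (hx : x ∈ (sP : Subgroup (US K))) :
    (n x).a = -(x.e / w) ∧ (n x).d = x.d ∧ (n x).e = x.a * w := by
  have hn := s.fa.au
  have fd : ∀ y ∈ (sY : Subgroup (US K)), (f y).d = 0 := fun y hy => by rw [k.d y hy, zero_mul]
  have ha : ∀ a : K, (n (Xa a)).a = 0 ∧ (n (Xa a)).d = 0 ∧ (n (Xa a)).e = a * w := fun a => by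
    obtain ⟨y, hy, e⟩ := opp_sur h k.fa k.np a
    obtain ⟨h1, h2, h3⟩ := au_modZ hn (k.fa.au.mem y (YP hy)) (xaP a) ⟨e.symm, (fd y hy).symm, (h0 y hy).symm⟩
    obtain ⟨h4, h5⟩ := s.fy y hy
    exact ⟨h1.trans h4.1, h2.trans h4.2.2.2, by rw [h3, h5, e]⟩
  have hd : ∀ d : K, (n (Xd d)).a = 0 ∧ (n (Xd d)).d = d ∧ (n (Xd d)).e = 0 := fun d => by
    obtain ⟨h1, h2, h3⟩ := s.d _ (xdD d) ((k.perp h (xdD d)).2 (by simp))
    refine ⟨h1.1, ?_, by simpa using (k.perp h h1).1 h2⟩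
    rw [h3, hs, Xd_d]; field_simp
  have he : ∀ e : K, (n (Xe e)).a = -(e / w) ∧ (n (Xe e)).d = 0 ∧ (n (Xe e)).e = 0 := fun e => by
    obtain ⟨y, hy, e1⟩ := s.y _ (xeY e)
    have h1 : (n (Xe e)).d = 0 := e1 ▸ fd y hy
    have h2 : (n (Xe e)).e = 0 := e1 ▸ h0 y hy
    refine ⟨?_, h1, h2⟩
    have := (indep (α := σ e - w * σ (n (Xe e)).a) (β := -e - (n (Xe e)).a * w) fun a => by
      have h3 := congrArg US.f ((s.z _ (c_PP (xeP e) (xaP a))).symm.trans (hn.map_comm (xeP e) (xaP a)))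
      rw [comm_P (xeP e) (xaP a), comm_P (hn.mem _ (xeP e)) (hn.mem _ (xaP a)), h1, h2, (ha a).1, (ha a).2.1,
        (ha a).2.2] at h3
      simp [hs] at h3
      linear_combination h3).2
    field_simp
    linear_combination -this
  have m1 := mul_mem (xeP x.e) (xdP x.d)
  obtain ⟨h1, h2, h3⟩ := au_modZ hn (mul_mem m1 (xaP x.a)) hx ⟨by simp, by simp, by simp⟩
  obtain ⟨h4, h5, h6⟩ := coord_mul (mul_mem (hn.mem _ (xeP x.e)) (hn.mem _ (xdP x.d))) (hn.mem _ (xaP x.a))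
  obtain ⟨h7, h8, h9⟩ := coord_mul (hn.mem _ (xeP x.e)) (hn.mem _ (xdP x.d))
  rw [hn.mul _ m1 _ (xaP x.a), hn.mul _ (xeP x.e) _ (xdP x.d)] at h1 h2 h3
  refine ⟨?_, ?_, ?_⟩
  · rw [h1, h4, h7, (he _).1, (hd _).1, (ha _).1]; ring
  · rw [h2, h5, h8, (he _).2.1, (hd _).2.1, (ha _).2.1]; ring
  · rw [h3, h6, h9, (he _).2.2, (hd _).2.2, (ha _).2.2]; ring

/-- the torus of `SU₃` -/
abbrev τ (t : K) : US K → US K := tor t⁻¹ (t ^ 2 / σ t)

theorem τ_ne {t : K} (ht : t ≠ 0) : t ^ 2 / σ t ≠ 0 := div_ne_zero (pow_ne_zero 2 ht) (by simpa using ht)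

theorem τ_fa (tb : TorB u) {t : K} (ht : t ≠ 0) : Fa u sP (τ t) :=
  (fa_tor (inv_ne_zero ht) (τ_ne ht) (tb t ht)).1

theorem τ_coord {t : K} (ht : t ≠ 0) (x : US K) : (τ t x).a = t⁻¹ * x.a ∧ (τ t x).d = t / σ t * x.d ∧
    (τ t x).e = σ t * x.e ∧ (τ t x).f = x.f := by
  have : σ t ≠ 0 := by simpa using ht
  refine ⟨rfl, ?_, ?_, ?_⟩ <;> simp only [τ, tor_d, tor_e, tor_f, map_mul, map_div₀, map_inv₀, map_pow, σσ] <;>
    field_simp

theorem τ_Z {t : K} (ht : t ≠ 0) {z : US K} (hz : z ∈ (sZ : Subgroup (US K))) : τ t z = z := by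
  obtain ⟨h1, h2, h3, h4, h5⟩ := hz
  have := (τ_coord ht z).2.2.2
  ext <;> first | exact this | simp [h1, h2, h3, h4, h5]

theorem τ_τ {t : K} (ht : t ≠ 0) (x : US K) : τ t (τ t⁻¹ x) = x := by
  have : σ t ≠ 0 := by simpa using ht
  rw [τ, τ, tor_tor, show t⁻¹ * t⁻¹⁻¹ = 1 by field_simp, show t ^ 2 / σ t * (t⁻¹ ^ 2 / σ t⁻¹) = 1 by
    rw [map_inv₀]; field_simp, tor_one]

theorem nu_τ {t : K} (ht : t ≠ 0) (x : US K) : nu (τ (σ t)⁻¹ x) = τ t (nu x) := by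
  have h0 : (σ t)⁻¹ ≠ 0 := by simpa using ht
  have : σ t ≠ 0 := by simpa using ht
  obtain ⟨h1, h2, h3, h4⟩ := τ_coord h0 x
  obtain ⟨h5, h6, h7, h8⟩ := τ_coord ht (nu x)
  ext
  · rw [h5, nu_a, nu_a, h3]; simp
  · simp
  · simp
  · rw [h6, nu_d, nu_d, h2, map_inv₀, σσ]; field_simp
  · rw [h7, nu_e, nu_e, h1]; simp
  · rw [h8, nu_f, nu_f, h4]

/-- an automorphism that is trivial on `P / Z` is inner -/
theorem inner (c : Cx p u) (hf : Fa u sP f)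
    (e : ∀ x ∈ (sP : Subgroup (US K)), (f x).a = x.a ∧ (f x).d = x.d ∧ (f x).e = x.e) :
    ∃ s ∈ (sP : Subgroup (US K)), ∀ a ∈ (sP : Subgroup (US K)), f a = s * a * s⁻¹ := by
  obtain ⟨s, r, t, φ, -, -, -, k⟩ := c.decP hf fun y hy =>
    ⟨(e y (YP hy)).1.trans hy.1, (hf.au.mem y (YP hy)).1, (hf.au.mem y (YP hy)).2, (e y (YP hy)).2.1.trans hy.2.2.2⟩
  have hP : ∀ x ∈ (sP : Subgroup (US K)), tor r t (fld φ x) ∈ (sP : Subgroup (US K)) := fun x hx =>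
    ⟨by simp [hx.1], by simp [hx.2]⟩
  have ha : ∀ a : K, r * φ a = a ∧ r * φ a * s.b = 0 ∧ r * φ a * σ s.c = 0 := fun a => by
    obtain ⟨h1, h2, h3⟩ := cj_P s (hP _ (xaP a))
    obtain ⟨h4, h5, h6⟩ := e _ (xaP a)
    rw [← k _ (xaP a)] at h1 h2 h3
    simp only [tor_a, tor_d, tor_e, fld_a, fld_d, fld_e, Xa_a, Xa_d, Xa_e, map_zero] at h1 h2 h3 h4 h5 h6
    exact ⟨h1.symm.trans h4, by linear_combination h2 - h5, by linear_combination h6 - h3⟩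
  have hr : r = 1 := by simpa using (ha 1).1
  subst hr
  have hφ : ∀ a, φ a = a := fun a => by simpa using (ha a).1
  have hb : s.b = 0 := by simpa using (ha 1).2.1
  have hc : s.c = 0 := σ_inj (by rw [map_zero]; simpa only [one_mul, map_one] using (ha 1).2.2)
  have ht : t = 1 := by
    have h2 := (cj_P s (hP _ (xdP 1))).2.1
    rw [← k _ (xdP 1), (e _ (xdP 1)).2.1] at h2
    simpa using h2.symm
  subst ht
  refine ⟨s, ⟨hb, hc⟩, fun a ha => ?_⟩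
  rw [k a ha, tor_one]
  congr 2
  ext <;> simp only [fld_a, fld_b, fld_c, fld_d, fld_e, fld_f, hφ]

end NuP

open NuP

theorem swC {w : K} (h : Two p u sQ sP) (tb : TorB u) (k : Gr u f 0) (h0 : ∀ y ∈ (sY : Subgroup (US K)), (f y).e = 0)
    (hw : w ≠ 0) (hs : σ w = -w) (s : Sw u f w n) : ∃ ν, Fa u sP ν ∧ (∀ z ∈ (sZ : Subgroup (US K)), ν z = z) ∧
      ∀ x ∈ (sP : Subgroup (US K)), (ν x).a = x.e ∧ (ν x).d = -x.d ∧ (ν x).e = x.a := by
  refine ⟨fun x => n (τ w x), s.fa.comp (τ_fa tb hw), fun z hz => by beta_reduce; rw [τ_Z hw hz, s.z z hz],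
    fun x hx => ?_⟩
  obtain ⟨h1, h2, h3⟩ := sw_coord h k h0 hw hs s ((τ_fa tb hw).au.mem x hx)
  obtain ⟨h4, h5, h6, -⟩ := τ_coord hw x
  refine ⟨?_, ?_, ?_⟩
  · rw [h1, h6, hs]; field_simp
  · rw [h2, h5, hs]; field_simp
  · rw [h3, h4]; field_simp

theorem nuP (c : Cx p u) (tb : TorB u) (hf : Fa u sP f) (hz : ∀ z ∈ (sZ : Subgroup (US K)), f z = z)
    (e : ∀ x ∈ (sP : Subgroup (US K)), (f x).a = x.e ∧ (f x).d = -x.d ∧ (f x).e = x.a) : In u sP nu := by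
  obtain ⟨θ, hθ⟩ := exists_σ_ne K
  have h0 : θ ≠ 0 := fun h => hθ (by simp [h])
  have h1 : θ ≠ 1 := fun h => hθ (by simp [h])
  have s0 : σ θ ≠ 0 := by simpa using h0
  have s1 : σ θ ≠ 1 := fun h => h1 (σ_inj (by rw [h, map_one]))
  obtain ⟨g, hg, gf, fg⟩ := hf.exists_inv
  have eg : ∀ x ∈ (sP : Subgroup (US K)), (g x).a = x.e ∧ (g x).d = -x.d ∧ (g x).e = x.a := fun x hx => by
    obtain ⟨k1, k2, k3⟩ := e _ (hg.au.mem x hx)
    rw [fg x hx] at k1 k2 k3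
    exact ⟨k3.symm, by rw [k2, neg_neg], k1.symm⟩
  have t1 := τ_fa tb h0
  have t2 := τ_fa tb s0
  have t3 := τ_fa tb (inv_ne_zero s0)
  obtain ⟨s, hs, es⟩ := inner c (hf.comp (t1.comp (hg.comp t2))) fun x hx => by
    have m1 := t2.au.mem x hx
    have m2 := hg.au.mem _ m1
    obtain ⟨a1, a2, a3⟩ := e _ (t1.au.mem _ m2)
    obtain ⟨b1, b2, b3, -⟩ := τ_coord h0 (g (τ (σ θ) x))
    obtain ⟨c1, c2, c3⟩ := eg _ m1
    obtain ⟨d1, d2, d3, -⟩ := τ_coord s0 x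
    refine ⟨?_, ?_, ?_⟩
    · rw [a1, b3, c3, d1]; field_simp
    · rw [a2, b2, c2, d2, σσ]; field_simp
    · rw [a3, b1, c1, d3, σσ]; field_simp
  have hω : Au sP fun a => nu (f a) := au_nu.comp hf.au
  have hZ : ∀ z : US K, z ∈ (sZ : Subgroup (US K)) ↔ z ∈ (sP : Subgroup (US K)) ∧
      ∀ a ∈ (sP : Subgroup (US K)), z * a = a * z := fun z =>
    ⟨fun h => ⟨ZP h, fun a _ => m_Z h a⟩, fun h => cz_P h.2⟩
  have hfix : ∀ b ∈ (sP : Subgroup (US K)), b⁻¹ * τ θ b ∈ (sZ : Subgroup (US K)) → b ∈ (sZ : Subgroup (US K)) :=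
    fun b hb k => by
      obtain ⟨a1, a2, a3⟩ := coord_mul (inv_mem hb) (t1.au.mem b hb)
      obtain ⟨b1, b2, b3⟩ := coord_inv hb
      obtain ⟨c1, c2, c3, -⟩ := τ_coord h0 b
      rw [k.1, b1, c1] at a1
      rw [k.2.2.2.1, b2, c2] at a2
      rw [k.2.2.2.2, b3, c3] at a3
      refine ⟨?_, hb.1, hb.2, ?_, ?_⟩
      · refine (mul_eq_zero.1 (show (1 - θ) * b.a = 0 from ?_)).resolve_left (sub_ne_zero.2 h1.symm)
        field_simp at a1
        linear_combination -a1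
      · refine (mul_eq_zero.1 (show (θ - σ θ) * b.d = 0 from ?_)).resolve_left (sub_ne_zero.2 hθ.symm)
        field_simp at a2
        linear_combination -a2
      · exact (mul_eq_zero.1 (show (σ θ - 1) * b.e = 0 by linear_combination -a3)).resolve_left (sub_ne_zero.2 s1)
  obtain ⟨b, hb, eb⟩ := rigid (J := Unit) (t := fun _ => τ θ) (k₀ := ()) hω (fun _ => t1.au) hZ (fun _ _ _ _ => rfl)
    hfix fun _ => ⟨nu s, nu_mem s, fun a ha => by
      have m := t3.au.mem _ (hf.au.mem a ha)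
      have := es _ m
      rw [τ_τ s0, gf a ha] at this
      rw [this, au_nu.map_conj hs m, nu_τ h0]⟩
  have w : Au sP fun a => b * nu (f a) * b⁻¹ := (Au.conj b (nm_P b)).comp hω
  have wz : ∀ z ∈ (sZ : Subgroup (US K)), b * nu (f z) * b⁻¹ = z := fun z k => by
    have : nu z = z := by
      obtain ⟨k1, k2, k3, k4, k5⟩ := k
      ext <;> simp [k1, k2, k3, k4, k5]
    rw [hz z k, this, ← m_Z k b, mul_inv_cancel_right]
  have wid : ∀ x ∈ (sP : Subgroup (US K)), b * nu (f x) * b⁻¹ = x := fun x hx => by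
    obtain ⟨d, hd, z, hz', rfl⟩ := lang t1.au (fun z k => ZP k) (fun z k a _ => m_Z k a) hfix hx
    obtain ⟨z', k', e'⟩ := (modZ hd (w.mem d hd)).2 (by
      obtain ⟨a1, a2, a3⟩ := cj_P b (nu_mem (f d))
      obtain ⟨b1, b2, b3⟩ := e d hd
      refine ⟨?_, ?_, ?_⟩
      · rw [a1, nu_a, b3]
      · rw [a2, nu_d, b2, hb.1]; ring
      · rw [a3, nu_e, b1, hb.1, hb.2]; simp)
    have k1 := w.mul _ (mul_mem (inv_mem hd) (t1.au.mem d hd)) _ (ZP hz')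
    have k2 := w.mul _ (inv_mem hd) _ (t1.au.mem d hd)
    have k3 := w.map_inv hd
    have k4 := eb () d hd
    beta_reduce at k1 k2 k3 k4 e'
    rw [k1, k2, k3, k4, wz z hz', e', t1.au.mul _ hd _ (ZP k'), τ_Z h0 k', mul_inv_rev, ← m_Z k' (τ θ d),
      m_Z (inv_mem k') d⁻¹]
    group
  refine (hf.ind.comp (In.conj u sP b) (nm_P b)).congr fun y hy => ?_
  have := wid _ (nm_P b y hy)
  rw [← nu_nu (hf.au.mem _ (nm_P b y hy)), mul_left_cancel (mul_right_cancel this)]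

end Cfsg.Agent.U5F
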