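import Cfsg.Agent.U5F.SwA

/-! Project U5F: the torus of `SU₃(q)`.  See `notes/U5F.md`. -/

set_option autoImplicit false
set_option linter.unusedSectionVars false

namespace Cfsg.Agent.U5F

open US FK
open RFS (Au)
open scoped commutatorElement

variable {K : Type*} [Field K] [Bar K] {G : Type*} [Group G] [Finite G] {p : ℕ} [Fact p.Prime] [CharP K p]
  {u : US K →* G} {f g F n : US K → US K}

namespace SwB

theorem YP {y : US K} (h : y ∈ (sY : Subgroup (US K))) : y ∈ (sP : Subgroup (US K)) := ⟨h.2.1, h.2.2.1⟩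
theorem DP {y : US K} (h : y ∈ (sD : Subgroup (US K))) : y ∈ (sP : Subgroup (US K)) := ⟨h.2.1, h.2.2⟩

/-- the quotient of two swap elements is a torus element followed by an inner automorphism -/
theorem key {κ x : K} (c : Cx p u) (k : Gr u f κ) (hn : ∀ w, w ≠ 0 → ∃ n, Sw u f w n) (hx : x ≠ 0) :
    In u ⊤ (tor (σ x)⁻¹ (σ x ^ 2 / x)) ∧ ∃ s : US K, ∀ a, ∃ y ∈ (sY : Subgroup (US K)), ∃ y' ∈ (sY : Subgroup (US K)),
      (f y).a = a ∧ f y' = s * tor (σ x)⁻¹ (σ x ^ 2 / x) (f y) * s⁻¹ := by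
  obtain ⟨m, sm⟩ := hn 1 one_ne_zero
  obtain ⟨n, sn⟩ := hn x hx
  obtain ⟨m', hm', e1, e2⟩ := sm.fa.exists_inv
  have hh := sn.fa.comp hm'
  have hY : ∀ y ∈ (sY : Subgroup (US K)), n (m' y) ∈ (sY : Subgroup (US K)) ∧ (n (m' y)).e = y.e * x := fun y hy => by
    obtain ⟨y₀, hy₀, e⟩ := opp_sur c.two k.fa k.np y.e
    have m0 := k.fa.au.mem _ (YP hy₀)
    obtain ⟨h1, h2⟩ := sm.fy y₀ hy₀
    obtain ⟨h3, h4⟩ := sn.fy y₀ hy₀
    obtain ⟨h5, h6, h7⟩ := au_modZ hh.au (YP h1) (YP hy)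
      ⟨hy.1.trans h1.1.symm, hy.2.2.2.trans h1.2.2.2.symm, by rw [h2, e, mul_one]⟩
    rw [e1 _ m0] at h5 h6 h7
    have m1 := hh.au.mem y (YP hy)
    exact ⟨⟨h5.trans h3.1, m1.1, m1.2, h6.trans h3.2.2.2⟩, by rw [h7, h4, e]⟩
  obtain ⟨s, r, t, φ, hr, ht, hi, e⟩ := c.decP hh fun y hy => (hY y hy).1
  have hP : ∀ x ∈ (sP : Subgroup (US K)), tor r t (fld φ x) ∈ (sP : Subgroup (US K)) := fun x hx =>
    ⟨by simp [hx.1], by simp [hx.2]⟩
  have he : ∀ a : K, r * t * σ t * φ a = a * x := fun a => by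
    have hy : Xe a ∈ (sY : Subgroup (US K)) := ⟨rfl, rfl, rfl, rfl⟩
    have h1 := (cj_P s (hP _ (YP hy))).2.2
    rw [← e _ (YP hy), (hY _ hy).2] at h1
    simpa using h1.symm
  have h1 : r * t * σ t = x := by simpa using he 1
  have hφ : ∀ a, φ a = a := fun a => mul_left_cancel₀ hx (by rw [← h1, he, h1, mul_comm])
  have hφ' : ∀ a : US K, fld φ a = a := fun a => by
    ext <;> simp only [fld_a, fld_b, fld_c, fld_d, fld_e, fld_f, hφ]
  have s0 : σ x ≠ 0 := by simpa using hx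
  have h2 : r * t = σ x / x := by
    obtain ⟨v, hv, v1, v2, v3⟩ := exists_P 0 1 (σ 1 * κ + 1 * σ κ)
    have hD : v ∈ (sD : Subgroup (US K)) := ⟨v1, hv.1, hv.2⟩
    have hc := (k.perp c.two hD).2 (by rw [v2, v3])
    obtain ⟨a1, -, a2⟩ := sm.d v hD hc
    obtain ⟨-, -, a3⟩ := sn.d v hD hc
    have a4 := (cj_P s (hP _ (DP a1))).2.1
    rw [← e _ (DP a1), e1 v hv, a3, hφ', tor_d, tor_a, a2, a1.1, v2] at a4
    simp only [map_one] at a4
    linear_combination a4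
  have h3 : t = σ x ^ 2 / x := σ_inj (by
    rw [h2] at h1
    rw [map_div₀, map_pow, σσ]
    field_simp at h1 ⊢
    linear_combination h1)
  have h4 : r = (σ x)⁻¹ := by
    rw [h3] at h2
    field_simp at h2 ⊢
    linear_combination h2
  subst h3 h4
  refine ⟨hi.congr fun a _ => by rw [hφ'], s, fun a => ?_⟩
  have np : ¬ PY m := fun h => k.np fun y hy => by
    have := PY.inv sm.fa.au e1 h _ (sm.fy y hy).1
    rwa [e1 _ (k.fa.au.mem _ (YP hy))] at this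
  obtain ⟨y₀, hy₀, e0⟩ := opp_sur c.two sm.fa np a
  obtain ⟨y, hy, ey⟩ := sm.y y₀ hy₀
  obtain ⟨y', hy', ey'⟩ := sn.y y₀ hy₀
  refine ⟨y, hy, y', hy', ey ▸ e0, ?_⟩
  have := e _ (sm.fa.au.mem _ (YP hy₀))
  rw [e1 _ (YP hy₀), hφ', ey', ey] at this
  exact this

/-- the `e`-coordinate on a conjugate of `Y` is linear over the fixed field -/
theorem lin_e (h : Two p u sQ sP) (hf : Fa u sP f) (hn : ¬ PY f) :
    ∃ α β, ∀ y ∈ (sY : Subgroup (US K)), (f y).e = α * (f y).a + β * σ (f y).a := by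
  choose Y hY eY using opp_sur h hf hn
  have k : ∀ y ∈ (sY : Subgroup (US K)), (f y).e = (f (Y (f y).a)).e := fun y hy =>
    (opp_inj h hf hn (hY _) hy (eY _).symm).2.2
  obtain ⟨α, β, e⟩ := flin (ψ := fun a => (f (Y a)).e) (fun a b => by
    obtain ⟨h1, -, h2⟩ := coord_mul (hf.au.mem _ (YP (hY a))) (hf.au.mem _ (YP (hY b)))
    rw [← hf.au.mul _ (YP (hY a)) _ (YP (hY b))] at h1 h2
    rw [← h2, k _ (mul_mem (hY a) (hY b)), h1, eY, eY]) fun l a hl => by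
      obtain ⟨v, hv, e'⟩ := exists_P (l * (f (Y a)).a) (l * (f (Y a)).d) (l * (f (Y a)).e)
      obtain ⟨y, hy, rfl⟩ := scale_Y hf.au (hY a) hv hl e'
      rw [← e'.2.2, k y hy, e'.1, eY]
  exact ⟨α, β, fun y hy => by rw [k y hy, e]⟩

end SwB

open SwB

theorem swB {κ : K} (c : Cx p u) (k : Gr u f κ) (hn : ∀ w, w ≠ 0 → ∃ n, Sw u f w n) :
    TorB u ∧ κ = 0 ∧ ∃ α, σ α = -α ∧ ∀ y ∈ (sY : Subgroup (US K)), (f y).e = α * (f y).a := by
  refine ⟨fun t ht => by simpa only [σσ] using (key (x := σ t) c k hn (by simpa using ht)).1, ?_⟩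
  obtain ⟨θ, hθ⟩ := exists_σ_ne K
  have h0 : θ ≠ 0 := fun h => hθ (by simp [h])
  have h1 : θ ≠ 1 := fun h => hθ (by simp [h])
  have h2 : θ ≠ -1 := fun h => hθ (by simp [h])
  have s0 : σ θ ≠ 0 := by simpa using h0
  have s1 : σ θ ≠ 1 := fun h => h1 (σ_inj (by rw [h, map_one]))
  obtain ⟨-, s, hs⟩ := key c k hn h0
  obtain ⟨α, β, hl⟩ := lin_e c.two k.fa k.np
  have co : ∀ a, ∃ y ∈ (sY : Subgroup (US K)), ∃ y' ∈ (sY : Subgroup (US K)), (f y).a = a ∧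
      (f y').a = a / σ θ ∧ (f y').d = σ θ / θ * (f y).d - a / σ θ * s.b ∧
      (f y').e = θ * (f y).e + σ θ / θ * (f y).d * σ s.b + a / σ θ * σ s.c := fun a => by
    obtain ⟨y, hy, y', hy', e1, e2⟩ := hs a
    have m := k.fa.au.mem y (YP hy)
    obtain ⟨a1, a2, a3⟩ := cj_P s (x := tor (σ θ)⁻¹ (σ θ ^ 2 / θ) (f y)) ⟨by simp [m.1], by simp [m.2]⟩
    rw [← e2] at a1 a2 a3
    simp only [tor_a, tor_d, tor_e, e1, map_div₀, map_pow, σσ] at a1 a2 a3
    refine ⟨y, hy, y', hy', e1, ?_, ?_, ?_⟩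
    · rw [a1]; field_simp
    · rw [a2]; field_simp
    · rw [a3]; field_simp
  obtain ⟨k1, k2⟩ := indep (α := κ / σ θ - σ θ / θ * κ + s.b / σ θ) (β := κ / θ - σ θ / θ * κ) fun a => by
    obtain ⟨y, hy, y', hy', e1, e2, e3, -⟩ := co a
    rw [k.d y hy, k.d y' hy', e1, e2, map_div₀, σσ] at e3
    linear_combination e3
  have hκ : κ = 0 := by
    refine (mul_eq_zero.1 (show (1 - σ θ) * κ = 0 from ?_)).resolve_left (sub_ne_zero.2 s1.symm)
    field_simp at k2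
    linear_combination k2
  have hb : s.b = 0 := by simpa [hκ, h0] using k1
  have k3 := (indep (α := α / σ θ - θ * α - σ s.c / σ θ) (β := β / θ - θ * β) fun a => by
    obtain ⟨y, hy, y', hy', e1, e2, -, e3⟩ := co a
    rw [hl y hy, hl y' hy', e1, e2, map_div₀, σσ, hb, map_zero] at e3
    linear_combination e3).2
  have hβ : β = 0 := by
    refine (mul_eq_zero.1 (show (1 - θ) * (θ - -1) * β = 0 from ?_)).resolve_left
      (mul_ne_zero (sub_ne_zero.2 h1.symm) (sub_ne_zero.2 h2))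
    field_simp at k3
    linear_combination k3
  refine ⟨hκ, α, ?_, fun y hy => by rw [hl y hy, hβ]; ring⟩
  obtain ⟨y, hy, e1⟩ := opp_sur c.two k.fa k.np 1
  obtain ⟨y', hy', e2⟩ := opp_sur c.two k.fa k.np θ
  have := (comm_iff_P (k.fa.au.mem y (YP hy)) (k.fa.au.mem y' (YP hy'))).1
    ((au_comm k.fa.au (YP hy) (YP hy')).2 (m_DY ⟨hy.1, hy.2.1, hy.2.2.1⟩ hy'))
  rw [hl y hy, hl y' hy', k.d y hy, k.d y' hy', e1, e2, hκ, hβ] at this
  simp only [zero_mul, add_zero, map_mul, map_one, map_zero, mul_zero] at this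
  refine eq_neg_of_add_eq_zero_left
    ((mul_eq_zero.1 (show (σ θ - θ) * (σ α + α) = 0 from ?_)).resolve_left (sub_ne_zero.2 hθ))
  linear_combination this

end Cfsg.Agent.U5F
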