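import Cfsg.Agent.U5F.Ext

/-! Project U5F: the action on `Q / J`.  See `notes/U5F.md`. -/

set_option autoImplicit false
set_option linter.unusedSectionVars false

namespace Cfsg.Agent.U5F

open US FK
open RFS (Au)
open scoped commutatorElement

variable {K : Type*} [Field K] [Bar K] {G : Type*} [Group G] [Finite G] {p : ℕ} [Fact p.Prime] [CharP K p]
  {u : US K →* G} {f g F n : US K → US K}

theorem low_mul (h : Au sQ f) {x y : US K} (hx : x.a = 0) (hy : y.a = 0) :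
    (f (x * y)).b = (f x).b + (f y).b ∧ (f (x * y)).d = (f x).d + (f y).d := by
  rw [h.mul x hx y hy]
  simp [mem_sQ.1 (h.mem x hx)]

theorem low_cg (h : Au sQ f) {x y : US K} (hx : x.a = 0) (hy : y.a = 0) (hb : x.b = y.b) (hd : x.d = y.d) :
    (f x).b = (f y).b ∧ (f x).d = (f y).d := by
  have h1 := chQ_J h (y⁻¹ * x) (by simp [hx, hy, hb, hd])
  have h2 := low_mul h hy (y := y⁻¹ * x) (by simp [hx, hy])
  rwa [mul_inv_cancel_left, h1.2.1, h1.2.2, add_zero, add_zero] at h2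

theorem t2Q (hf : Au sQ f) (k : ¬ PW f) : ∃ t, ∀ x ∈ (sW : Subgroup (US K)), Xa t * f x * (Xa t)⁻¹ ∈ (sW0 : Subgroup (US K)) := by
  obtain ⟨b, d, h0, h⟩ := lineQ hf
  have hb : b ≠ 0 := by
    rintro rfl
    exact k fun x hx => ⟨hf.mem x hx.1, by simpa [h0.resolve_left (by simp)] using h x hx⟩
  refine ⟨-(d / b), fun x hx => ⟨nm_Q _ _ (hf.mem x hx.1), ?_⟩⟩
  rw [(cj_Q _ (hf.mem x hx.1)).2, Xa_a]
  have := h x hx
  field_simp
  linear_combination -this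

theorem low (h : EssQ u) : Low u := by
  obtain ⟨f, hf, k⟩ := h
  obtain ⟨t, ht⟩ := t2Q hf.au k
  obtain ⟨v, hv, h1⟩ : ∃ v, Fa u sQ v ∧ ∀ x ∈ (sW : Subgroup (US K)), (v x).d = 0 :=
    ⟨_, (Fa.conj u (Xa t) (nm_Q _)).comp hf, fun x hx => (ht x hx).2⟩
  obtain ⟨w, hw, wv, vw⟩ := hv.exists_inv
  have hW : ∀ r : K, Xd r ∈ (sW : Subgroup (US K)) := fun r => ⟨rfl, rfl⟩
  have k1 : ∀ (x : US K) (r : K), x.a = 0 → x.b = (v (Xd r)).b → x.d = 0 → (w x).b = 0 ∧ (w x).d = r :=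
    fun x r ha hb hd => by
      have := low_cg hw.au ha (hv.au.mem (Xd r) rfl) hb (hd.trans (h1 _ (hW r)).symm)
      rwa [wv _ (hW r).1] at this
  have gs : Function.Surjective fun r : K => (v (Xd r)).b := Finite.surjective_of_injective fun r r' e => by
    have := (k1 _ r' (hv.au.mem (Xd r) rfl) e (h1 _ (hW r))).2
    rwa [wv _ (hW r).1] at this
  have k2 : ∀ x : US K, x.a = 0 → (w x).b = (w (Xd x.d)).b := fun x hx => by
    obtain ⟨r, hr⟩ := gs x.b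
    rw [(low_cg hw.au hx (y := Xd x.d * Xb x.b) (by simp) (by simp) (by simp)).1, (low_mul hw.au rfl rfl).1,
      (k1 (Xb x.b) r rfl hr.symm rfl).1, add_zero]
  have c1 : (w (Xd 1)).b ≠ 0 := fun e => by
    have := h1 _ ⟨hw.au.mem (Xd 1) rfl, e⟩
    rw [vw _ (hW 1).1] at this
    exact one_ne_zero this
  intro s
  obtain ⟨t0, rfl⟩ := gs s
  obtain ⟨t, rfl⟩ : ∃ t, t0 = t * (w (Xd 1)).b := ⟨t0 / (w (Xd 1)).b, by field_simp⟩
  have hg := (hv.comp (Fa.conj u (Xa t) (nm_Q _))).comp hw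
  have e1 : ∀ x : US K, x.a = 0 → (v (Xa t * w x * (Xa t)⁻¹)).b = x.b + (v (Xd (t * (w (Xd x.d)).b))).b ∧
      (v (Xa t * w x * (Xa t)⁻¹)).d = x.d := fun x hx => by
    have m : (w x).a = 0 := hw.au.mem x hx
    have e2 := low_cg hv.au (nm_Q (Xa t) _ m) (y := w x * Xd (t * (w x).b)) (by simp [m])
      (by rw [(cj_Q _ m).1]; simp) (by rw [(cj_Q _ m).2]; simp)
    have e3 := low_mul hv.au m (y := Xd (t * (w x).b)) rfl
    rw [e2.1, e2.2, e3.1, e3.2, vw x hx, h1 _ (hW _), add_zero, k2 x hx]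
    exact ⟨rfl, rfl⟩
  obtain ⟨b1, d1, h0, h2⟩ := lineQ hg.au
  have h3 : ∀ r : K, (v (Xd (t * (w (Xd r)).b))).b * d1 = r * b1 := fun r => by
    have := h2 _ (hW r)
    rwa [(e1 _ rfl).1, (e1 _ rfl).2, Xd_b, zero_add] at this
  have h4 : d1 ≠ 0 := by
    rintro rfl
    exact h0.resolve_right (by simp) (by simpa using (h3 1).symm)
  refine ⟨_, hg, fun x hx => ⟨(e1 x hx).1.trans ?_, (e1 x hx).2⟩⟩
  congr 1
  apply mul_right_cancel₀ h4
  linear_combination h3 x.d - x.d * h3 1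

theorem Low.exists_w (h : Low u) {l : K} (hl : l ≠ 0) :
    ∃ w, Fa u sQ w ∧ ∀ x ∈ (sQ : Subgroup (US K)), (w x).b = l * x.d ∧ (w x).d = -(x.b / l) := by
  obtain ⟨f, hf, e⟩ := h l
  have c := Fa.conj u (Xa (-l⁻¹)) (nm_Q _)
  refine ⟨_, (c.comp hf).comp c, fun x hx => ?_⟩
  have m := nm_Q (Xa (-l⁻¹)) x hx
  have m' := hf.au.mem _ m
  rw [(cj_Q _ m').1, (cj_Q _ m').2, (e _ m).1, (e _ m).2, (cj_Q _ hx).1, (cj_Q _ hx).2, Xa_a]
  constructor <;> field_simp <;> ring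

theorem Cx.torA (c : Cx p u) (h : Low u) : TorA u := fun l hl => by
  obtain ⟨w, hw, e⟩ := h.exists_w (inv_ne_zero hl)
  obtain ⟨w1, hw1, e1⟩ := h.exists_w (l := -1) (by simp)
  have e2 : ∀ x ∈ (sQ : Subgroup (US K)), (w (w1 x)).b = l⁻¹ * x.b ∧ (w (w1 x)).d = l * x.d := fun x hx => by
    rw [(e _ (hw1.au.mem x hx)).1, (e _ (hw1.au.mem x hx)).2, (e1 x hx).1, (e1 x hx).2]
    constructor <;> field_simp
  obtain ⟨s, r, t, φ, -, -, h1, h2⟩ := c.decQ (hw.comp hw1) fun x hx =>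
    ⟨hw.au.mem _ (hw1.au.mem x hx.1), by rw [(e2 x hx.1).1, hx.2, mul_zero]⟩
  have h3 : ∀ x : K, l⁻¹ * x = t * φ x := fun x => by
    have := (e2 (Xb x) rfl).1
    rw [h2 _ (show Xb x ∈ (sQ : Subgroup (US K)) from rfl), (cj_Q _ (by simp)).1] at this
    exact this.symm
  have h4 : t = l⁻¹ := by simpa using (h3 1).symm
  subst h4
  have h5 : ∀ x, φ x = x := fun x => (mul_left_cancel₀ (inv_ne_zero hl) (h3 x)).symm
  have h6 := (e2 (Xd 1) rfl).2
  rw [h2 _ (show Xd 1 ∈ (sQ : Subgroup (US K)) from rfl), (cj_Q _ (by simp)).2] at h6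
  simp only [tor_d, tor_b, fld_d, fld_b, Xd_d, Xd_b, h5, mul_one, mul_zero, add_zero] at h6
  obtain rfl : r = l ^ 2 := by field_simp at h6; exact h6
  exact h1.congr fun a _ => by rw [show fld φ a = a by ext <;> simp [h5]]

end Cfsg.Agent.U5F
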