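import Cfsg.Agent.U5F.Opp

/-! Project U5F: two-transitivity in characteristic two; the graph of a conjugate.  See `notes/U5F.md`. -/

set_option autoImplicit false
set_option linter.unusedSectionVars false

namespace Cfsg.Agent.U5F

open US FK
open RFS (Au)
open scoped commutatorElement

variable {K : Type*} [Field K] [Bar K] {G : Type*} [Group G] [Finite G] {p : ℕ} [Fact p.Prime] [CharP K p]
  {u : US K →* G} {f g F n : US K → US K}

namespace T2a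

theorem YP {y : US K} (hy : y ∈ (sY : Subgroup (US K))) : y ∈ (sP : Subgroup (US K)) := ⟨hy.2.1, hy.2.2.1⟩

theorem e_ne (h : Au sP f) {y : US K} (hy : y ∈ (sY : Subgroup (US K))) (k : (f y).a = 1) : y.e ≠ 0 :=
  fun e => one_ne_zero (k.symm.trans (chP_Z h y ⟨hy.1, hy.2.1, hy.2.2.1, hy.2.2.2, e⟩).1)

theorem fa_cj (hf : Fa u sP f) (s : US K) : Fa u sP fun a => s * f a * s⁻¹ :=
  (Fa.conj u s (nm_P s)).comp hf

theorem std2 (h : Two p u sQ sP) (hp : p = 2) (hf : Fa u sP f) (hn : ¬ PY f) :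
    ∃ s : US K, ∃ y ∈ (sY : Subgroup (US K)), (s * f y * s⁻¹).a = 1 ∧ (s * f y * s⁻¹).d = 0 ∧
      (s * f y * s⁻¹).e = 0 := by
  subst hp
  obtain ⟨y, hy, ha⟩ := opp_sur h hf hn 1
  have hx := hf.au.mem y (YP hy)
  have f1 : f 1 = 1 := by
    have := hf.au.mul 1 (one_mem _) 1 (one_mem _)
    rw [mul_one] at this
    exact mul_eq_left.1 this.symm
  have x2 : f y * f y = 1 := by
    rw [← hf.au.mul y (YP hy) y (YP hy), ← pow_two, pow_p_J 2 ⟨hy.1, hy.2.1, hy.2.2.2⟩, f1]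
  generalize e : f y = x at ha hx x2
  have k := congrArg US.f x2
  simp [hx.1, hx.2, ha, CharTwo.add_self_eq_zero] at k
  obtain ⟨c1, c2, c3⟩ := cj_P (⟨0, x.d, -σ x.e - x.d * σ x.d, 0, 0, 0, by
    simp only [map_sub, map_neg, map_mul, σσ]; linear_combination k, by simp⟩ : US K) hx
  subst e
  refine ⟨_, y, hy, c1.trans ha, c2.trans (by simp [ha]), c3.trans ?_⟩
  simp [ha]
  ring

theorem norm (h : Two p u sQ sP) (hf : Fa u sP f) (hn : ¬ PY f) :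
    ∃ b : K, ∃ y ∈ (sY : Subgroup (US K)), (Xb b * f y * (Xb b)⁻¹).a = 1 ∧ (Xb b * f y * (Xb b)⁻¹).d = 0 := by
  obtain ⟨y, hy, ha⟩ := opp_sur h hf hn 1
  obtain ⟨c1, c2, -⟩ := cj_P (Xb (f y).d) (hf.au.mem y (YP hy))
  exact ⟨_, y, hy, c1.trans ha, c2.trans (by simp [ha])⟩

theorem d_zero (h : Two p u sQ sP) (hp : p ≠ 2) (i0 : In u ⊤ (tor 1 (-1))) (hf : Fa u sP f) (hn : ¬ PY f)
    {y : US K} (hy : y ∈ (sY : Subgroup (US K))) (ha : (f y).a = 1) (hd : (f y).d = 0) {w : US K}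
    (hw : w ∈ (sY : Subgroup (US K))) : (f w).d = 0 := by
  obtain ⟨w', hw', e⟩ := meet h ((fa_tor one_ne_zero (neg_ne_zero.2 one_ne_zero) i0).1.comp hf) hf hy hy
    (e_ne hf.au hy ha) ⟨by simp, by simp [hd], by simp⟩ w hw
  have e1 := (opp_inj h hf hn hw hw' (by rw [← e]; simp)).2.1
  rw [← e] at e1
  simp only [tor_d] at e1
  exact (mul_eq_zero.1 (show 2 * (f w).d = 0 by linear_combination -e1)).resolve_left (two_ne p hp)

end T2a

open T2a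

theorem t2_two (h : Two p u sQ sP) (hp : p = 2) : T2 u := fun f g hf hg hn hn' => by
  obtain ⟨s, y, hy, h1, h2, h3⟩ := std2 h hp hf hn
  obtain ⟨s', y', hy', k1, k2, k3⟩ := std2 h hp hg hn'
  refine ⟨s'⁻¹ * s, fun w hw => ?_⟩
  obtain ⟨w', hw', e⟩ := meet h (fa_cj hf s) (fa_cj hg s') hy hy' (e_ne (fa_cj hf s).au hy h1)
    ⟨h1.trans k1.symm, h2.trans k2.symm, h3.trans k3.symm⟩ w hw
  refine ⟨w', hw', ?_⟩
  calc _ = s'⁻¹ * (s * f w * s⁻¹) * s' := by group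
    _ = _ := by rw [e]; group

theorem gr_two (h : Two p u sQ sP) (hp : p = 2) (e : EssP u) : ∃ f κ, Gr u f κ := by
  obtain ⟨f₀, hf₀, hn₀⟩ := e
  obtain ⟨b, y, hy, ha, hd⟩ := norm h hf₀ hn₀
  obtain ⟨f, hf, hn, ha, hd⟩ : ∃ f : US K → US K, Fa u sP f ∧ ¬ PY f ∧ (f y).a = 1 ∧ (f y).d = 0 :=
    ⟨_, fa_cj hf₀ (Xb b), np_conj hn₀ _, ha, hd⟩
  choose Y hY eY using opp_sur h hf hn
  have key : ∀ w ∈ (sY : Subgroup (US K)), (f w).d = (f (Y (f w).a)).d := fun w hw =>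
    (opp_inj h hf hn hw (hY _) (eY _)).2.1.symm
  obtain ⟨α, β, hl⟩ := flin (ψ := fun t => (f (Y t)).d) (fun s t => by
      obtain ⟨c1, c2, -⟩ := coord_mul (hf.au.mem _ (YP (hY s))) (hf.au.mem _ (YP (hY t)))
      rw [← hf.au.mul _ (YP (hY s)) _ (YP (hY t))] at c1 c2
      rw [← c2, key _ (mul_mem (hY s) (hY t)), c1, eY, eY])
    fun l t hl => by
      obtain ⟨x, hx, c⟩ := exists_P (l * (f (Y t)).a) (l * (f (Y t)).d) (l * (f (Y t)).e)
      obtain ⟨w, hw, rfl⟩ := scale_Y hf.au (hY t) hx hl c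
      rw [← c.2.1, key w hw, c.1, eY]
  subst hp
  have h1 := hl 1
  rw [← ha, ← key y hy, hd, ha, map_one, mul_one, mul_one, eq_comm, CharTwo.add_eq_zero] at h1
  exact ⟨f, α, hf, hn, CharTwo.add_self_eq_zero α, fun w hw => by rw [key w hw, hl, ← h1, mul_add]⟩

theorem lin (h : Two p u sQ sP) (hp : p ≠ 2) (i0 : In u ⊤ (tor 1 (-1))) (hf : Fa u sP f) (hn : ¬ PY f) :
    ∃ b, ∀ y ∈ (sY : Subgroup (US K)), (f y).d = (f y).a * b := by
  obtain ⟨b, y, hy, ha, hd⟩ := norm h hf hn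
  refine ⟨b, fun w hw => ?_⟩
  have := d_zero h hp i0 (fa_cj hf (Xb b)) (np_conj hn _) hy ha hd hw
  rw [(cj_P (Xb b) (hf.au.mem w (YP hw))).2.1, Xb_b, sub_eq_zero] at this
  exact this

theorem gr_odd (h : Two p u sQ sP) (hp : p ≠ 2) (i0 : In u ⊤ (tor 1 (-1))) (e : EssP u) : ∃ f, Gr u f 0 := by
  obtain ⟨f, hf, hn⟩ := e
  obtain ⟨b, y, hy, ha, hd⟩ := norm h hf hn
  exact ⟨_, fa_cj hf (Xb b), np_conj hn _, add_zero 0, fun w hw => by
    rw [zero_mul]; exact d_zero h hp i0 (fa_cj hf (Xb b)) (np_conj hn _) hy ha hd hw⟩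

end Cfsg.Agent.U5F
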