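import Cfsg.Agent.U5F.T2b
import Cfsg.Agent.U5F.T2a
import Cfsg.Agent.U5F.Low
import Cfsg.Agent.FK.Uniq

/-! Project U5F: uniqueness.  See `notes/U5F.md`. -/

set_option autoImplicit false
set_option linter.unusedSectionVars false

namespace Cfsg.Agent.U5F

open US FK
open RFS (Au)
open scoped commutatorElement

variable {K : Type*} [Field K] [Bar K] {G : Type*} [Group G] [Finite G] {p : ℕ} [Fact p.Prime] [CharP K p]
  {u : US K →* G} {f g F n : US K → US K}
  {G' : Type*} [Group G'] [Finite G'] {u' : US K →* G'}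

theorem NF.t2 (h : NF p u) : T2 u :=
  (em (p = 2)).elim (t2_two h.cx.two) fun hp => t2_odd h.cx.two hp h.tor.torA.i0

theorem NF.uniq_top (h : NF p u) (hX : ∀ k : TF K, In u ⊤ (act k) → In u' ⊤ (act k))
    (hF : Fa u ⊤ F) : In u' ⊤ F := by
  obtain ⟨s, r, t, φ, hr, ht, e⟩ := h.cx.std F hF
  have h1 := hX ⟨(Units.mk0 r hr, Units.mk0 t ht), φ⟩
    (((In.conj u ⊤ s⁻¹).comp hF.ind fun _ _ => trivial).congr fun a _ => by
      rw [e a, act_apply]
      show _ = U5F.tor r t (fld φ a)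
      group)
  exact ((In.conj u' ⊤ s).comp h1 fun _ _ => trivial).congr fun a _ => (e a).symm

theorem NF.uniq_Q (h : NF p u) (h' : NF p u') (hX : ∀ k : TF K, In u ⊤ (act k) → In u' ⊤ (act k))
    (hf : Fa u sQ f) : In u' sQ f := by
  have key : ∀ g, Fa u sQ g → PW g → In u' sQ g := fun g hg hW => by
    obtain ⟨F, hF, e⟩ := extQ h.cx.two hg hW
    exact ((h.uniq_top hX hF).mono le_top).congr e
  by_cases k : PW f
  · exact key f hf k
  obtain ⟨t, ht⟩ := t2Q hf.au k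
  have h1 := (Fa.conj u (Xa t) (nm_Q _)).comp hf
  have h2 := (Fa.mk au_mu h.mu).comp h1
  exact ((In.conj u' sQ (Xa t)⁻¹).comp (h'.mu.comp (key _ h2 fun y hy => ⟨rfl, (ht y hy).2⟩) h2.au.mem)
    fun a _ => mu_mem _).congr fun a ha => by
      rw [mu_mu (h1.au.mem a ha)]; group

theorem NF.uniq_P (h : NF p u) (h' : NF p u') (hX : ∀ k : TF K, In u ⊤ (act k) → In u' ⊤ (act k))
    (hf : Fa u sP f) : In u' sP f := by
  have key : ∀ g, Fa u sP g → PY g → In u' sP g := fun g hg hY => by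
    obtain ⟨F, hF, e⟩ := extP h.cx.two hg hY
    exact ((h.uniq_top hX hF).mono le_top).congr e
  by_cases k : PY f
  · exact key f hf k
  have hn : ¬ PY (U5F.nu : US K → US K) := fun a =>
    one_ne_zero (a (Xe 1) ⟨rfl, rfl, rfl, rfl⟩).1
  obtain ⟨s, hs⟩ := h.t2 f U5F.nu hf ⟨au_nu, h.nu⟩ k hn
  have h1 := (Fa.conj u s (nm_P _)).comp hf
  have h2 := (Fa.mk au_nu h.nu).comp h1
  refine ((In.conj u' sP s⁻¹).comp (h'.nu.comp (key _ h2 fun y hy => ?_) h2.au.mem)
    fun a _ => nu_mem _).congr fun a ha => by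
      rw [nu_nu (h1.au.mem a ha)]; group
  obtain ⟨y', hy', e⟩ := hs y hy
  show U5F.nu (s * f y * s⁻¹) ∈ _
  rw [e, nu_nu ⟨hy'.2.1, hy'.2.2.1⟩]
  exact hy'

theorem NF.uniq (h : NF p u) (h' : NF p u') (hX : ∀ k : TF K, In u ⊤ (act k) → In u' ⊤ (act k))
    {X : Subgroup (US K)} (hf : In u X f) : In u' X f :=
  h.cx.two.uniq (fun _ => h.uniq_top hX) (fun _ => h.uniq_Q h' hX) (fun _ => h.uniq_P h' hX) hf

end Cfsg.Agent.U5F
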