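import Cfsg.Agent.U5F.EQ
import Cfsg.Agent.U5F.EP
import Cfsg.Agent.U5F.I1
import Cfsg.Agent.U5F.I2
import Cfsg.Agent.U5F.ERa
import Cfsg.Agent.U5F.ERb
import Cfsg.Agent.U5F.ENa
import Cfsg.Agent.U5F.ENb
import Cfsg.Agent.U5F.AuS
import Cfsg.Agent.U5F.SwB
import Cfsg.Agent.U5F.NuP
import Cfsg.Agent.U5F.MuQ
import Cfsg.Agent.U5F.Uniq
import Cfsg.Agent.U5F.ModA
import Cfsg.Agent.U5F.ModN
import Cfsg.Agent.U5F.ModC
import Cfsg.Agent.U5F.ModB

/-! Project U5F: the main theorem.  See `notes/U5F.md`. -/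

set_option autoImplicit false
set_option linter.unusedSectionVars false

namespace Cfsg.Agent.U5F

open US FK
open RFS (Au)
open scoped commutatorElement

variable {K : Type*} [Field K] [Bar K] {G : Type*} [Group G] [Finite G] {p : ℕ} [Fact p.Prime] [CharP K p]
  {u : US K →* G}

theorem ess {E : Subgroup (US K)} {L : Subgroup G} (h : Pr p u E L) : E = sQ ∨ E = sP := by
  by_cases hQ : E ≤ sQ
  · exact .inl (eqQ h hQ)
  by_cases hP : E ≤ sP
  · exact .inr (eqP h hP)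
  exfalso
  have hV : Om p E ⊥ ≤ sQ := fun v hv => by
    by_contra ha
    by_cases hb : v.b = 0
    swap
    · exact reg_v h hv ha hb
    by_cases hc : v.c = 0
    swap
    · exact ac_v h hv ha hb hc
    refine hP fun e he => ?_
    have k := (mem_V.1 hv).2.2 e he
    have kd := congrArg US.d k
    have ke := congrArg US.e k
    simp only [mul_d, mul_e, hb, hc, map_zero] at kd ke
    have h1 : e.b = 0 := (mul_eq_zero.1 (show v.a * e.b = 0 by linear_combination -kd)).resolve_left ha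
    rw [h1, map_zero] at ke
    exact ⟨h1, (mul_eq_zero.1 (show v.a * e.c = 0 by linear_combination -ke)).resolve_left ha⟩
  obtain ⟨e₀, he, h0⟩ := SetLike.not_le_iff_exists.1 hQ
  rw [mem_sQ] at h0
  by_cases hR : E ≤ sR
  · obtain ⟨hD, hY⟩ := er_D h hR hV he h0
    obtain ⟨e₁, he₁, h1⟩ := SetLike.not_le_iff_exists.1 hP
    have hc : e₁.c ≠ 0 := fun k => h1 ⟨hR he₁, k⟩
    obtain ⟨e, he, ha, hc⟩ : ∃ e ∈ E, e.a ≠ 0 ∧ e.c ≠ 0 := by
      by_cases k0 : e₀.c = 0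
      · by_cases k1 : e₁.a = 0
        · exact ⟨e₀ * e₁, mul_mem he he₁, by simpa [k1] using h0, by simpa [k0, mem_sR.1 (hR he)] using hc⟩
        · exact ⟨e₁, he₁, k1, hc⟩
      · exact ⟨e₀, he, h0, k0⟩
    exact er_line h hR hD hY he ha (er_span h hR hD hY he ha hc)
  · obtain ⟨e₁, he₁, h1⟩ := SetLike.not_le_iff_exists.1 hR
    rw [mem_sR] at h1
    obtain ⟨e, he, ha, hb⟩ : ∃ e ∈ E, e.a ≠ 0 ∧ e.b ≠ 0 := by
      by_cases k0 : e₀.b = 0
      · by_cases k1 : e₁.a = 0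
        · exact ⟨e₀ * e₁, mul_mem he he₁, by simpa [k1] using h0, by simpa [k0] using h1⟩
        · exact ⟨e₁, he₁, k1, h1⟩
      · exact ⟨e₀, he, h0, k0⟩
    exact top2 h (en1 h (fun v hv => V_J hV he ha hv (en2 h hV he ha hb hv)) he ha hb) he ha hb

theorem two_of (h : Sat p u) : Two p u sQ sP where
  sat := h
  ess _ _ := ess
  nQ := nm_Q
  nT := nm_P
  cQ _ k := (cz_Q k).1
  cT _ k := ⟨(cz_P k).2.1, (cz_P k).2.2.1⟩
  chQ _ := ch_Q
  chT _ := ch_P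
  QT k := one_ne_zero (α := K) (k (x := Xb 1) rfl).1
  TQ k := one_ne_zero (α := K) (k (x := Xa 1) ⟨rfl, rfl⟩)

theorem Cx.nf (c : Cx p u) (eQ : EssQ u) (eP : EssP u) : NF p u := by
  have l := low eQ
  have ta := c.torA l
  obtain ⟨t2, f, κ, k⟩ : T2 u ∧ ∃ f κ, Gr u f κ := by
    by_cases hp : p = 2
    · exact ⟨t2_two c.two hp, gr_two c.two hp eP⟩
    · exact ⟨t2_odd c.two hp ta.i0, (gr_odd c.two hp ta.i0 eP).imp fun _ k => ⟨0, k⟩⟩
  obtain ⟨tb, rfl, α, hα, e⟩ := swB c k fun w hw => nswap c.two t2 k hw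
  have k' : Gr u (fun a => Xc α hα * f a * (Xc α hα)⁻¹) 0 :=
    ⟨(Fa.conj u _ (nm_P _)).comp k.fa, np_conj k.np _, k.two, fun y hy => by
      have := k.d y hy
      rw [(cj_P _ (k.fa.au.mem y ⟨hy.2.1, hy.2.2.1⟩)).2.1]
      simpa using this⟩
  obtain ⟨w, hw, hs⟩ := exists_skew K
  obtain ⟨n, s⟩ := nswap c.two t2 k' hw
  obtain ⟨ν, h1, h2, h3⟩ := swC c.two tb k' (fun y hy => by
    rw [(cj_P _ (k.fa.au.mem y ⟨hy.2.1, hy.2.2.1⟩)).2.2, e y hy]
    simp [hα]; ring) hw hs s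
  obtain ⟨μ, m1, m2⟩ := l.exists_w one_ne_zero
  exact ⟨c, tor0_of ta tb, nuP c tb h1 h2 h3, muQ c (tor0_of ta tb) m1 fun x hx => by simpa using m2 x hx⟩

theorem md_u0 : ∃ θ, Md p (u0 : US K →* SJ K) θ :=
  let ⟨θ, h⟩ := exists_theta (K := K)
  ⟨θ, u0_inj, syl_u0, h, tor0_u0, nu_u0, mu_u0, fun _ => nm_u0⟩

theorem main (h : Sat p u) {Ω : Type*} [Group Ω] {S : Subgroup Ω} [Finite S] {F : FusionSystem S} {j : Ω → G}
    {k : G → Ω} (i : H92.FIso F (groupFusionSystem u.range) j k) : F.IsRealizable p := by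
  by_cases eQ : EssQ u
  swap
  · exact realizable_of_fIso i ((two_of h).real fun f hf => extQ (two_of h) hf (by_contra fun k => eQ ⟨f, hf, k⟩))
  by_cases eP : EssP u
  swap
  · exact realizable_of_fIso i
      ((two_of h).symm.real fun f hf => extP (two_of h) hf (by_contra fun k => eP ⟨f, hf, k⟩))
  obtain ⟨β, hβ⟩ := exists_std h
  have n : NF p (u.comp β.toMonoidHom) := Cx.nf ⟨two_of (h.tw β), hβ⟩ (eQ.tw β) (eP.tw β)
  rw [← range_tw u β] at i
  generalize u.comp β.toMonoidHom = u₁ at n i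
  obtain ⟨θ, m⟩ := md_u0 (K := K) (p := p)
  obtain ⟨G', _, _, u', s', st, t0, hn, hm, ho, hX⟩ := model_ext m _ (not_dvd_X n.cx.two.sat) fun x hx => by
    obtain ⟨s, t₁, t₂, h1, h2, e⟩ := m.nm _ ⟨Au.equiv (act x), hx⟩
    exact ((In.conj u₁ ⊤ s).comp (n.tor t₁ t₂ h1 h2) fun _ _ => trivial).congr fun a _ => (e a).symm
  have n' : NF p u' := ⟨⟨two_of s', st⟩, t0, hn, hm⟩
  exact realizable_of i n.cx.two.sat.inj s'.inj s'.pg
    (fun X f => ⟨n.uniq n' fun x hx => (hX x).2 hx, n'.uniq n fun x hx => (hX x).1 hx⟩) ho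

end Cfsg.Agent.U5F
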