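import Cfsg.Agent.U5F.Chr

/-! Project U5F: automorphisms of `Q` that commute with the torus.  See `notes/U5F.md`. -/

set_option autoImplicit false
set_option linter.unusedSectionVars false

namespace Cfsg.Agent.U5F

open US FK
open RFS (Au)
open scoped commutatorElement

variable {K : Type*} [Field K] [Bar K] {f F : US K → US K} {x x' y : US K}

theorem fix_J (h : Au sQ f) (e : ∀ x ∈ (sQ : Subgroup (US K)), (f x).b = x.b ∧ (f x).d = x.d) : ∀ z ∈ (sJ : Subgroup (US K)), f z = z := by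
  have k : ∀ x ∈ (sQ : Subgroup (US K)), ∀ y ∈ (sQ : Subgroup (US K)), f ⁅x, y⁆ = ⁅x, y⁆ := fun x hx y hy => by
    have c1 := comm_Q (h.mem x hx) (h.mem y hy)
    have c2 := comm_Q hx hy
    rw [h.map_comm hx hy]
    ext
    · rw [comm_a, comm_a]
    · rw [comm_b, comm_b]
    · rw [comm_c, comm_c, (e x hx).1, (e y hy).1]
    · rw [comm_d, comm_d, mem_sQ.1 (h.mem x hx), mem_sQ.1 (h.mem y hy), mem_sQ.1 hx, mem_sQ.1 hy]; simp
    · rw [c1.1, c2.1, (e x hx).1, (e y hy).1, (e x hx).2, (e y hy).2]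
    · rw [c1.2, c2.2, (e x hx).2, (e y hy).2]
  rintro z ⟨h1, h2, h3⟩
  obtain ⟨s, hs⟩ := exists_sub (t := z.c) (by simp [h2])
  obtain ⟨t, ht⟩ := exists_sub (t := z.f) (by simp [h1, h3])
  have m1 : Xb s * Xd z.e ∈ (sQ : Subgroup (US K)) := by simp
  have m2 : ∀ r : K, Xd r ∈ (sQ : Subgroup (US K)) := fun _ => rfl
  have m3 : Xb 1 ∈ (sQ : Subgroup (US K)) := rfl
  have c1 := comm_Q m3 m1
  have c2 := comm_Q (m2 1) (m2 t)
  have : z = ⁅Xb (1 : K), Xb s * Xd z.e⁆ * ⁅Xd (1 : K), Xd t⁆ := by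
    ext <;> simp [comm_a, comm_b, comm_c, comm_d, c1.1, c1.2, c2.1, c2.2, h1, h2, h3, hs, ht]
  rw [this, h.mul _ (comm_a _ _) _ (comm_a _ _), k _ m3 _ m1, k _ (m2 1) _ (m2 t)]

namespace ChQ

theorem kill {φ : K → K} (h : ∀ a b, φ (a + b) = φ a + φ b) {w : K} (hw : w ≠ 1) (e : ∀ a, φ (w * a) = φ a)
    (a : K) : φ a = 0 := by
  have := e (a / (w - 1))
  rw [show w * (a / (w - 1)) = a + a / (w - 1) by field_simp [sub_ne_zero.2 hw]; ring, h] at this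
  linear_combination this

variable (K) in
theorem ex2 : ∃ θ : K, θ ≠ 0 ∧ θ ^ 2 ≠ σ θ ^ 2 := by
  obtain ⟨θ, h⟩ := exists_σ_ne K
  have n := sub_ne_zero.2 h
  by_contra c
  push Not at c
  have c1 := c θ (fun e => h (by simp [e]))
  have c2 := c (θ + 1) (fun e => h (by rw [eq_neg_of_add_eq_zero_left e]; simp))
  rw [map_add, map_one] at c2
  have e1 : σ θ + θ = 0 := mul_left_cancel₀ n (by linear_combination -c1)
  have e2 : σ θ + θ + 2 = 0 := mul_left_cancel₀ n (by linear_combination -c2)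
  exact n (by linear_combination e1 - θ * e2 + θ * e1)

variable (K) in
theorem ex3 : ∃ θ : K, θ ≠ 0 ∧ θ ^ 3 ≠ σ θ ^ 2 := by
  obtain ⟨θ, h⟩ := exists_σ_ne K
  by_contra c
  push Not at c
  have k : ∀ t : K, t ≠ 0 → t * σ t = 1 := fun t ht => by
    have c1 := c t ht
    have c2 := congrArg σ c1
    rw [map_pow, map_pow, σσ] at c2
    exact mul_left_cancel₀ (pow_ne_zero 2 (mul_ne_zero ht ((map_ne_zero σ).2 ht)))
      (by linear_combination σ t ^ 3 * c1 + σ t ^ 2 * c2)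
  have n0 : θ ≠ 0 := fun e => h (by simp [e])
  have c1 := k θ n0
  have c2 := k (θ + 1) (fun e => h (by rw [eq_neg_of_add_eq_zero_left e]; simp))
  have c3 := c θ n0
  rw [map_add, map_one] at c2
  have e1 : θ ^ 2 + θ + 1 = 0 := by linear_combination θ * c2 - (θ + 1) * c1
  have e2 : θ ^ 3 = 1 := by linear_combination (θ - 1) * e1
  have e3 : θ ^ 2 = 1 := by linear_combination θ ^ 2 * c3 - θ ^ 2 * e2 + (θ * σ θ + 1) * c1
  have e4 : θ = 1 := by linear_combination e2 - θ * e3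
  exact h (by simp [e4])

end ChQ

open ChQ in
theorem chaseQ (h : Au sQ f) (e : ∀ x ∈ (sQ : Subgroup (US K)), (f x).b = x.b ∧ (f x).d = x.d)
    (c : ∀ t₁ t₂ : K, t₁ ≠ 0 → t₂ ≠ 0 → ∀ x ∈ (sQ : Subgroup (US K)), f (tor (t₁ / t₂) (t₁ * t₂ ^ 2 / (σ t₁ * σ t₂)) x) =
      tor (t₁ / t₂) (t₁ * t₂ ^ 2 / (σ t₁ * σ t₂)) (f x)) : ∀ x ∈ (sQ : Subgroup (US K)), f x = x := by
  obtain ⟨δ, hδ⟩ : ∃ δ : US K → US K, ∀ x, f x = x * δ x := ⟨fun x => x⁻¹ * f x, fun x => by simp⟩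
  have d1 : ∀ x ∈ (sQ : Subgroup (US K)), δ x ∈ (sJ : Subgroup (US K)) := fun x hx => by
    have a := mem_sQ.1 (h.mem x hx)
    obtain ⟨b, d⟩ := e x hx
    rw [hδ] at a b d
    simpa [mem_sQ.1 hx] using And.intro a (And.intro b d)
  have d2 : ∀ x ∈ (sQ : Subgroup (US K)), ∀ y ∈ (sQ : Subgroup (US K)), δ (x * y) = δ x * δ y := fun x hx y hy => by
    have := h.mul x hx y hy
    rw [hδ, hδ, hδ, mul_assoc x (δ x), ← mul_assoc (δ x), m_J (d1 x hx) hy, mul_assoc y, ← mul_assoc x] at this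
    exact mul_left_cancel this
  have d3 : ∀ x ∈ (sQ : Subgroup (US K)), ∀ y ∈ (sQ : Subgroup (US K)), x.b = y.b → x.d = y.d → δ x = δ y := by
    intro x hx y hy b d
    have m : y⁻¹ * x ∈ (sJ : Subgroup (US K)) := by simp [mem_sQ.1 hx, mem_sQ.1 hy, b, d]
    have k := fix_J h e _ m
    rw [hδ, mul_eq_left] at k
    have := d2 y hy _ m.1
    rwa [k, mul_one, mul_inv_cancel_left] at this
  have mQ : ∀ b d : K, Xb b * Xd d ∈ (sQ : Subgroup (US K)) := fun b d => by simp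
  obtain ⟨g, hg⟩ : ∃ g : K → K → US K, ∀ b d, g b d = δ (Xb b * Xd d) := ⟨_, fun _ _ => rfl⟩
  have g1 : ∀ b d b' d', (g (b + b') (d + d')).c = (g b d).c + (g b' d').c ∧
      (g (b + b') (d + d')).e = (g b d).e + (g b' d').e ∧ (g (b + b') (d + d')).f = (g b d).f + (g b' d').f := by
    intro b d b' d'
    obtain ⟨a1, a2, a3⟩ := d1 _ (mQ b d)
    obtain ⟨a4, a5, a6⟩ := d1 _ (mQ b' d')
    rw [hg, hg, hg, d3 _ (mQ _ _) _ (mul_mem (mQ b d) (mQ b' d')) (by simp) (by simp), d2 _ (mQ b d) _ (mQ b' d')]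
    simp [a1, a2, a3, a4, a5, a6]
  have g2 : ∀ t₁ t₂ : K, t₁ ≠ 0 → t₂ ≠ 0 → ∀ b d,
      (g (t₁ * t₂ ^ 2 / (σ t₁ * σ t₂) * b) (t₁ ^ 2 * t₂ / (σ t₁ * σ t₂) * d)).c = t₂ * σ t₂ * (g b d).c ∧
      (g (t₁ * t₂ ^ 2 / (σ t₁ * σ t₂) * b) (t₁ ^ 2 * t₂ / (σ t₁ * σ t₂) * d)).e = t₁ * σ t₂ * (g b d).e ∧
      (g (t₁ * t₂ ^ 2 / (σ t₁ * σ t₂) * b) (t₁ ^ 2 * t₂ / (σ t₁ * σ t₂) * d)).f = t₁ * σ t₁ * (g b d).f := by
    intro t₁ t₂ n1 n2 b d
    have n3 := (map_ne_zero σ).2 n1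
    have n4 := (map_ne_zero σ).2 n2
    have k := c t₁ t₂ n1 n2 _ (mQ b d)
    rw [hδ, hδ, tor_mul _ _ _ (δ _), mul_right_inj] at k
    rw [hg, hg, d3 _ (mQ _ _) (tor (t₁ / t₂) (t₁ * t₂ ^ 2 / (σ t₁ * σ t₂)) (Xb b * Xd d)) (by simp) (by simp)
      (by simp only [mul_d, tor_d, Xb_d, Xd_d, Xb_a, Xd_b]; field_simp; ring), k]
    simp only [tor_c, tor_e, tor_f, map_mul, map_div₀, map_pow, σσ]
    refine ⟨?_, ?_, ?_⟩ <;> field_simp
  obtain ⟨θ, n0, n1⟩ := ex2 K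
  obtain ⟨t, m0, m1⟩ := ex3 K
  have n2 := (map_ne_zero σ).2 n0
  have m2 := (map_ne_zero σ).2 m0
  have n3 : θ ≠ σ θ := fun k => n1 (by rw [← k])
  have n4 := div_ne_zero n0 n2
  have n5 : θ / σ θ * σ (θ / σ θ) = 1 := by rw [map_div₀, σσ]; field_simp
  have bc := kill (φ := fun b => (g b 0).c) (fun a b => by simpa using (g1 a 0 b 0).1)
    (w := θ * 1 ^ 2 / (σ θ * σ 1)) (by simpa [div_eq_one_iff_eq n2] using n3)
    fun a => by simpa using (g2 θ 1 n0 one_ne_zero a 0).1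
  have df := kill (φ := fun d => (g 0 d).f) (fun a b => by simpa using (g1 0 a 0 b).2.2)
    (w := 1 ^ 2 * θ / (σ 1 * σ θ)) (by simpa [div_eq_one_iff_eq n2] using n3)
    fun a => by simpa using (g2 1 θ one_ne_zero n0 0 a).2.2
  have bf := kill (φ := fun b => (g b 0).f) (fun a b => by simpa using (g1 a 0 b 0).2.2)
    (w := θ / σ θ * 1 ^ 2 / (σ (θ / σ θ) * σ 1)) (fun k => n1 (by
      rw [map_div₀, σσ, map_one] at k; field_simp at k; exact k))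
    fun a => by
      have := (g2 _ 1 n4 one_ne_zero a 0).2.2
      rwa [n5, one_mul, mul_zero] at this
  have dc := kill (φ := fun d => (g 0 d).c) (fun a b => by simpa using (g1 0 a 0 b).1)
    (w := 1 ^ 2 * (θ / σ θ) / (σ 1 * σ (θ / σ θ))) (fun k => n1 (by
      rw [map_div₀, σσ, map_one] at k; field_simp at k; exact k))
    fun a => by
      have := (g2 1 _ one_ne_zero n4 0 a).1
      rwa [n5, one_mul (g 0 a).c, mul_zero] at this
  have be := kill (φ := fun b => (g b 0).e) (fun a b => by simpa using (g1 a 0 b 0).2.1)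
    (w := (σ t)⁻¹ * t ^ 2 / (σ (σ t)⁻¹ * σ t)) (fun k => m1 (by
      rw [map_inv₀, σσ] at k; field_simp at k; exact k))
    fun a => by
      have := (g2 _ t (inv_ne_zero m2) m0 a 0).2.1
      rwa [inv_mul_cancel₀ m2, one_mul, mul_zero] at this
  have de := kill (φ := fun d => (g 0 d).e) (fun a b => by simpa using (g1 0 a 0 b).2.1)
    (w := t⁻¹ ^ 2 * σ t / (σ t⁻¹ * σ (σ t))) (fun k => m1 (by
      rw [map_inv₀, σσ] at k; field_simp at k; exact k.symm))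
    fun a => by
      have := (g2 _ (σ t) (inv_ne_zero m0) m2 0 a).2.1
      rwa [show t⁻¹ * σ (σ t) = 1 by rw [σσ, inv_mul_cancel₀ m0], one_mul, mul_zero] at this
  intro x hx
  obtain ⟨a1, a2, a3⟩ := d1 x hx
  obtain ⟨a4, a5, a6⟩ := g1 x.b 0 0 x.d
  simp only [bc, dc, be, de, bf, df, add_zero, zero_add] at a4 a5 a6
  rw [hg, ← d3 x hx _ (mQ _ _) (by simp) (by simp)] at a4 a5 a6
  rw [hδ, mul_eq_left]
  exact US.ext a1 a2 a4 a3 a5 a6

end Cfsg.Agent.U5F
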