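import Cfsg.Agent.U5F.Defs

/-! Project U5F: characteristic subgroups.  See `notes/U5F.md`. -/

set_option autoImplicit false
set_option linter.unusedSectionVars false

namespace Cfsg.Agent.U5F

open US FK
open RFS (Au)
open scoped commutatorElement

variable {K : Type*} [Field K] [Bar K] {f F : US K → US K} {x x' y : US K}

namespace Chr

theorem zero_of {s : K} (h : ∀ t, s * σ t = t * σ s) : s = 0 :=
  (indep (α := -σ s) (β := s) fun t => by linear_combination h t).2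

theorem a_zero (h : ∀ t, x * Xe t = Xe t * x) : x.a = 0 := zero_of fun t => by
  have := congrArg US.f (h t)
  simp at this
  linear_combination this

theorem bot {E : Subgroup (US K)} (h : Au E f) : ∀ a ∈ (⊥ : Subgroup (US K)), a ∈ E → f a ∈ (⊥ : Subgroup (US K)) :=
  fun a ha _ => by rw [Subgroup.mem_bot.1 ha, h.one]; exact one_mem _

theorem mem_W (h : ∀ y : US K, ⁅x, y⁆.d = 0) : x ∈ (sW : Subgroup (US K)) :=
  ⟨by simpa [comm_d] using h (Xb 1), by simpa [comm_d] using h (Xa 1)⟩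

/-- the relation between the coordinates of `⁅v, y⁆` -/
theorem rel {v u y y' : US K} (hv : v.a = 0) (hu : u.a = 0) (hy : y.a = 0) (hy' : y'.a = 0) (e : ⁅u, y⁆ = ⁅v, y'⁆) :
    (v.d * y.b - v.b * y.d) * σ (v.d * u.b - v.b * u.d) = (v.d * u.b - v.b * u.d) * σ (v.d * y.b - v.b * y.d) := by
  have h1 := congrArg US.c e
  have h2 := congrArg US.e e
  have h3 := congrArg US.f e
  rw [comm_c, comm_c] at h1
  rw [(comm_Q hu hy).1, (comm_Q hv hy').1] at h2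
  rw [(comm_Q hu hy).2, (comm_Q hv hy').2] at h3
  have h4 := congrArg σ h2
  simp only [map_sub, map_mul, σσ] at h4 ⊢
  linear_combination v.d * σ v.d * h1 + v.d * σ v.b * h4 - v.b * σ v.d * h2 + v.b * σ v.b * h3

end Chr

open Chr

theorem cz_P (h : ∀ e ∈ (sP : Subgroup (US K)), x * e = e * x) : x ∈ (sZ : Subgroup (US K)) := by
  have ha := a_zero fun t => h (Xe t) ⟨rfl, rfl⟩
  have hb : x.b = 0 := by simpa using congrArg US.d (h (Xa 1) ⟨rfl, rfl⟩)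
  have hc : x.c = 0 := by simpa using congrArg US.e (h (Xa 1) ⟨rfl, rfl⟩)
  refine ⟨ha, hb, hc, zero_of fun t => ?_, zero_of fun t => ?_⟩
  · simpa using (comm_iff_P ⟨hb, hc⟩ ⟨rfl, rfl⟩).1 (h (Xd t) ⟨rfl, rfl⟩)
  · simpa using (comm_iff_P ⟨hb, hc⟩ ⟨rfl, rfl⟩).1 (h (Xa t) ⟨rfl, rfl⟩)

theorem cz_Q (h : ∀ e ∈ (sQ : Subgroup (US K)), x * e = e * x) : x ∈ (sJ : Subgroup (US K)) := by
  have ha := a_zero fun t => h (Xe t) rfl
  exact ⟨ha, by simpa [ha, sub_eq_add_neg] using congrArg US.e (h (Xd 1) rfl), by simpa [ha] using congrArg US.e (h (Xb 1) rfl)⟩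

theorem chP_Z (h : Au sP f) : ∀ a ∈ (sZ : Subgroup (US K)), f a ∈ (sZ : Subgroup (US K)) :=
  h.cz le_rfl le_rfl h.mem h.mem (bot h) fun a =>
    ⟨fun ha => ⟨⟨ha.2.1, ha.2.2.1⟩, fun b _ => RFS.comm_bot'.2 (m_Z ha b)⟩,
      fun ha => cz_P fun e he => RFS.comm_bot'.1 (ha.2 e he)⟩

theorem chQ_J (h : Au sQ f) : ∀ a ∈ (sJ : Subgroup (US K)), f a ∈ (sJ : Subgroup (US K)) :=
  h.cz le_rfl le_rfl h.mem h.mem (bot h) fun a =>
    ⟨fun ha => ⟨ha.1, fun _ hb => RFS.comm_bot'.2 (m_J ha hb)⟩,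
      fun ha => cz_Q fun e he => RFS.comm_bot'.1 (ha.2 e he)⟩

theorem ch_Z (h : Au ⊤ F) : ∀ a ∈ (sZ : Subgroup (US K)), F a ∈ (sZ : Subgroup (US K)) :=
  h.cz le_rfl le_rfl h.mem h.mem (bot h) fun a =>
    ⟨fun ha => ⟨trivial, fun b _ => RFS.comm_bot'.2 (m_Z ha b)⟩,
      fun ha => cz_P fun e _ => RFS.comm_bot'.1 (ha.2 e trivial)⟩

theorem ch_Y (h : Au ⊤ F) : ∀ a ∈ (sY : Subgroup (US K)), F a ∈ (sY : Subgroup (US K)) :=
  h.cz le_rfl le_rfl h.mem h.mem (fun a ha _ => ch_Z h a ha) fun a =>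
    ⟨fun ha => ⟨trivial, fun b _ => c_Y ha b⟩, fun ha => by
      have hW := mem_W fun y => (ha.2 y trivial).2.2.2.1
      exact ⟨hW.1, hW.2, by simpa [comm_e_W hW] using (ha.2 (Xa 1) trivial).2.2.2.2,
        by simpa [comm_e_W hW] using (ha.2 (Xb 1) trivial).2.2.2.2⟩⟩

theorem ch_W (h : Au ⊤ F) : ∀ a ∈ (sW : Subgroup (US K)), F a ∈ (sW : Subgroup (US K)) :=
  h.cz le_rfl le_rfl h.mem h.mem (fun a ha _ => ch_Y h a ha) fun a =>
    ⟨fun ha => ⟨trivial, fun b _ => c_W ha b⟩, fun ha => mem_W fun y => (ha.2 y trivial).2.2.2⟩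

theorem ch_Q (h : Au ⊤ F) : ∀ a ∈ (sQ : Subgroup (US K)), F a ∈ (sQ : Subgroup (US K)) :=
  h.cz le_rfl le_top h.mem (ch_Y h) (bot h) fun a =>
    ⟨fun ha => ⟨trivial, fun _ hb => RFS.comm_bot'.2 (m_J ⟨hb.1, hb.2.1, hb.2.2.2⟩ ha).symm⟩,
      fun ha => a_zero fun t => RFS.comm_bot'.1 (ha.2 (Xe t) ⟨rfl, rfl, rfl, rfl⟩)⟩

theorem ch_J (h : Au ⊤ F) : ∀ a ∈ (sJ : Subgroup (US K)), F a ∈ (sJ : Subgroup (US K)) :=
  chQ_J (h.res le_top (ch_Q h))

theorem ch_R (h : Au ⊤ F) : ∀ a ∈ (sR : Subgroup (US K)), F a ∈ (sR : Subgroup (US K)) := fun x hx => by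
  by_contra hb
  have hW : ∀ t, F (Xd t) ∈ (sW : Subgroup (US K)) := fun t => ch_W h _ ⟨rfl, rfl⟩
  have k : ∀ t, (F (Xd t)).d * σ (F x).b + (F x).a * (F (Xd t)).c = 0 := fun t => by
    have h1 := c_W (x := Xd t) ⟨rfl, rfl⟩ x
    have h2 := (ch_Z h _ ⟨h1.1, h1.2.1, h1.2.2.1, h1.2.2.2, by
      simp [comm_e_W (x := Xd t) ⟨rfl, rfl⟩, mem_sR.1 hx]⟩).2.2.2.2
    rw [h.map_comm trivial trivial, comm_e_W (hW t)] at h2
    linear_combination -h2
  have k' : ∀ t, σ (F (Xd t)).d * (F x).b - σ (F x).a * (F (Xd t)).c = 0 := fun t => by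
    have := congrArg σ (k t)
    simp [(hW t).2] at this
    linear_combination this
  refine one_ne_zero (zero_of (s := (1 : K)) fun t => ?_)
  have e : (F (Xd 1)).d * σ (F (Xd t)).d = (F (Xd t)).d * σ (F (Xd 1)).d :=
    mul_right_cancel₀ (mul_ne_zero hb (by simpa using hb : σ (F x).b ≠ 0)) (by
      linear_combination (σ (F (Xd t)).d * (F x).b) * k 1 - (F x).a * (F (Xd 1)).c * k' t -
        (σ (F (Xd 1)).d * (F x).b) * k t + (F x).a * (F (Xd t)).c * k' 1)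
  have e1 : Xd 1 * Xd t = Xd t * Xd 1 := h.inj _ trivial _ trivial (by
    rw [h.mul _ trivial _ trivial, h.mul _ trivial _ trivial]
    ext <;> simp [(hW 1).1, (hW 1).2, (hW t).1, (hW t).2] <;> first | ring1 | linear_combination -e)
  have := congrArg US.f e1
  simp at this ⊢
  linear_combination -this

theorem ch_D (h : Au ⊤ F) : ∀ a ∈ (sD : Subgroup (US K)), F a ∈ (sD : Subgroup (US K)) :=
  h.cz le_top le_top (ch_W h) (ch_R h) (fun a ha _ => ch_Z h a ha) fun a =>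
    ⟨fun ha => ⟨⟨ha.1, ha.2.1⟩, fun b hb =>
      have h1 := c_W (x := a) ⟨ha.1, ha.2.1⟩ b
      ⟨h1.1, h1.2.1, h1.2.2.1, h1.2.2.2, by simp [comm_e_W (x := a) ⟨ha.1, ha.2.1⟩, mem_sR.1 hb, ha.2.2]⟩⟩,
      fun ha => ⟨ha.1.1, ha.1.2, by simpa [comm_e_W ha.1] using (ha.2 (Xa 1) rfl).2.2.2.2⟩⟩

theorem ch_P (h : Au ⊤ F) : ∀ a ∈ (sP : Subgroup (US K)), F a ∈ (sP : Subgroup (US K)) := fun x hx => by
  have hb : (F x).b = 0 := ch_R h x hx.1
  refine ⟨hb, by_contra fun hc => ?_⟩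
  obtain ⟨g, hg, gF, -⟩ := h.exists_inv
  have k : ∀ t, ∃ c, σ c = -c ∧ t = x.a * c := fun t => by
    have hy := ch_Y h (Xe t) ⟨rfl, rfl, rfl, rfl⟩
    obtain ⟨r, hr, e⟩ : ∃ r : US K, r.b = 0 ∧ ⁅F x, r⁆.e = (F (Xe t)).e :=
      ⟨Xa (-(F (Xe t)).e / (F x).c), rfl, by rw [comm_e_R hb rfl]; simp; field_simp⟩
    have h1 := c_RR (x := F x) (y := r) hb hr
    have h2 := (ch_Z hg ((F (Xe t))⁻¹ * ⁅F x, r⁆) (by
      simp [hy.1, hy.2.1, hy.2.2.1, hy.2.2.2, h1.1, h1.2.1, h1.2.2.1, h1.2.2.2, e])).2.2.2.2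
    have h3 : (g r).b = 0 := ch_R hg r hr
    rw [hg.mul _ trivial _ trivial, hg.map_inv trivial, hg.map_comm trivial trivial, gF _ trivial, gF _ trivial] at h2
    simp [comm_e_R hx.1 h3, hx.2] at h2
    exact ⟨(g r).c, by simp [h3], by linear_combination -h2⟩
  obtain ⟨c, -, e⟩ := k 1
  refine one_ne_zero (indep (α := (1 : K)) (β := 1) fun t => ?_).1
  obtain ⟨c', h1, h2⟩ := k (x.a * t)
  rw [mul_left_cancel₀ (left_ne_zero_of_mul (e ▸ one_ne_zero)) h2, h1]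
  ring

/-- the image of `W / J` is a line -/
theorem lineQ (h : Au sQ f) : ∃ b d : K, (b ≠ 0 ∨ d ≠ 0) ∧ ∀ x ∈ (sW : Subgroup (US K)), (f x).b * d = (f x).d * b := by
  obtain ⟨g, hg, gf, -⟩ := h.exists_inv
  have hv : (f (Xd 1)).a = 0 := h.mem _ rfl
  have h0 : (f (Xd 1)).b ≠ 0 ∨ (f (Xd 1)).d ≠ 0 := by
    by_contra! k
    have := (chQ_J hg _ ⟨hv, k.1, k.2⟩).2.2
    rw [gf _ rfl] at this
    exact one_ne_zero this
  refine ⟨_, _, h0, fun x hx => ?_⟩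
  have k : ∀ y : US K, y.a = 0 → ((f (Xd 1)).d * y.b - (f (Xd 1)).b * y.d) *
      σ ((f (Xd 1)).d * (f x).b - (f (Xd 1)).b * (f x).d) = ((f (Xd 1)).d * (f x).b - (f (Xd 1)).b * (f x).d) *
        σ ((f (Xd 1)).d * y.b - (f (Xd 1)).b * y.d) := fun y hy0 => by
    obtain ⟨y, hy, rfl⟩ := h.sur y hy0
    have hy' : Xb (σ x.d * y.b) * Xd (σ x.d * y.d) ∈ (sQ : Subgroup (US K)) := mul_mem rfl rfl
    refine rel hv (h.mem x hx.1) (h.mem y hy) (h.mem _ hy') ?_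
    rw [← h.map_comm hx.1 hy, ← h.map_comm (a := Xd 1) rfl hy']
    congr 1
    ext
    · rw [comm_a, comm_a]
    · rw [comm_b, comm_b]
    · simp [comm_c, hx.2]
    · simp [comm_d, hx.1, mem_sQ.1 hy]
    · rw [(comm_Q hx.1 hy).1, (comm_Q rfl hy').1]
      simp [hx.2]
    · rw [(comm_Q hx.1 hy).2, (comm_Q rfl hy').2]
      simp
      ring
  generalize f (Xd 1) = v at *
  have k1 := (indep (α := v.d * σ (v.d * (f x).b - v.b * (f x).d)) (β := -((v.d * (f x).b - v.b * (f x).d) * σ v.d))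
    fun t => by
      have := k (Xb t) rfl
      simp only [Xb_b, Xb_d, mul_zero, sub_zero, map_mul σ v.d t] at this
      linear_combination this).1
  have k2 := (indep (α := v.b * σ (v.d * (f x).b - v.b * (f x).d)) (β := -((v.d * (f x).b - v.b * (f x).d) * σ v.b))
    fun t => by
      have := k (Xd t) rfl
      simp only [Xd_b, Xd_d, mul_zero, zero_sub, map_neg, map_mul σ v.b t] at this
      linear_combination -this).1
  have : σ (v.d * (f x).b - v.b * (f x).d) = 0 :=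
    h0.elim (fun e => (mul_eq_zero.1 k2).resolve_left e) fun e => (mul_eq_zero.1 k1).resolve_left e
  rw [map_eq_zero] at this
  linear_combination this

end Cfsg.Agent.U5F
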