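import Cfsg.Agent.U5F.Tv

/-! Project U5F: pairs inside `Q`.  See `notes/U5F.md`. -/

set_option autoImplicit false
set_option linter.unusedSectionVars false

namespace Cfsg.Agent.U5F

open US FK
open RFS (Au)
open scoped commutatorElement

variable {K : Type*} [Field K] [Bar K] {G : Type*} [Group G] [Finite G] {p : ℕ} [Fact p.Prime] [CharP K p]
  {u : US K →* G} {E : Subgroup (US K)} {L : Subgroup G} {v e₀ : US K}

namespace EQ

/-- the centralizer in `Q` of an element outside `J` -/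
theorem line {x v : US K} (hx : x.a = 0) (hv : v.a = 0) (h0 : v.b ≠ 0 ∨ v.d ≠ 0) (h : x * v = v * x) :
    ∃ l : K, σ l = l ∧ x.b = l * v.b ∧ x.d = l * v.d := by
  have h1 : ⁅x, v⁆ = 1 := commutatorElement_eq_one_iff_mul_comm.2 h
  have hc := comm_c x v
  obtain ⟨he, hf⟩ := comm_Q hx hv
  rw [h1] at hc he hf
  simp only [one_c, one_e, one_f] at hc he hf
  by_cases hb : v.b = 0
  · have hd : v.d ≠ 0 := h0.resolve_left fun k => k hb
    obtain ⟨l, hl, e⟩ := prop_of (y := x.d) hd (by linear_combination -hf)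
    refine ⟨l, hl, ?_, e⟩
    have : v.d * σ x.b = 0 := by rw [hb, map_zero] at he; linear_combination -he
    have : x.b = 0 := by simpa [hd] using this
    rw [this, hb, mul_zero]
  · obtain ⟨l, hl, e⟩ := prop_of (y := x.b) hb (by linear_combination -hc)
    refine ⟨l, hl, e, ?_⟩
    have hs : σ v.b ≠ 0 := by simpa using hb
    rw [e, map_mul, hl] at he
    exact mul_right_cancel₀ hs (by linear_combination he)

theorem comm_line {x y : US K} {b d l m : K} (hx : x.a = 0) (hy : y.a = 0) (hl : σ l = l) (hm : σ m = m)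
    (h1 : x.b = l * b) (h2 : x.d = l * d) (k1 : y.b = m * b) (k2 : y.d = m * d) : x * y = y * x := by
  ext <;> simp [hx, hy, h1, h2, k1, k2, hl, hm] <;> ring

theorem cancel {b d s t : K} (h0 : b ≠ 0 ∨ d ≠ 0) (h1 : s * b = t * b) (h2 : s * d = t * d) : s = t :=
  h0.elim (fun k => mul_right_cancel₀ k h1) fun k => mul_right_cancel₀ k h2

theorem J_le (h : Pr p u E L) (hE : E ≤ sQ) : sJ ≤ E := fun _ hx => h.cen _ fun _ he => m_J hx (hE he)

theorem V_J (h : Pr p u E L) (hE : E ≤ sQ) : Om p E ⊥ ≤ sJ := by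
  intro v hv
  obtain ⟨hvE, hvp, hvc⟩ := mem_V.1 hv
  have hva : v.a = 0 := hE hvE
  by_contra hJ
  have h0 : v.b ≠ 0 ∨ v.d ≠ 0 := by
    by_contra k
    push Not at k
    exact hJ ⟨hva, k.1, k.2⟩
  have hp : p ≠ 2 := by
    rintro rfl
    exact hJ (sq_W hvp hva)
  have key : ∀ x : US K, ∃ l : Fx K, x ∈ E → x.b = l.1 * v.b ∧ x.d = l.1 * v.d := fun x => by
    by_cases hx : x ∈ E
    · obtain ⟨l, hl, e⟩ := line (hE hx) hva h0 (hvc x hx)
      exact ⟨⟨l, hl⟩, fun _ => e⟩
    · exact ⟨⟨0, map_zero _⟩, fun k => absurd k hx⟩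
  choose lam hlam using key
  obtain ⟨ε, hε0, hε⟩ := exists_skew K
  let β : Fx K → US K := fun l => Xd (l.1 * ε * v.d) * Xb (l.1 * ε * v.b)
  have βa : ∀ l, (β l).a = 0 := fun l => by simp [β]
  have βb : ∀ l, (β l).b = l.1 * ε * v.b := fun l => by simp [β]
  have βd : ∀ l, (β l).d = l.1 * ε * v.d := fun l => by simp [β]
  have inj : ∀ i j, (β i)⁻¹ * β j ∈ E → i = j := fun i j k => by
    obtain ⟨k1, k2⟩ := hlam _ k
    generalize lam ((β i)⁻¹ * β j) = l at k1 k2
    simp only [mul_b, mul_d, inv_a, inv_b, inv_d, βa, βb, βd] at k1 k2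
    have e : (j.1 - i.1) * ε = l.1 := cancel h0 (by linear_combination k1) (by linear_combination k2)
    have z : l.1 = 0 := skew_fix (two_ne p hp) (by rw [← e, map_mul, map_sub, j.2, i.2, hε]; ring) l.2
    rw [z] at e
    exact Subtype.ext (sub_eq_zero.1 ((mul_eq_zero.1 e).resolve_right hε0)).symm
  have o : Off p E ⊥ E β lam :=
    { nm := fun i => .of_comm fun e he => J_le h hE (c_QQ (βa i) (hE he))
      ab := fun i j => J_le h hE (c_QQ (βa i) (βa j))
      pow := fun i => by rw [pow_p_Q p hp (βa i)]; exact one_mem _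
      inj := inj
      out := by
        by_contra k
        push Not at k
        have := inj ⟨0, map_zero _⟩ ⟨1, map_one _⟩ (mul_mem (inv_mem (k _)) (k _))
        exact zero_ne_one (congrArg Subtype.val this)
      fib := fun x hx y hy e i => by
        obtain ⟨a1, a2⟩ := hlam x hx
        obtain ⟨b1, b2⟩ := hlam y hy
        have xa : x.a = 0 := hE hx
        have ya : y.a = 0 := hE hy
        have : x⁻¹ * y ∈ (sJ : Subgroup (US K)) := by simp [xa, ya, a1, a2, b1, b2, e]
        exact commutatorElement_eq_one_iff_mul_comm.2 (m_J this (βa i)).symm }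
  have gen : ∀ y : US K, y.a = 0 → ∃ κ : K, y.b = κ * v.b ∧ y.d = κ * v.d := fun y hy => by
    obtain ⟨i, e, he, rfl⟩ := tv h (fun a ha b hb => comm_line (hE ha) (hE hb) (lam a).2 (lam b).2
      (hlam a ha).1 (hlam a ha).2 (hlam b hb).1 (hlam b hb).2) (fun a ha => pow_p_Q p hp (hE ha)) o
      (y := y) fun e he => J_le h hE (c_QQ hy (hE he))
    obtain ⟨a1, a2⟩ := hlam e he
    refine ⟨i.1 * ε + (lam e).1, ?_, ?_⟩
    · rw [mul_b, βb, a1]; ring
    · rw [mul_d, βa, βd, a2]; ring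
  obtain ⟨κ, k1, -⟩ := gen (Xb 1) rfl
  obtain ⟨κ', k2, k3⟩ := gen (Xd 1) rfl
  simp only [Xb_b, Xd_b, Xd_d] at k1 k2 k3
  exact one_ne_zero (by linear_combination k3 + κ' * v.d * k1 - κ * v.d * k2 : (1 : K) = 0)

end EQ

theorem eqQ (h : Pr p u E L) (hE : E ≤ sQ) : E = sQ := le_antisymm hE fun x hx =>
  h.chain1 (ivV h) (fun e he => by
    have k := c_QQ hx (hE he)
    exact mem_V.2 ⟨EQ.J_le h hE k, pow_p_J p k, fun e' he' => (m_J k (hE he')).symm⟩)
    fun b hb => (m_J (EQ.V_J h hE hb) hx).symm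

end Cfsg.Agent.U5F
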