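import Cfsg.Agent.U5F.Defs
import Cfsg.Agent.H38.TwSU

/-! Project U5F: the special unitary group of the antidiagonal form.  See `notes/U5F.md`. -/

set_option autoImplicit false
set_option linter.unusedSectionVars false

namespace Cfsg.Agent.U5F

open US Matrix

variable {K : Type*} [Field K] [Bar K]

abbrev M5 (K : Type*) := Matrix (Fin 5) (Fin 5) K

/-- the adjoint for the antidiagonal form -/
def adj (M : M5 K) : M5 K := of fun i j => σ (M j.rev i.rev)

@[simp] theorem adj_apply (M : M5 K) (i j : Fin 5) : adj M i j = σ (M j.rev i.rev) := rfl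

theorem adj_mul (M N : M5 K) : adj (M * N) = adj N * adj M := by
  ext i j
  simp only [adj_apply, mul_apply, map_sum, map_mul]
  exact (Equiv.sum_comp Fin.revPerm _).symm.trans (Finset.sum_congr rfl fun k _ => by simp [mul_comm])

theorem adj_one : adj (1 : M5 K) = 1 := by
  ext i j
  simp [one_apply, eq_comm, apply_ite σ]

theorem adj_adj (M : M5 K) : adj (adj M) = M := by ext i j; simp

theorem sl_mul_inv (g : SpecialLinearGroup (Fin 5) K) : g.1 * g⁻¹.1 = 1 := congrArg Subtype.val (mul_inv_cancel g)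

theorem sl_inv_mul (g : SpecialLinearGroup (Fin 5) K) : g⁻¹.1 * g.1 = 1 := congrArg Subtype.val (inv_mul_cancel g)

variable (K) in
/-- the special unitary group -/
def SJ : Subgroup (SpecialLinearGroup (Fin 5) K) where
  carrier := {g | adj g.1 * g.1 = 1}
  one_mem' := by simp [adj_one]
  mul_mem' := fun {g h} (hg : _ = _) (hh : _ = _) => by
    show adj (g.1 * h.1) * (g.1 * h.1) = 1
    rw [adj_mul, mul_assoc, ← mul_assoc (adj g.1), hg, one_mul, hh]
  inv_mem' := fun {g} (hg : _ = _) => by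
    have e : g⁻¹.1 = adj g.1 := by
      rw [← one_mul g⁻¹.1, ← hg, mul_assoc, sl_mul_inv, mul_one]
    show adj g⁻¹.1 * g⁻¹.1 = 1
    rw [e, adj_adj]
    exact mul_eq_one_comm.1 hg

theorem mem_SJ {g : SpecialLinearGroup (Fin 5) K} : g ∈ SJ K ↔ adj g.1 * g.1 = 1 := Iff.rfl

theorem coe_inv_SJ (g : SJ K) : (g⁻¹ : SJ K).1.1 = adj g.1.1 := by
  show g.1⁻¹.1 = _
  rw [← one_mul g.1⁻¹.1, ← mem_SJ.1 g.2, mul_assoc, sl_mul_inv, mul_one]

instance : Finite (SJ K) := .of_injective (fun g : SJ K => g.1.1) fun _ _ h => Subtype.ext (Subtype.ext h)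

/-- the matrix of an element -/
def mat (x : US K) : M5 K :=
  !![1, x.a, x.d, x.e, x.f; 0, 1, x.b, x.c, -σ x.e - x.b * σ x.d - x.c * σ x.a; 0, 0, 1, -σ x.b, σ x.a * σ x.b - σ x.d;
    0, 0, 0, 1, -σ x.a; 0, 0, 0, 0, 1]

theorem mat_mul (x y : US K) : mat (x * y) = mat x * mat y := by
  ext i j
  fin_cases i <;> fin_cases j <;> simp [mat, mul_apply, Fin.sum_univ_five] <;> ring

theorem mat_one : mat (1 : US K) = 1 := by
  ext i j
  fin_cases i <;> fin_cases j <;> simp [mat]

theorem mat_inv (x : US K) : mat x⁻¹ = adj (mat x) := by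
  ext i j
  fin_cases i <;> fin_cases j <;> simp [mat, Fin.rev] <;> ring

theorem det_mat (x : US K) : (mat x).det = 1 := by
  rw [det_of_upperTriangular (fun i j h => by
    fin_cases i <;> fin_cases j <;> first | rfl | exact absurd h (by decide)), Fin.prod_univ_five]
  simp [mat]

/-- the embedding of the unitriangular group -/
def u0 : US K →* SJ K := MonoidHom.mk' (fun x => ⟨⟨mat x, det_mat x⟩, by
    show adj (mat x) * mat x = 1
    rw [← mat_inv, ← mat_mul, inv_mul_cancel, mat_one]⟩) fun x y => Subtype.ext (Subtype.ext (mat_mul x y))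

@[simp] theorem coe_u0 (x : US K) : (u0 x : SJ K).1.1 = mat x := rfl

theorem mat_inj {x y : US K} (h : mat x = mat y) : x = y :=
  US.ext (congrFun₂ h 0 1) (congrFun₂ h 1 2) (congrFun₂ h 1 3) (congrFun₂ h 0 2) (congrFun₂ h 0 3) (congrFun₂ h 0 4)

theorem u0_inj : Function.Injective (u0 : US K → SJ K) := fun _ _ h => mat_inj (congrArg (fun g : SJ K => g.1.1) h)

theorem nonempty_SU : Nonempty (Cfsg.SU 5 K (Bar.q K) ≃* SJ K) := by
  let _ := Bar.fin (K := K)
  have : Fact (Fintype.card K = Bar.q K ^ 2) := ⟨Bar.card⟩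
  refine H38.TwSU.nonempty_equiv (n := 4) (Bar.q K) fun g => ?_
  rw [H38.TwSU.tw_σ_apply, mem_SJ]
  have e : (H38.TwSU.σ0 (Bar.q K) g).1 = adj g⁻¹.1 := rfl
  refine ⟨fun h => Subtype.ext ?_, fun h => ?_⟩
  · rw [e, show g⁻¹.1 = adj g.1 from coe_inv_SJ ⟨g, h⟩, adj_adj]
  · have : adj g.1 = g⁻¹.1 := by rw [← adj_adj g⁻¹.1, ← e, h]
    rw [this]; exact sl_inv_mul g

end Cfsg.Agent.U5F
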