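import Cfsg.Agent.U5F.OppA

/-! Project U5F: conjugates of `Y` are opposite.  See `notes/U5F.md`. -/

set_option autoImplicit false
set_option linter.unusedSectionVars false

namespace Cfsg.Agent.U5F

open US FK
open RFS (Au)
open scoped commutatorElement

variable {K : Type*} [Field K] [Bar K] {G : Type*} [Group G] [Finite G] {p : ℕ} [Fact p.Prime] [CharP K p]
  {u : US K →* G} {f g F n : US K → US K}

theorem opp_YP : (sY : Subgroup (US K)) ≤ sP := fun _ h => ⟨h.2.1, h.2.2.1⟩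

theorem opp_r1 (h : Two p u sQ sP) (hf : Fa u sP f) {y : US K} (hy : y ∈ (sY : Subgroup (US K))) (h0 : y.e ≠ 0)
    (k : f y ∈ (sY : Subgroup (US K))) : PY f :=
  (em (p = 2)).elim (fun hp => r1_two h hp hf hy h0 k) fun hp => r1_odd h hp hf hy h0 k

theorem opp (h : Two p u sQ sP) (hf : Fa u sP f) (hn : ¬ PY f) {y : US K} (hy : y ∈ (sY : Subgroup (US K)))
    (k : (f y).a = 0) : y.e = 0 := by
  by_contra h0
  obtain ⟨g, hg, h1, h2⟩ := hf.exists_inv
  obtain ⟨ε, ε0, hε⟩ := exists_skew K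
  have hη := hg.comp ((Fa.conj u (Xc ε hε) (nm_P _)).comp hf)
  have e : g (Xc ε hε * f y * (Xc ε hε)⁻¹) = y := by
    rw [m_J (x := Xc ε hε) ⟨rfl, rfl, rfl⟩ k, mul_inv_cancel_right, h1 y (opp_YP hy)]
  have k1 := opp_r1 h hη hy h0 (by rw [e]; exact hy)
  exact hn (PY.inv hg.au h2 (p0 h hg (s := Xc ε hε) (fun a => ε0 a.2) hη k1 fun a ha => by rw [h2 a ha]))

theorem opp_inj (h : Two p u sQ sP) (hf : Fa u sP f) (hn : ¬ PY f) {y y' : US K} (hy : y ∈ (sY : Subgroup (US K)))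
    (hy' : y' ∈ (sY : Subgroup (US K))) (k : (f y').a = (f y).a) : y'.e = y.e ∧ (f y').d = (f y).d ∧ (f y').e = (f y).e := by
  have e := opp h hf hn (mul_mem hy' (inv_mem hy)) (by
    rw [hf.au.mul _ (opp_YP hy') _ (inv_mem (opp_YP hy)), hf.au.map_inv (opp_YP hy), mul_a, inv_a, k,
      add_neg_cancel])
  rw [(coord_mul (opp_YP hy') (inv_mem (opp_YP hy))).2.2, (coord_inv (opp_YP hy)).2.2, add_neg_eq_zero] at e
  exact ⟨e, (au_modZ hf.au (opp_YP hy) (opp_YP hy') ⟨hy'.1.trans hy.1.symm, hy'.2.2.2.trans hy.2.2.2.symm, e⟩).2⟩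

theorem opp_sur (h : Two p u sQ sP) (hf : Fa u sP f) (hn : ¬ PY f) (t : K) : ∃ y ∈ (sY : Subgroup (US K)), (f y).a = t := by
  have m : ∀ e : K, (Xe e : US K) ∈ (sY : Subgroup (US K)) := fun _ => ⟨rfl, rfl, rfl, rfl⟩
  obtain ⟨e, he⟩ := Finite.surjective_of_injective (f := fun e : K => (f (Xe e)).a)
    (fun e e' k => (opp_inj h hf hn (m e') (m e) k).1) t
  exact ⟨_, m e, he⟩

/-- two conjugates that meet are equal -/
theorem meet (h : Two p u sQ sP) (hf : Fa u sP f) (hg : Fa u sP g) {y y' : US K} (hy : y ∈ (sY : Subgroup (US K)))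
    (hy' : y' ∈ (sY : Subgroup (US K))) (h0 : y.e ≠ 0) (k : (f y).a = (g y').a ∧ (f y).d = (g y').d ∧ (f y).e = (g y').e) :
    ∀ w ∈ (sY : Subgroup (US K)), ∃ w' ∈ (sY : Subgroup (US K)), f w = g w' := by
  obtain ⟨g', hg', h1, h2⟩ := hg.exists_inv
  have hη := hg'.comp hf
  have e := au_modZ hg'.au (hg.au.mem _ (opp_YP hy')) (hf.au.mem _ (opp_YP hy)) k
  rw [h1 _ (opp_YP hy')] at e
  have m := hη.au.mem _ (opp_YP hy)
  have k1 := opp_r1 h hη hy h0 ⟨e.1.trans hy'.1, m.1, m.2, e.2.1.trans hy'.2.2.2⟩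
  exact fun w hw => ⟨_, k1 w hw, (h2 _ (hf.au.mem _ (opp_YP hw))).symm⟩

theorem np_conj (hn : ¬ PY f) (s : US K) : ¬ PY fun a => s * f a * s⁻¹ := fun k => hn fun y hy => by
  have := (inferInstance : (sY : Subgroup (US K)).Normal).conj_mem _ (k y hy) s⁻¹
  convert this using 1
  group

theorem np_inv (hf : Fa u sP f) (hg : Fa u sP g) (e : ∀ a ∈ (sP : Subgroup (US K)), f (g a) = a) (hn : ¬ PY f) : ¬ PY g :=
  fun k => hn (PY.inv hg.au e k)

theorem np_tr (h : Two p u sQ sP) (hf : Fa u sP f) (hg : Fa u sP g) (e : ∀ a ∈ (sP : Subgroup (US K)), f (g a) = a) (hn : ¬ PY f)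
    {s : US K} (hs : s ∉ (sP : Subgroup (US K))) : ¬ PY fun a => f (s * g a * s⁻¹) := fun k =>
  hn (p0 h hf hs (hf.comp ((Fa.conj u s (nm_P s)).comp hg)) k fun a ha => by
    have m := hf.au.mem a ha
    rw [hf.au.inj _ (hg.au.mem _ m) _ ha (e _ m)])

end Cfsg.Agent.U5F
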