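import Cfsg.Agent.U5F.Ext

/-! Project U5F: conjugates of `Y`, first part.  See `notes/U5F.md`. -/

set_option autoImplicit false
set_option linter.unusedSectionVars false

namespace Cfsg.Agent.U5F

open US FK
open RFS (Au)
open scoped commutatorElement

variable {K : Type*} [Field K] [Bar K] {G : Type*} [Group G] [Finite G] {p : ℕ} [Fact p.Prime] [CharP K p]
  {u : US K →* G} {f g F n : US K → US K}

namespace OppAux

open Perp

theorem p1 (h : Two p u sQ sP) (hf : Fa u sP f) (hg : Fa u sP g)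
    (e : ∀ a ∈ (sP : Subgroup (US K)), g (f a) = a) {s : US K} (hs : s ∉ (sP : Subgroup (US K)))
    (k : PY fun a => f (s * g a * s⁻¹)) : PY f :=
  p0 h hf hs (hf.comp ((Fa.conj u s (nm_P s)).comp hg)) k fun a ha => by rw [e a ha]

theorem cj_eq {s x : US K} (h : s * x = x * s) : s * x * s⁻¹ = x := by rw [h, mul_inv_cancel_right]

theorem comm_Y {x y : US K} (hx : x ∈ (sP : Subgroup (US K))) (hy : y ∈ (sY : Subgroup (US K))) :
    x * y = y * x ↔ y.e * σ x.a = x.a * σ y.e := by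
  rw [comm_iff_P hx (YP hy)]
  simp [hy.1, hy.2.2.2, eq_comm]

theorem scale (hf : Au sP f) {y y' : US K} (hy : y ∈ (sY : Subgroup (US K)))
    (k : f y ∈ (sY : Subgroup (US K))) (hy' : y' ∈ (sY : Subgroup (US K))) {l : K} (hl : σ l = l)
    (e : y'.e = l * y.e) : f y' ∈ (sY : Subgroup (US K)) := by
  refine perp_D (hf.mem _ (YP hy')) fun v hv => ?_
  obtain ⟨v₀, h₀, rfl⟩ := hf.sur v (DP hv)
  have c := (comm_Y h₀ hy).1 ((au_comm hf h₀ (YP hy)).1 (m_DY hv k))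
  refine ((au_comm hf h₀ (YP hy')).2 ((comm_Y h₀ hy').2 ?_)).symm
  rw [e, map_mul, hl]
  linear_combination l * c

theorem Xc_not {c : K} (hc : σ c = -c) (h0 : c ≠ 0) : Xc c hc ∉ (sP : Subgroup (US K)) :=
  fun k => h0 k.2

end OppAux

open OppAux Perp

theorem r0 (h : Two p u sQ sP) (hf : Fa u sP f) (k : ∀ y ∈ (sY : Subgroup (US K)), f y ∈ (sD : Subgroup (US K))) : PY f := by
  obtain ⟨g, hg, h1, h2⟩ := hf.exists_inv
  obtain ⟨ε, ε0, hε⟩ := exists_skew K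
  refine p1 h hf hg h1 (Xc_not hε ε0) fun w hw => ?_
  have m := hg.au.mem w (YP hw)
  have hD : g w ∈ (sD : Subgroup (US K)) := perp_Y m fun y hy =>
    (au_comm hf.au m (YP hy)).1 (by rw [h2 w (YP hw)]; exact (m_DY (k y hy) hw).symm)
  show f _ ∈ _
  rwa [cj_eq (m_J (x := Xc ε hε) ⟨rfl, rfl, rfl⟩ hD.1), h2 w (YP hw)]

theorem r1_two (h : Two p u sQ sP) (hp : p = 2) (hf : Fa u sP f) {y : US K} (hy : y ∈ (sY : Subgroup (US K))) (h0 : y.e ≠ 0)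
    (k : f y ∈ (sY : Subgroup (US K))) : PY f := by
  subst hp
  obtain ⟨g, hg, h1, h2⟩ := hf.exists_inv
  have hε : σ (1 : K) = -1 := by rw [map_one, CharTwo.neg_eq]
  refine p1 h hf hg h1 (Xc_not hε one_ne_zero) fun w hw => ?_
  have m := hg.au.mem w (YP hw)
  obtain ⟨l, hl, e⟩ := prop_of h0 ((comm_Y m hy).1 ((au_comm hf.au m (YP hy)).1
    (by rw [h2 w (YP hw)]; exact m_DY (YD hw) k)))
  have m' := nm_P (Xc 1 hε) _ m
  obtain ⟨c1, c2, c3⟩ := cj_P (Xc 1 hε) m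
  obtain ⟨i1, i2, i3⟩ := coord_inv m
  obtain ⟨d1, d2, d3⟩ := coord_mul (inv_mem m) m'
  have m3 := mul_mem (inv_mem m) m'
  have y3 : (g w)⁻¹ * (Xc 1 hε * g w * (Xc 1 hε)⁻¹) ∈ (sY : Subgroup (US K)) :=
    ⟨by rw [d1, i1, c1, neg_add_cancel], m3.1, m3.2, by rw [d2, i2, c2]; simp⟩
  have := scale hf.au hy k y3 hl (by rw [d3, i3, c3, e]; simp)
  rw [hf.au.mul _ (inv_mem m) _ m', hf.au.map_inv m, h2 w (YP hw)] at this
  exact (Subgroup.mul_mem_cancel_left _ (inv_mem hw)).1 this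

theorem r1_odd (h : Two p u sQ sP) (hp : p ≠ 2) (hf : Fa u sP f) {y : US K} (hy : y ∈ (sY : Subgroup (US K))) (h0 : y.e ≠ 0)
    (k : f y ∈ (sY : Subgroup (US K))) : PY f := by
  obtain ⟨g, hg, h1, h2⟩ := hf.exists_inv
  obtain ⟨ε, ε0, hε⟩ := exists_skew K
  have hy2 : (Xe (ε * y.e) : US K) ∈ (sY : Subgroup (US K)) := ⟨rfl, rfl, rfl, rfl⟩
  have e2 : (Xe (ε * y.e) : US K).e = ε * y.e := rfl
  generalize (Xe (ε * y.e) : US K) = y₂ at hy2 e2
  have hi : y.e * σ y₂.e ≠ y₂.e * σ y.e := fun e => by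
    rw [e2, map_mul, hε] at e
    have h3 : σ y.e ≠ 0 := by simpa using h0
    exact mul_ne_zero (mul_ne_zero (mul_ne_zero (two_ne p hp) ε0) h0) h3 (by linear_combination -e)
  by_cases ha : (f y₂).a = 0
  · exact r0 h hf (le_D hf.au hy hy2 hi k.1 ha)
  have mw := hf.au.mem _ (YP hy2)
  have hs : (Xb 1 : US K) ∉ (sP : Subgroup (US K)) := fun e => one_ne_zero e.1
  have sy : Xb 1 * f y * (Xb 1)⁻¹ = f y := cj_eq (m_J ⟨k.1, k.2.1, k.2.2.2⟩ rfl).symm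
  have b1 : (Xb 1 : US K).b = 1 := rfl
  generalize (Xb 1 : US K) = s at hs sy b1
  have mw' := nm_P s _ mw
  have m := hg.au.mem _ mw'
  obtain ⟨l, hl, e⟩ := prop_of h0 ((comm_Y m hy).1 ((au_comm hf.au m (YP hy)).1 (by
    rw [h2 _ mw']
    conv_lhs => rw [← sy]
    conv_rhs => rw [← sy]
    rw [conj_mul, conj_mul, (au_comm hf.au (YP hy2) (YP hy)).2 (m_DY (YD hy2) hy)])))
  have hη := hg.comp ((Fa.conj u s (nm_P s)).comp hf)
  have ηy : g (s * f y * s⁻¹) = y := by rw [sy, h1 y (YP hy)]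
  by_cases l0 : l = 0
  · exact PY.inv hg.au h2 (p1 h hg hf h2 hs (r0 h hη (le_D hη.au hy hy2 hi
      (by rw [ηy]; exact hy.1) (by rw [e, l0, zero_mul]))))
  exfalso
  have hc : σ (ε / l) = -(ε / l) := by rw [map_div₀, hε, hl, neg_div]
  have hη' := hf.comp ((Fa.conj u (Xc _ hc) (nm_P _)).comp hη)
  obtain ⟨c1, c2, c3⟩ := cj_P (Xc _ hc) m
  obtain ⟨i1, i2, i3⟩ := coord_inv (YP hy2)
  obtain ⟨d1, d2, d3⟩ := coord_mul m (inv_mem (YP hy2))
  obtain ⟨q1, q2, -⟩ := au_modZ hf.au (mul_mem m (inv_mem (YP hy2))) (nm_P (Xc _ hc) _ m)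
    ⟨by rw [c1, d1, i1, hy2.1]; simp, by rw [c2, d2, i2, hy2.2.2.2]; simp, by
      rw [c3, d3, i3, e2, e, Xc_c, hc, Xc_b]
      field_simp
      simp⟩
  rw [hf.au.mul _ m _ (inv_mem (YP hy2)), hf.au.map_inv (YP hy2), h2 _ mw'] at q1 q2
  obtain ⟨a1, a2, -⟩ := cj_P s mw
  obtain ⟨j1, j2, -⟩ := coord_inv mw
  obtain ⟨n1, n2, -⟩ := coord_mul mw' (inv_mem mw)
  rw [n1, a1, j1, add_neg_cancel] at q1
  rw [n2, a2, j2, b1] at q2
  have := (r0 h hη' (le_D hη'.au hy hy2 hi (by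
    rw [ηy, cj_eq (m_J (x := Xc _ hc) ⟨rfl, rfl, rfl⟩ hy.1)]; exact k.1) q1) y₂ hy2).2.2.2
  rw [q2] at this
  exact ha (by linear_combination -this)

end Cfsg.Agent.U5F
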