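import Cfsg.Agent.U5F.Chr

/-! Project U5F: the symplectic geometry of `P / Z`.  See `notes/U5F.md`. -/

set_option autoImplicit false
set_option linter.unusedSectionVars false

namespace Cfsg.Agent.U5F

open US FK
open RFS (Au)
open scoped commutatorElement

variable {K : Type*} [Field K] [Bar K] {f F : US K → US K} {x x' y : US K}

namespace Perp

theorem YD : (sY : Subgroup (US K)) ≤ sD := fun _ h => ⟨h.1, h.2.1, h.2.2.1⟩

theorem DP : (sD : Subgroup (US K)) ≤ sP := fun _ h => ⟨h.2.1, h.2.2⟩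

theorem YP : (sY : Subgroup (US K)) ≤ sP := YD.trans DP

theorem ZP : (sZ : Subgroup (US K)) ≤ sP := fun _ h => ⟨h.2.1, h.2.2.1⟩

theorem zero_of {a : K} (h : ∀ t : K, a * σ t = t * σ a) : a = 0 :=
  (indep (α := -σ a) (β := a) fun t => by linear_combination h t).2

end Perp

theorem perp_Y (hx : x ∈ (sP : Subgroup (US K))) (h : ∀ y ∈ (sY : Subgroup (US K)), x * y = y * x) : x ∈ (sD : Subgroup (US K)) := by
  refine ⟨Perp.zero_of fun t => ?_, hx.1, hx.2⟩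
  have := (comm_iff_P hx (y := Xe t) (by simp)).1 (h _ (by simp))
  simpa using this

theorem perp_D (hx : x ∈ (sP : Subgroup (US K))) (h : ∀ y ∈ (sD : Subgroup (US K)), x * y = y * x) : x ∈ (sY : Subgroup (US K)) := by
  refine ⟨(perp_Y hx fun y hy => h y (Perp.YD hy)).1, hx.1, hx.2, Perp.zero_of fun t => ?_⟩
  have := (comm_iff_P hx (y := Xd t) (by simp)).1 (h _ (by simp))
  simpa using this

theorem m_DY (hx : x ∈ (sD : Subgroup (US K))) (hy : y ∈ (sY : Subgroup (US K))) : x * y = y * x := by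
  rw [comm_iff_P (Perp.DP hx) (Perp.YP hy)]
  simp [hx.1, hy.1, hy.2.2.2]

/-- equality modulo `Z` -/
theorem modZ (hx : x ∈ (sP : Subgroup (US K))) (hx' : x' ∈ (sP : Subgroup (US K))) :
    (∃ z ∈ (sZ : Subgroup (US K)), x' = x * z) ↔ x'.a = x.a ∧ x'.d = x.d ∧ x'.e = x.e := by
  constructor
  · rintro ⟨z, ⟨h0, h1, h2, h3, h4⟩, rfl⟩
    simp [h0, h1, h2, h3, h4]
  · rintro ⟨h0, h1, h2⟩
    refine ⟨x⁻¹ * x', ?_, by group⟩
    simp [h0, h1, h2, hx.1, hx.2, hx'.1, hx'.2]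

theorem coord_mul (hx : x ∈ (sP : Subgroup (US K))) (hy : y ∈ (sP : Subgroup (US K))) :
    (x * y).a = x.a + y.a ∧ (x * y).d = x.d + y.d ∧ (x * y).e = x.e + y.e := by
  simp [hy.1, hy.2]

theorem coord_inv (hx : x ∈ (sP : Subgroup (US K))) : x⁻¹.a = -x.a ∧ x⁻¹.d = -x.d ∧ x⁻¹.e = -x.e := by
  simp [hx.1, hx.2]

/-- an automorphism of `P` acts on `P / Z` -/
theorem au_modZ (h : Au sP f) (hx : x ∈ (sP : Subgroup (US K))) (hx' : x' ∈ (sP : Subgroup (US K)))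
    (e : x'.a = x.a ∧ x'.d = x.d ∧ x'.e = x.e) : (f x').a = (f x).a ∧ (f x').d = (f x).d ∧ (f x').e = (f x).e := by
  obtain ⟨z, hz, rfl⟩ := (modZ hx hx').2 e
  exact (modZ (h.mem _ hx) (h.mem _ hx')).1 ⟨f z, chP_Z h z hz, h.mul _ hx _ (Perp.ZP hz)⟩

theorem au_comm (h : Au sP f) (hx : x ∈ (sP : Subgroup (US K))) (hy : y ∈ (sP : Subgroup (US K))) :
    f x * f y = f y * f x ↔ x * y = y * x := by
  rw [← h.mul _ hx _ hy, ← h.mul _ hy _ hx]
  exact ⟨h.inj _ (mul_mem hx hy) _ (mul_mem hy hx), fun e => by rw [e]⟩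

theorem PY.inv {g : US K → US K} (h : Au sP f) (hg : ∀ a ∈ (sP : Subgroup (US K)), g (f a) = a) (hf : PY f) : PY g := by
  intro y hy
  obtain ⟨a, ha, rfl⟩ := (h.res Perp.YP hf).sur y hy
  rwa [hg a (Perp.YP ha)]

theorem PY.d (h : Au sP f) (hf : PY f) : ∀ a ∈ (sD : Subgroup (US K)), f a ∈ (sD : Subgroup (US K)) := by
  intro a ha
  refine perp_Y (h.mem _ (Perp.DP ha)) fun y hy => ?_
  obtain ⟨b, hb, rfl⟩ := (h.res Perp.YP hf).sur y hy
  exact (au_comm h (Perp.DP ha) (Perp.YP hb)).2 (m_DY ha hb)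

/-- `f Y` is a subspace over the fixed field -/
theorem scale_Y (h : Au sP f) (hy : y ∈ (sY : Subgroup (US K))) (hx : x ∈ (sP : Subgroup (US K))) {l : K} (hl : σ l = l)
    (e : x.a = l * (f y).a ∧ x.d = l * (f y).d ∧ x.e = l * (f y).e) : ∃ y' ∈ (sY : Subgroup (US K)), f y' = x := by
  obtain ⟨x₀, hx₀, rfl⟩ := h.sur x hx
  refine ⟨x₀, perp_D hx₀ fun v hv => ?_, rfl⟩
  have hv' := Perp.DP hv
  have k := (comm_iff_P (h.mem _ hv') (h.mem _ (Perp.YP hy))).1 ((au_comm h hv' (Perp.YP hy)).2 (m_DY hv hy))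
  rw [← au_comm h hx₀ hv', comm_iff_P hx (h.mem _ hv'), e.1, e.2.1, e.2.2]
  simp only [map_mul, hl]
  linear_combination -l * k

/-- two independent elements of `Y` with image in `D` -/
theorem le_D (h : Au sP f) {y' : US K} (hy : y ∈ (sY : Subgroup (US K))) (hy' : y' ∈ (sY : Subgroup (US K)))
    (hi : y.e * σ y'.e ≠ y'.e * σ y.e) (h1 : (f y).a = 0) (h2 : (f y').a = 0) :
    ∀ w ∈ (sY : Subgroup (US K)), f w ∈ (sD : Subgroup (US K)) := by
  intro w hw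
  refine perp_Y (h.mem _ (Perp.YP hw)) fun v hv => ?_
  obtain ⟨v₀, hv₀, rfl⟩ := h.sur v (Perp.YP hv)
  have key : ∀ z ∈ (sY : Subgroup (US K)), (f z).a = 0 → v₀.a * σ z.e = z.e * σ v₀.a := fun z hz h0 => by
    have hz' := Perp.YP hz
    have k := (comm_iff_P hz' hv₀).1 ((au_comm h hz' hv₀).1
      (m_DY ⟨h0, (h.mem _ hz').1, (h.mem _ hz').2⟩ hv))
    simp only [hz.1, hz.2.2.2, map_zero, zero_mul, mul_zero, add_zero, zero_add] at k
    exact k.symm
  have k1 := key y hy h1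
  have k2 := key y' hy' h2
  have ha : v₀.a = 0 := by
    have : v₀.a * (y.e * σ y'.e - y'.e * σ y.e) = 0 := by linear_combination y.e * k2 - y'.e * k1
    exact (mul_eq_zero.1 this).resolve_right (sub_ne_zero.2 hi)
  exact (au_comm h (Perp.YP hw) hv₀).2 (m_DY ⟨ha, hv₀.1, hv₀.2⟩ hw).symm

end Cfsg.Agent.U5F
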