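import Cfsg.Agent.U5F.T2a

/-! Project U5F: semilinearity.  See `notes/U5F.md`. -/

set_option autoImplicit false
set_option linter.unusedSectionVars false

namespace Cfsg.Agent.U5F

open US FK
open RFS (Au)
open scoped commutatorElement

variable {K : Type*} [Field K] [Bar K] {G : Type*} [Group G] [Finite G] {p : ℕ} [Fact p.Prime] [CharP K p]
  {u : US K →* G} {f g F n : US K → US K}

namespace SL

theorem Y_P {y : US K} (hy : y ∈ (sY : Subgroup (US K))) : y ∈ (sP : Subgroup (US K)) := ⟨hy.2.1, hy.2.2.1⟩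

theorem Xd_P (t : K) : Xd t ∈ (sP : Subgroup (US K)) := ⟨rfl, rfl⟩

theorem Xe_Y (t : K) : Xe t ∈ (sY : Subgroup (US K)) := ⟨rfl, rfl, rfl, rfl⟩

theorem Xb_Y (b : K) {y : US K} (hy : y ∈ (sY : Subgroup (US K))) : (Xb b)⁻¹ * y * (Xb b)⁻¹⁻¹ = y := by
  rw [← m_J (x := y) (y := (Xb b)⁻¹) ⟨hy.1, hy.2.1, hy.2.2.2⟩ (inv_mem (show Xb b ∈ sQ from rfl)),
    mul_inv_cancel_right]

theorem mid (h : Two p u sQ sP) (hf : Fa u sP f) (hn : ¬ PY f) (hg : Fa u sP g)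
    (e2 : ∀ a ∈ (sP : Subgroup (US K)), f (g a) = a) (d1 : ∀ y ∈ (sY : Subgroup (US K)), (f y).d = 0)
    (d2 : ∀ y ∈ (sY : Subgroup (US K)), (g y).d = 0) (t : K) : (f (Xd t)).a = 0 ∧ (f (Xd t)).e = 0 := by
  have a0 := hf.au.mem _ (Xd_P t)
  have a1 : (f (Xd t)).a = 0 := (perp_Y a0 fun y hy => by
    have b1 := hg.au.mem _ (Y_P hy)
    rw [← e2 y (Y_P hy), au_comm hf.au (Xd_P t) b1, comm_iff_P (Xd_P t) b1]
    simp [d2 y hy]).1
  refine ⟨a1, (indep (α := -σ (f (Xd t)).e) fun a => ?_).2⟩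
  obtain ⟨y, hy, rfl⟩ := opp_sur h hf hn a
  have := (comm_iff_P a0 (hf.au.mem _ (Y_P hy))).1
    ((au_comm hf.au (Xd_P t) (Y_P hy)).2 (m_DY ⟨rfl, rfl, rfl⟩ hy))
  rw [a1, d1 y hy, map_zero] at this
  linear_combination this

theorem sl0 (h : Two p u sQ sP) (hp : p ≠ 2) (i0 : In u ⊤ (tor 1 (-1))) (hf : Fa u sP f) (hn : ¬ PY f)
    (hg : Fa u sP g) (e1 : ∀ a ∈ (sP : Subgroup (US K)), g (f a) = a)
    (e2 : ∀ a ∈ (sP : Subgroup (US K)), f (g a) = a) (d1 : ∀ y ∈ (sY : Subgroup (US K)), (f y).d = 0)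
    (d2 : ∀ y ∈ (sY : Subgroup (US K)), (g y).d = 0) :
    ∃ (r : K) (φ : K ≃+* K), r ≠ 0 ∧ ∀ y ∈ (sY : Subgroup (US K)), (f y).a = r * φ y.e := by
  have m := mid h hf hn hg e2 d1 d2
  have a1 : ∀ a b : K, (f (Xd (-(a + b)))).d = (f (Xd (-a))).d + (f (Xd (-b))).d := fun a b => by
    rw [(au_modZ hf.au (mul_mem (Xd_P (-a)) (Xd_P (-b))) (Xd_P (-(a + b))) ⟨by simp, by simp; ring, by simp⟩).2.1,
      hf.au.mul _ (Xd_P _) _ (Xd_P _), (coord_mul (hf.au.mem _ (Xd_P _)) (hf.au.mem _ (Xd_P _))).2.1]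
  have a2 : ∀ a : K, (f (Xd (-a))).d = 0 → a = 0 := fun a k => by
    have b1 := hf.au.mem _ (Xd_P (-a))
    have := chP_Z hg.au _ ⟨(m _).1, b1.1, b1.2, k, (m _).2⟩
    rw [e1 _ (Xd_P _)] at this
    exact neg_eq_zero.1 this.2.2.2.1
  have a3 : ∀ x : K, ∃ κ, ∀ a : K, (f (Xd (-(a * x)))).d = (f (Xe a)).a * κ := fun x => by
    by_cases hx : x = 0
    · refine ⟨0, fun a => ?_⟩
      have := a1 0 0
      rw [add_zero] at this
      rw [hx, mul_zero, mul_zero]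
      linear_combination -this
    obtain ⟨w, hw⟩ := exists_tr (t := (-1 : K)) (by simp)
    have w0 : w ≠ 0 := by
      rintro rfl
      simp at hw
    have w1 : σ w ≠ 0 := by simpa using w0
    have x1 : σ x ≠ 0 := by simpa using hx
    obtain ⟨s, sb, sc⟩ : ∃ s : US K, s.b = 1 / (σ x * w) ∧ σ s.c = s.b / x :=
      ⟨⟨0, 1 / (σ x * w), 1 / (x * σ w) / σ x, 0, 0, 0, by
        simp only [map_div₀, map_mul, map_one, σσ]
        field_simp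
        linear_combination hw, by simp⟩, rfl, by simp only [map_div₀, map_mul, map_one, σσ]⟩
    have s0 : s.b ≠ 0 := by
      rw [sb]
      exact one_div_ne_zero (mul_ne_zero x1 w0)
    obtain ⟨κ, hκ⟩ := lin h hp i0 (hf.comp ((Fa.conj u s (nm_P s)).comp hg))
      (np_tr h hf hg e2 hn fun k => s0 k.1)
    refine ⟨κ, fun a => ?_⟩
    obtain ⟨y, hy, ya⟩ := opp_sur h hg (np_inv hf hg e2 hn) (a * x / s.b)
    have b1 := hg.au.mem _ (Y_P hy)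
    have b2 := cj_P s b1
    have b3 := mul_mem b1 (Xd_P (-(a * x)))
    have b4 := au_modZ hf.au (mul_mem b3 (Y_P (Xe_Y a))) (nm_P s _ b1) ⟨by simp [b2.1], by
      rw [b2.2.1, ya]; simp; field_simp; ring, by
      rw [b2.2.2, ya, sc, d2 y hy]; simp; field_simp⟩
    have b5 := hκ y hy
    have b6 := hf.au.mem _ (Xd_P (-(a * x)))
    have b7 := coord_mul (Y_P hy) b6
    have b8 := coord_mul (mul_mem (Y_P hy) b6) (hf.au.mem _ (Y_P (Xe_Y a)))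
    rw [b4.1, b4.2.1, hf.au.mul _ b3 _ (Y_P (Xe_Y a)), hf.au.mul _ b1 _ (Xd_P _), e2 y (Y_P hy), b8.1, b8.2.1,
      b7.1, b7.2.1, hy.1, hy.2.2.2, (m _).1, d1 _ (Xe_Y a)] at b5
    linear_combination b5
  choose κ hκ using a3
  obtain ⟨φ, r, -, hr, -, e, -⟩ := exists_aut (h := fun a => (f (Xd (-a))).d) (f := fun a => (f (Xe a)).a) a1 a2
    fun s t => hκ t s
  refine ⟨r, φ, hr, fun y hy => ?_⟩
  rw [← e]
  exact (au_modZ hf.au (Y_P (Xe_Y y.e)) (Y_P hy) ⟨hy.1, hy.2.2.2, rfl⟩).1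

end SL

open SL in
theorem sl (h : Two p u sQ sP) (hp : p ≠ 2) (i0 : In u ⊤ (tor 1 (-1))) (hf : Fa u sP f) (hn : ¬ PY f) :
    ∃ (r : K) (φ : K ≃+* K), r ≠ 0 ∧ ∀ y ∈ (sY : Subgroup (US K)), (f y).a = r * φ y.e := by
  obtain ⟨g, hg, e1, e2⟩ := hf.exists_inv
  obtain ⟨b, hb⟩ := lin h hp i0 hf hn
  obtain ⟨b', hb'⟩ := lin h hp i0 hg (np_inv hf hg e2 hn)
  have c := fun s : US K => Fa.conj u s (nm_P s)
  obtain ⟨r, φ, hr, e⟩ := sl0 h hp i0 ((c (Xb b)).comp (hf.comp (c (Xb b')⁻¹)))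
    (fun k => np_conj hn (Xb b) fun y hy => by simpa only [Xb_Y b' hy] using k y hy)
    ((c (Xb b')).comp (hg.comp (c (Xb b)⁻¹))) (fun a ha => by
      rw [show ∀ x : US K, (Xb b)⁻¹ * (Xb b * x * (Xb b)⁻¹) * (Xb b)⁻¹⁻¹ = x from fun x => by group,
        e1 _ (nm_P _ a ha)]
      group) (fun a ha => by
      rw [show ∀ x : US K, (Xb b')⁻¹ * (Xb b' * x * (Xb b')⁻¹) * (Xb b')⁻¹⁻¹ = x from fun x => by group,
        e2 _ (nm_P _ a ha)]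
      group) (fun y hy => by
      rw [Xb_Y b' hy, (cj_P _ (hf.au.mem _ (Y_P hy))).2.1, hb y hy, Xb_b, sub_self]) fun y hy => by
      rw [Xb_Y b hy, (cj_P _ (hg.au.mem _ (Y_P hy))).2.1, hb' y hy, Xb_b, sub_self]
  refine ⟨r, φ, hr, fun y hy => ?_⟩
  rw [← e y hy, Xb_Y b' hy, (cj_P _ (hf.au.mem _ (Y_P hy))).1]

end Cfsg.Agent.U5F
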