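import Cfsg.Agent.U5F.Opp

/-! Project U5F: elements that interchange `Y` and a conjugate.  See `notes/U5F.md`. -/

set_option autoImplicit false
set_option linter.unusedSectionVars false

namespace Cfsg.Agent.U5F

open US FK
open RFS (Au)
open scoped commutatorElement

variable {K : Type*} [Field K] [Bar K] {G : Type*} [Group G] [Finite G] {p : ℕ} [Fact p.Prime] [CharP K p]
  {u : US K →* G} {f g F n : US K → US K}

namespace SwA

theorem YP {y : US K} (hy : y ∈ (sY : Subgroup (US K))) : y ∈ (sP : Subgroup (US K)) := hy.2.imp id And.left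

theorem DP {y : US K} (hy : y ∈ (sD : Subgroup (US K))) : y ∈ (sP : Subgroup (US K)) := hy.2

theorem ZP {y : US K} (hy : y ∈ (sZ : Subgroup (US K))) : y ∈ (sP : Subgroup (US K)) := hy.2.imp id And.left

theorem YD {y : US K} (hy : y ∈ (sY : Subgroup (US K))) : y ∈ (sD : Subgroup (US K)) := ⟨hy.1, YP hy⟩

theorem cj_Y (s : US K) {y : US K} (hy : y ∈ (sY : Subgroup (US K))) : s * y * s⁻¹ ∈ (sY : Subgroup (US K)) :=
  Subgroup.Normal.conj_mem inferInstance y hy s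

theorem cj_Z (s : US K) {z : US K} (hz : z ∈ (sZ : Subgroup (US K))) : s * z * s⁻¹ = z := by
  rw [← m_Z hz, mul_inv_cancel_right]

theorem c_D (s : US K) {x : US K} (hx : x ∈ (sD : Subgroup (US K))) : ⁅s, x⁆ ∈ (sY : Subgroup (US K)) :=
  SR3.comm_symm (c_W ⟨hx.1, hx.2.1⟩ s)

theorem c_P (s : US K) {x : US K} (hx : x ∈ (sP : Subgroup (US K))) : ⁅s, x⁆ ∈ (sD : Subgroup (US K)) :=
  ⟨comm_a _ _, mul_mem (nm_P s x hx) (inv_mem hx)⟩

end SwA

open SwA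

theorem Gr.perp {κ : K} (h : Two p u sQ sP) (k : Gr u f κ) {x : US K} (hx : x ∈ (sD : Subgroup (US K))) :
    (∀ y ∈ (sY : Subgroup (US K)), x * f y = f y * x) ↔ x.e = σ x.d * κ + x.d * σ κ := by
  have t := k.two
  have t' : σ κ + σ κ = 0 := by rw [← map_add, t, map_zero]
  refine ⟨fun c => ?_, fun c y hy => ?_⟩
  · have := (indep (α := x.d * σ κ - σ x.e - κ * σ x.d) (β := x.e + x.d * σ κ - κ * σ x.d) fun a => by
      obtain ⟨y, hy, rfl⟩ := opp_sur h k.fa k.np a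
      have := (comm_iff_P (DP hx) (k.fa.au.mem y (YP hy))).1 (c y hy)
      rw [k.d y hy, hx.1] at this
      simp only [map_mul, map_add, σσ, map_zero] at this
      linear_combination this).2
    linear_combination this - x.d * t'
  · rw [comm_iff_P (DP hx) (k.fa.au.mem y (YP hy)), k.d y hy, hx.1, c]
    simp only [map_mul, map_add, σσ, map_zero]
    linear_combination x.d * σ (f y).a * t' - (f y).a * σ x.d * t

theorem nswap {κ w : K} (h : Two p u sQ sP) (t : T2 u) (k : Gr u f κ) (hw : w ≠ 0) : ∃ n, Sw u f w n := by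
  have t1 := k.two
  have t2 : σ κ + σ κ = 0 := by rw [← map_add, t1, map_zero]
  obtain ⟨g, hg, gf, fg⟩ := k.fa.exists_inv
  have hf := k.fa
  have fP := hf.au.mem
  have gP := hg.au.mem
  have ng : ¬ PY g := np_inv hf hg fg k.np
  obtain ⟨b, hb⟩ := exists_nrm (t := -(w + σ w)) (by simp; ring)
  obtain ⟨s, sb, sc⟩ : ∃ s : US K, s.b = b ∧ s.c = σ w - (κ * σ b + σ κ * b) :=
    ⟨⟨0, b, σ w - (κ * σ b + σ κ * b), 0, 0, 0, by
      simp only [map_sub, map_add, map_mul, σσ]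
      linear_combination hb - σ b * t1 - b * t2, by simp⟩, rfl, rfl⟩
  have sc' : σ s.c = w - (κ * σ b + σ κ * b) := by
    rw [sc]; simp only [map_sub, map_add, map_mul, σσ]; ring
  have hs : s ∉ (sP : Subgroup (US K)) := fun ⟨h1, h2⟩ => by
    rw [h2, ← sb, h1] at sc'
    exact hw (by simpa using sc'.symm)
  have cs : ∀ s : US K, Fa u sP fun a => s * a * s⁻¹ := fun s => Fa.conj u s (nm_P s)
  obtain ⟨s₂, h₂⟩ := t g _ hg (hg.comp ((cs s⁻¹).comp hf)) ng (np_tr h hg hf gf ng fun c => hs (inv_mem_iff.1 c))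
  obtain ⟨s₁, h₁⟩ := t _ g (hg.comp ((cs s).comp hf)) hg (np_tr h hg hf gf ng hs) ng
  obtain ⟨n, hn, en⟩ : ∃ n, Fa u sP n ∧ ∀ x, n x = f (s₁ * g (s * f (s₂ * g x * s₂⁻¹) * s⁻¹) * s₁⁻¹) :=
    ⟨_, hf.comp ((cs s₁).comp (hg.comp ((cs s).comp (hf.comp ((cs s₂).comp hg))))), fun _ => rfl⟩
  have ny : ∀ y ∈ (sY : Subgroup (US K)), ∃ y' ∈ (sY : Subgroup (US K)), n y = f y' := fun y hy => by
    obtain ⟨y', hy', e⟩ := h₂ y hy
    refine ⟨_, cj_Y s₁ hy', ?_⟩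
    rw [en, e, fg _ (nm_P _ _ (fP _ (YP hy'))), show s * (s⁻¹ * f y' * s⁻¹⁻¹) * s⁻¹ = f y' by group, gf _ (YP hy')]
  have nfy : ∀ y ∈ (sY : Subgroup (US K)), n (f y) ∈ (sY : Subgroup (US K)) := fun y hy => by
    obtain ⟨y', hy', e⟩ := h₁ _ (cj_Y s₂ hy)
    rwa [en, gf _ (YP hy), e, fg _ (YP hy')]
  have fD : ∀ x ∈ (sD : Subgroup (US K)), ∀ y ∈ (sY : Subgroup (US K)), f x * f y = f y * f x := fun x hx y hy =>
    (au_comm hf.au (DP hx) (YP hy)).2 (m_DY hx hy)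
  have gD : ∀ x ∈ (sP : Subgroup (US K)), (∀ y ∈ (sY : Subgroup (US K)), x * f y = f y * x) →
      g x ∈ (sD : Subgroup (US K)) := fun x hx c => perp_Y (gP x hx) fun y hy =>
    (au_comm hf.au (gP x hx) (YP hy)).1 (by rw [fg x hx, c y hy])
  have uu : ∀ (r : US K), ∀ x ∈ (sP : Subgroup (US K)), f (r * g x * r⁻¹) = f ⁅r, g x⁆ * x := fun r x hx => by
    rw [SR3.conj_eq_comm, hf.au.mul _ (DP (c_P r (gP x hx))) _ (gP x hx), fg x hx]
  refine ⟨n, hn, fun z hz => ?_, fun y hy => ⟨nfy y hy, ?_⟩, ny, fun x hx c => ?_⟩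
  · have := chP_Z hg.au z hz
    rw [en, cj_Z _ this, fg _ (ZP hz), cj_Z _ hz, cj_Z _ this, fg _ (ZP hz)]
  · have y2 := cj_Y s₂ hy
    obtain ⟨a1, a2, a3⟩ := au_modZ hf.au (YP hy) (YP y2) (by
      obtain ⟨b1, b2, b3⟩ := cj_P s₂ (YP hy)
      rw [b1, b2, b3, hy.1, hy.2.2.2]; simp)
    have xP := nm_P s _ (fP _ (YP y2))
    obtain ⟨b1, b2, b3⟩ := cj_P s (fP _ (YP y2))
    have e := en (f y)
    rw [gf _ (YP hy), uu _ _ xP] at e
    have mP := fP _ (DP (c_P s₁ (gP _ xP)))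
    obtain ⟨c1, c2, c3⟩ := coord_mul mP xP
    obtain ⟨d1, d2, d3⟩ := coord_mul mP (fP _ (YP hy))
    obtain ⟨e1, -, -, e2⟩ := nfy y hy
    rw [← e, b1, a1] at c1
    rw [← e, b2, a1, a2] at c2
    rw [← e, b3, a1, a2, a3] at c3
    have := (k.perp h (x := f ⁅s₁, g (s * f (s₂ * y * s₂⁻¹) * s⁻¹)⁆ * f y)
      ⟨by linear_combination d1 - c1 + e1, mul_mem mP (fP _ (YP hy))⟩).1 fun y' hy' => by
        rw [mul_assoc, fD y (YD hy) y' hy', ← mul_assoc, fD _ (c_P s₁ (gP _ xP)) y' hy', mul_assoc]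
    rw [d3, show (f ⁅s₁, g (s * f (s₂ * y * s₂⁻¹) * s⁻¹)⁆ * f y).d = (f y).a * b by
      linear_combination d2 - c2 + e2 + (f y).a * sb, map_mul] at this
    rw [sc', sb, k.d y hy] at c3
    linear_combination c3 + this + σ (f y).a * σ b * t1
  have xP := DP hx
  have nD : n x ∈ (sD : Subgroup (US K)) := perp_Y (hn.au.mem x xP) fun y hy => by
    obtain ⟨y', hy', rfl⟩ := ((hn.au.comp hf.au).res (fun _ => YP) nfy).sur y hy
    exact (au_comm hn.au xP (fP _ (YP hy'))).2 (c y' hy')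
  have nc : ∀ y ∈ (sY : Subgroup (US K)), n x * f y = f y * n x := fun y hy => by
    obtain ⟨y', hy', rfl⟩ := ((hg.au.comp hn.au).res (fun _ => YP) fun y hy => by
      obtain ⟨y', hy', e⟩ := ny y hy
      rwa [e, gf _ (YP hy')]).sur y hy
    rw [fg _ (hn.au.mem _ (YP hy'))]
    exact (au_comm hn.au xP (YP hy')).2 (m_DY hx hy')
  refine ⟨nD, nc, ?_⟩
  have y1 := c_D s₂ (gD x xP c)
  have y3 := c_D s₁⁻¹ (gD _ (DP nD) nc)
  have wP := mul_mem (fP _ (YP y1)) xP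
  have e : s * (f ⁅s₂, g x⁆ * x) * s⁻¹ = f ⁅s₁⁻¹, g (n x)⁆ * n x := by
    rw [← uu _ _ (DP nD), en, uu s₂ x xP, gf _ (nm_P _ _ (gP _ (nm_P _ _ wP))),
      show ∀ v : US K, s₁⁻¹ * (s₁ * v * s₁⁻¹) * s₁⁻¹⁻¹ = v from fun v => by group, fg _ (nm_P _ _ wP)]
  obtain ⟨a1, a2, a3⟩ := cj_P s wP
  obtain ⟨b1, b2, b3⟩ := coord_mul (fP _ (YP y1)) xP
  obtain ⟨c1, c2, c3⟩ := coord_mul (fP _ (YP y3)) (DP nD)
  rw [e, b1, c1, hx.1, nD.1, add_zero, add_zero] at a1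
  obtain ⟨-, d2, d3⟩ := opp_inj h hf k.np y1 y3 a1
  rw [e, b1, b2, c2, d2, hx.1, sb] at a2
  rw [e, b1, b2, b3, c3, d3, hx.1, sb, sc', k.d _ y1, (k.perp h hx).1 c, (k.perp h nD).1 nc] at a3
  have e2 : (n x).d = x.d - (f ⁅s₂, g x⁆).a * b := by linear_combination a2
  rw [e2, map_sub, map_mul] at a3
  have e3 : x.d * σ b + (f ⁅s₂, g x⁆).a * w = 0 := by
    linear_combination -a3 - σ (f ⁅s₂, g x⁆).a * σ b * t1
  rw [e2]
  field_simp
  linear_combination -b * e3 + x.d * hb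

end Cfsg.Agent.U5F
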