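import Cfsg.Agent.U5F.SL

/-! Project U5F: two-transitivity in odd characteristic.  See `notes/U5F.md`. -/

set_option autoImplicit false
set_option linter.unusedSectionVars false

namespace Cfsg.Agent.U5F

open US FK
open RFS (Au)
open scoped commutatorElement

variable {K : Type*} [Field K] [Bar K] {G : Type*} [Group G] [Finite G] {p : ℕ} [Fact p.Prime] [CharP K p]
  {u : US K →* G} {f g F n : US K → US K}

namespace T2b

open SL

theorem t0 (h : Two p u sQ sP) (hp : p ≠ 2) (i0 : In u ⊤ (tor 1 (-1))) (hf : Fa u sP f) (hg : Fa u sP g)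
    (nf : ¬ PY f) (ng : ¬ PY g) (d1 : ∀ y ∈ (sY : Subgroup (US K)), (f y).d = 0)
    (d2 : ∀ y ∈ (sY : Subgroup (US K)), (g y).d = 0) :
    ∃ s : US K, ∀ y ∈ (sY : Subgroup (US K)), ∃ y' ∈ (sY : Subgroup (US K)), s * f y * s⁻¹ = g y' := by
  choose yf hyf af using opp_sur h hf nf
  choose yg hyg ag using opp_sur h hg ng
  have pf := fun a => hf.au.mem _ (Y_P (hyf a))
  have pg := fun a => hg.au.mem _ (Y_P (hyg a))
  have fc := fun (c : K) (hc : σ c = -c) => (Fa.conj u (Xc c hc) (nm_P _)).comp hf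
  have cc : ∀ (c : K) (hc : σ c = -c) (a : K), (Xc c hc * f (yf a) * (Xc c hc)⁻¹).a = a ∧
      (Xc c hc * f (yf a) * (Xc c hc)⁻¹).d = 0 ∧
      (Xc c hc * f (yf a) * (Xc c hc)⁻¹).e = (f (yf a)).e - c * a := fun c hc a => by
    obtain ⟨b1, b2, b3⟩ := cj_P (Xc c hc) (pf a)
    rw [b1, b2, b3, af, d1 _ (hyf a), Xc_b, Xc_c, hc]
    exact ⟨rfl, by ring, by ring⟩
  by_cases hA : ∃ c, σ c = -c ∧ (f (yf 1)).e - (g (yg 1)).e = c
  · obtain ⟨c, hc, e⟩ := hA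
    obtain ⟨b1, b2, b3⟩ := cc c hc 1
    refine ⟨Xc c hc, meet h (fc c hc) hg (hyf 1) (hyg 1) (fun k => ?_)
      ⟨b1.trans (ag 1).symm, b2.trans (d2 _ (hyg 1)).symm, by rw [b3]; linear_combination e⟩⟩
    have := (chP_Z hf.au _ ⟨(hyf 1).1, (hyf 1).2.1, (hyf 1).2.2.1, (hyf 1).2.2.2, k⟩).1
    rw [af] at this
    exact one_ne_zero this
  exfalso
  obtain ⟨g', hg', e1, e2⟩ := hg.exists_inv
  obtain ⟨r2, φ2, hr2, k2⟩ := sl h hp i0 hf nf
  obtain ⟨r3, φ3, hr3, k3⟩ := sl h hp i0 hg' (np_inv hg hg' e2 ng)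
  obtain ⟨δ, hδ⟩ : ∃ δ : K → K, ∀ a, δ a = (f (yf a)).e - (g (yg a)).e := ⟨_, fun _ => rfl⟩
  have key : ∀ c, σ c = -c → ∀ a, (δ (a * a) - c * (a * a)) * (δ 1 - c) = (δ a - c * a) ^ 2 := fun c hc a => by
    obtain ⟨r1, φ1, hr1, k1⟩ := sl h hp i0 (hg'.comp (fc c hc)) fun k => hA ⟨c, hc, by
      have b1 := k _ (hyf 1)
      have b2 := e2 _ (nm_P (Xc c hc) _ (pf 1))
      have b3 := (opp_inj h hg ng (hyg 1) b1 (by rw [b2, ag, (cc c hc 1).1])).2.2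
      rw [b2, (cc c hc 1).2.2] at b3
      linear_combination b3⟩
    have b0 : ∀ t, r3 * φ3 (δ t - c * t) = r1 * φ1 (φ2.symm (t / r2)) := fun t => by
      obtain ⟨b1, b2, b3⟩ := cc c hc t
      have b4 := Xe_Y (δ t - c * t)
      have b5 := coord_mul (pg t) (Y_P b4)
      have b6 := (au_modZ hg'.au (mul_mem (pg t) (Y_P b4)) (nm_P (Xc c hc) _ (pf t))
        ⟨by rw [b1, b5.1, ag, Xe_a, add_zero], by rw [b2, b5.2.1, d2 _ (hyg t), Xe_d, add_zero],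
          by rw [b3, b5.2.2, Xe_e, hδ]; ring⟩).1
      rw [k1 _ (hyf t), hg'.au.mul _ (pg t) _ (Y_P b4), e1 _ (Y_P (hyg t)), mul_a, (hyg t).1, zero_add, k3 _ b4,
        Xe_e] at b6
      have b7 := k2 _ (hyf t)
      rw [af] at b7
      rw [← b6, show t / r2 = φ2 (yf t).e by rw [div_eq_iff hr2, mul_comm]; exact b7, φ2.symm_apply_apply]
    have b1 := b0 (a * a)
    have b2 := b0 1
    have b3 := b0 a
    have b4 : φ1 (φ2.symm (a * a / r2)) * φ1 (φ2.symm (1 / r2)) = φ1 (φ2.symm (a / r2)) ^ 2 := by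
      rw [← map_mul, ← map_mul, ← map_pow, ← map_pow]
      congr 2
      ring
    rw [mul_one] at b2
    refine φ3.injective (mul_left_cancel₀ (pow_ne_zero 2 hr3) ?_)
    rw [map_mul, map_pow, ← mul_pow, b3, mul_pow, ← b4, sq, mul_mul_mul_comm, b1, b2]
    ring
  obtain ⟨ε, ε0, hε⟩ := exists_skew K
  have lin1 : ∀ a, δ a = a * δ 1 := fun a => by
    have b1 := key 0 (by simp) a
    have b2 : δ (a * a) + a * a * δ 1 = 2 * a * δ a :=
      mul_left_cancel₀ ε0 (by linear_combination b1 - key ε hε a)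
    exact sub_eq_zero.1 (pow_eq_zero_iff two_ne_zero |>.1 (by linear_combination δ 1 * b2 - b1))
  obtain ⟨θ, hθ⟩ := exists_σ_ne K
  have m : ∀ y ∈ (sY : Subgroup (US K)), ∀ y' ∈ (sY : Subgroup (US K)), y * y' = y' * y := fun y hy y' hy' =>
    m_DY ⟨hy.1, hy.2.1, hy.2.2.1⟩ hy'
  have c1 := (comm_iff_P (pf 1) (pf θ)).1 ((au_comm hf.au (Y_P (hyf 1)) (Y_P (hyf θ))).2 (m _ (hyf 1) _ (hyf θ)))
  have c2 := (comm_iff_P (pg 1) (pg θ)).1 ((au_comm hg.au (Y_P (hyg 1)) (Y_P (hyg θ))).2 (m _ (hyg 1) _ (hyg θ)))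
  rw [af, af, d1 _ (hyf 1), d1 _ (hyf θ), map_one] at c1
  rw [ag, ag, d2 _ (hyg 1), d2 _ (hyg θ), map_one] at c2
  have c3 := lin1 θ
  have c4 := congrArg σ c3
  rw [hδ, hδ] at c3 c4
  rw [map_mul, map_sub, map_sub] at c4
  refine hA ⟨_, mul_left_cancel₀ (sub_ne_zero.2 hθ) ?_, rfl⟩
  rw [map_sub]
  linear_combination c1 - c2 - c4 + c3

end T2b

open SL T2b in
theorem t2_odd (h : Two p u sQ sP) (hp : p ≠ 2) (i0 : In u ⊤ (tor 1 (-1))) : T2 u := by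
  intro f g hf hg nf ng
  obtain ⟨b, hb⟩ := lin h hp i0 hf nf
  obtain ⟨b', hb'⟩ := lin h hp i0 hg ng
  obtain ⟨s, hs⟩ := t0 h hp i0 ((Fa.conj u (Xb b) (nm_P _)).comp hf) ((Fa.conj u (Xb b') (nm_P _)).comp hg)
    (np_conj nf _) (np_conj ng _)
    (fun y hy => by rw [(cj_P _ (hf.au.mem _ (Y_P hy))).2.1, hb y hy, Xb_b, sub_self])
    fun y hy => by rw [(cj_P _ (hg.au.mem _ (Y_P hy))).2.1, hb' y hy, Xb_b, sub_self]
  refine ⟨(Xb b')⁻¹ * s * Xb b, fun y hy => ?_⟩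
  obtain ⟨y', hy', e⟩ := hs y hy
  refine ⟨y', hy', ?_⟩
  calc _ = (Xb b')⁻¹ * (s * (Xb b * f y * (Xb b)⁻¹) * s⁻¹) * Xb b' := by group
    _ = _ := by rw [e]; group

end Cfsg.Agent.U5F
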