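import Cfsg.Agent.U5F.Tv

/-! Project U5F: pairs that contain `W`.  See `notes/U5F.md`. -/

set_option autoImplicit false
set_option linter.unusedSectionVars false

namespace Cfsg.Agent.U5F

open US FK
open RFS (Au)
open scoped commutatorElement

variable {K : Type*} [Field K] [Bar K] {G : Type*} [Group G] [Finite G] {p : ℕ} [Fact p.Prime] [CharP K p]
  {u : US K →* G} {E : Subgroup (US K)} {L : Subgroup G} {v e₀ : US K}

namespace Top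

theorem cV (hv : v ∈ Om p E ⊥) {e : US K} (he : e ∈ E) : ⁅v, e⁆ = 1 :=
  commutatorElement_eq_one_iff_mul_comm.2 ((mem_V.1 hv).2.2 e he).symm

theorem YJ {y : US K} (hy : y ∈ (sY : Subgroup (US K))) : y ∈ (sJ : Subgroup (US K)) := ⟨hy.1, hy.2.1, hy.2.2.2⟩

theorem YW {y : US K} (hy : y ∈ (sY : Subgroup (US K))) : y ∈ (sW : Subgroup (US K)) := ⟨hy.1, hy.2.1⟩

theorem JW {y : US K} (hy : y ∈ (sJ : Subgroup (US K))) : y ∈ (sW : Subgroup (US K)) := ⟨hy.1, hy.2.1⟩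

theorem XeY (t : K) : (Xe t : US K) ∈ (sY : Subgroup (US K)) := by simp

theorem XdW (t : K) : (Xd t : US K) ∈ (sW : Subgroup (US K)) := by simp

theorem sym {x y : US K} (h : ⁅x, y⁆ ∈ (⊥ : Subgroup (US K))) : ⁅y, x⁆ = 1 := Subgroup.mem_bot.1 (SR3.comm_symm h)

/-- an element commuting with all `Xe t` lies in `Q` -/
theorem Q_of {x : US K} (h : ∀ t : K, ⁅(Xe t : US K), x⁆ = 1) : x.a = 0 :=
  (indep (α := -σ x.a) (β := x.a) fun t => by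
    have := comm_f_Y (XeY t) x
    rw [h t] at this
    simp only [one_f, Xe_e] at this
    linear_combination -this).2

theorem Y_le_of {B : Subgroup (US K)} (hZ : sZ ≤ B) (h : ∀ t, ∃ w ∈ B, w ∈ (sY : Subgroup (US K)) ∧ w.e = t) :
    sY ≤ B := fun y hy => by
  obtain ⟨w, hw, ⟨h0, h1, h2, h3⟩, h4⟩ := h y.e
  have : w⁻¹ * y ∈ (sZ : Subgroup (US K)) := by simp [h0, h1, h2, h3, h4, hy.1, hy.2.1, hy.2.2.1, hy.2.2.2]
  simpa using mul_mem hw (hZ this)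

theorem Z_le_comm {B : Subgroup (US K)} (hB : sY ≤ B) (he : e₀ ∈ E) (h0 : e₀.a ≠ 0) : sZ ≤ ⁅B, E⁆ := fun z hz => by
  obtain ⟨y, hy, rfl⟩ := exists_comm_Y h0 hz
  exact Subgroup.commutator_mem_commutator (hB hy) he

theorem Y_le_comm {B : Subgroup (US K)} (hB : sW ≤ B) (he : e₀ ∈ E) (h0 : e₀.a ≠ 0) (hb : e₀.b ≠ 0) :
    sY ≤ ⁅B, E⁆ := Y_le_of (Z_le_comm (fun _ hy => hB (YW hy)) he h0) fun t =>
  ⟨_, Subgroup.commutator_mem_commutator (hB (XdW (-t / σ e₀.b))) he, c_W (XdW _) _, by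
    have : σ e₀.b ≠ 0 := by simpa using hb
    rw [comm_e_W (XdW _)]
    simp only [Xd_d, Xd_c]
    field_simp
    ring⟩

/-- `E ⊓ Q` is the centralizer of any invariant subgroup between `Y` and `J` -/
theorem iv_Q (h : Pr p u E L) {B : Subgroup (US K)} (iB : Iv u E L B) (h1 : sY ≤ B) (h2 : B ≤ sJ) :
    Iv u E L (E ⊓ sQ) := h.iv_cz h.iv_top iB h.iv_bot fun _ =>
  ⟨fun ha => ⟨ha.1, fun _ hb => commutatorElement_eq_one_iff_mul_comm.2 (m_J (h2 hb) ha.2).symm⟩,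
    fun ha => ⟨ha.1, Q_of fun t => sym (ha.2 _ (h1 (XeY t)))⟩⟩

theorem iv_W (h : Pr p u E L) (hW : sW ≤ E) (he : e₀ ∈ E) (h0 : e₀.a ≠ 0) {B : Subgroup (US K)} (iB : Iv u E L B)
    (h1 : sY ≤ B) (h2 : B ≤ sJ) : Iv u E L sW := h.iv_cz (iv_Q h iB h1 h2) h.iv_top iB fun a =>
  ⟨fun ha => ⟨⟨hW ha, ha.1⟩, fun b _ => h1 (c_W ha b)⟩, fun ha => ⟨ha.1.2, by
    have := (h2 (ha.2 e₀ he)).2.2
    rw [comm_d, mem_sQ.1 ha.1.2] at this
    simpa [h0] using this⟩⟩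

end Top

open Top

theorem Y_le (h : Pr p u E L) (hV : Om p E ⊥ ≤ sQ) : sY ≤ E := fun _ hy =>
  h.chain1 (ivV h) (fun e _ => Z_le_V h (c_Y hy e)) fun _ hb => m_J (YJ hy) (hV hb)

theorem V_W (hV : Om p E ⊥ ≤ sQ) (he : e₀ ∈ E) (h0 : e₀.a ≠ 0) : Om p E ⊥ ≤ sW := fun v hv => ⟨hV hv, by
  have := comm_d v e₀
  rw [cV hv he, mem_sQ.1 (hV hv)] at this
  simpa [h0] using this⟩

theorem V_J (hV : Om p E ⊥ ≤ sQ) (he : e₀ ∈ E) (h0 : e₀.a ≠ 0) (hv : v ∈ Om p E ⊥) (hd : v.d = 0) :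
    v ∈ (sY : Subgroup (US K)) := by
  have hw := V_W hV he h0 hv
  have := comm_e_W hw e₀
  rw [cV hv he, hd] at this
  exact ⟨hw.1, hw.2, by simpa [h0] using this, hd⟩

theorem V_Y (he : e₀ ∈ E) (h0 : e₀.a ≠ 0) (hv : v ∈ Om p E ⊥) (hy : v ∈ (sY : Subgroup (US K))) :
    ∃ l, σ l = l ∧ v.e = l * e₀.a := by
  have := comm_f_Y hy e₀
  rw [cV hv he, one_f] at this
  exact prop_of h0 (by linear_combination -this)

theorem mem_V_of (hY : sY ≤ E) {a : K} (hE : ∀ e ∈ E, ∃ l, σ l = l ∧ e.a = l * a) (hy : v ∈ (sY : Subgroup (US K)))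
    {l : K} (hl : σ l = l) (hv : v.e = l * a) : v ∈ Om p E ⊥ :=
  mem_V.2 ⟨hY hy, pow_p_J p (YJ hy), fun e he => by
    obtain ⟨m, hm, ea⟩ := hE e he
    obtain ⟨h0, h1, h2, h3, h4⟩ := c_Y hy e
    refine (commutatorElement_eq_one_iff_mul_comm.1 (US.ext h0 h1 h2 h3 h4 ?_)).symm
    rw [comm_f_Y hy, ea, hv, map_mul, map_mul, hl, hm, one_f]
    ring⟩

theorem ivZ_R (h : Pr p u E L) (hp : p ≠ 2) (hR : E ≤ sR) (hY : sY ≤ E) (he : e₀ ∈ E) (h0 : e₀.a ≠ 0) :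
    Iv u E L sZ := ivZ1 h hY he h0 fun x hx ha k e he' => by
  have hw : x ∈ (sW : Subgroup (US K)) := ⟨ha, hR hx⟩
  obtain ⟨l, hl, el⟩ := V_Y he h0 (k e₀ he) (c_W hw e₀)
  rw [comm_e_W hw, mem_sR.1 (hR he), map_zero] at el
  have ec : x.c = -l := mul_left_cancel₀ h0 (by linear_combination -el)
  have c0 : x.c = 0 := skew_fix (two_ne p hp) (by simp [hw.2]) (by rw [ec, map_neg, hl])
  obtain ⟨h0, h1, h2, h3⟩ := c_W hw e
  exact ⟨h0, h1, h2, h3, by simp [comm_e_W hw, mem_sR.1 (hR he'), c0]⟩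

theorem top (h : Pr p u E L) (hW : sW ≤ E) (he : e₀ ∈ E) (h0 : e₀.a ≠ 0) (iY : Iv u E L sY) : False := by
  have iZ : Iv u E L sZ := le_antisymm (Subgroup.commutator_le.2 fun y hy e _ => c_Y hy e) (Z_le_comm le_rfl he h0) ▸
    h.iv_comm iY h.iv_top
  have iW := iv_W h hW he h0 iY le_rfl fun _ => YJ
  exact h.ne (top_le_iff.1 fun x _ => h.chain (.step iW (fun b _ => c_top x b)
    (.step iY (fun b hb => SR3.comm_symm (c_W hb x)) (.step iZ (fun b hb => SR3.comm_symm (c_Y hb x))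
    (.step h.iv_bot (fun b hb => commutatorElement_eq_one_iff_mul_comm.2 (m_Z hb x).symm) .bot)))))

theorem top2 (h : Pr p u E L) (hW : sW ≤ E) (he : e₀ ∈ E) (h0 : e₀.a ≠ 0) (hb : e₀.b ≠ 0) : False := by
  have hY : sY ≤ E := fun _ hy => hW (YW hy)
  have VQ : Om p E ⊥ ≤ sQ := fun v hv => Q_of fun t => sym (cV hv (hY (XeY t)))
  have VY : Om p E ⊥ ≤ sY := fun v hv => V_J VQ he h0 hv (indep (α := -σ v.d) (β := v.d) fun t => by
    have := (comm_Q (x := v) (y := Xd t) (VQ hv) rfl).2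
    rw [cV hv (hW (XdW t))] at this
    simp only [one_f, Xd_d] at this
    linear_combination this).2
  have YE : sY ≤ ⁅E, E⁆ := Y_le_comm hW he h0 hb
  have EW : ⁅E, E⁆ ≤ sW := Subgroup.commutator_le.2 fun x _ y _ => c_top x y
  have mC : ∀ a, a ∈ E ⊓ Subgroup.centralizer (⁅E, E⁆ : Subgroup (US K)) ↔
      a ∈ E ∧ ∀ b ∈ ⁅E, E⁆, ⁅a, b⁆ ∈ (⊥ : Subgroup (US K)) := fun a =>
    and_congr_right fun _ => forall₂_congr fun b _ => by
      rw [Subgroup.mem_bot, commutatorElement_eq_one_iff_mul_comm, eq_comm]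
  have iC := h.iv_cz h.iv_top (h.iv_comm h.iv_top h.iv_top) h.iv_bot mC
  generalize E ⊓ Subgroup.centralizer (⁅E, E⁆ : Subgroup (US K)) = C at mC iC
  have JC : sJ ≤ C := fun x hx => (mC x).2 ⟨hW (JW hx), fun b hb =>
    commutatorElement_eq_one_iff_mul_comm.2 (m_J hx (EW hb).1)⟩
  have CW : C ≤ sW := fun x hx => by
    obtain ⟨h1, h2⟩ := (mC x).1 hx
    have ha : x.a = 0 := Q_of fun t => sym (h2 _ (YE (XeY t)))
    have := comm_e_W (c_top x e₀) x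
    rw [sym (h2 _ (Subgroup.commutator_mem_commutator h1 he)), comm_d, ha] at this
    exact ⟨ha, by simpa [h0] using this⟩
  refine top h hW he h0 ?_
  by_cases hp : p = 2
  · subst hp
    have iJ : Iv u E L sJ := h.iv_of (fun _ hx => hW (JW hx)) fun f hf k b hb =>
      sq_W (by rw [pow_two, ← hf.mul _ (hW (JW hb)) _ (hW (JW hb)), ← pow_two, pow_p_J 2 hb, hf.one])
        (CW (k C iC b (JC hb))).1
    exact le_antisymm (Subgroup.commutator_le.2 fun y hy e _ => c_W hy e) (Y_le_comm le_rfl he h0 hb) ▸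
      h.iv_comm (iv_W h hW he h0 iJ (fun _ => YJ) le_rfl) h.iv_top
  obtain ⟨ε, ε0, hε⟩ := exists_skew K
  have cc : ∀ {l}, σ l = l → ∀ {e}, e ∈ E → ∃ w ∈ ⁅C, E⁆ ⊔ Om p E ⊥, w ∈ (sY : Subgroup (US K)) ∧
      w.e = e.a * (l * ε) := fun {l} hl {e} he => by
    have hs : σ (-(l * ε)) = - -(l * ε) := by rw [map_neg, map_mul, hl, hε]; ring
    have hj : (Xc _ hs : US K) ∈ (sJ : Subgroup (US K)) := by simp
    exact ⟨_, Subgroup.mem_sup_left (Subgroup.commutator_mem_commutator (JC hj) he), c_W (JW hj) e, by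
      rw [comm_e_W (JW hj)]; simp⟩
  have ad : ∀ {s t}, (∃ w ∈ ⁅C, E⁆ ⊔ Om p E ⊥, w ∈ (sY : Subgroup (US K)) ∧ w.e = s) →
      (∃ w ∈ ⁅C, E⁆ ⊔ Om p E ⊥, w ∈ (sY : Subgroup (US K)) ∧ w.e = t) →
      ∃ w ∈ ⁅C, E⁆ ⊔ Om p E ⊥, w ∈ (sY : Subgroup (US K)) ∧ w.e = s + t :=
    fun ⟨w, h1, h2, h3⟩ ⟨w', k1, k2, k3⟩ =>
      ⟨w * w', mul_mem h1 k1, mul_mem h2 k2, by simp [h2.1, h2.2.2.2, h3, k3]⟩
  refine le_antisymm (sup_le (Subgroup.commutator_le.2 fun y hy e _ => c_W (CW hy) e) VY)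
    (Y_le_of ((Z_le_V h).trans le_sup_right) fun t => ?_) ▸ h.iv_sup (h.iv_comm iC h.iv_top) (ivV h)
  by_cases hE : ∀ e ∈ E, ∃ l, σ l = l ∧ e.a = l * e₀.a
  · obtain ⟨l, m, hl, hm, e⟩ := exists_basis (fun k => ε0 (skew_fix (two_ne p hp) hε k)) (t / e₀.a)
    have := ad ⟨_, Subgroup.mem_sup_right (mem_V_of hY hE (XeY (l * e₀.a)) hl rfl), XeY _, rfl⟩ (cc hm he)
    rwa [Xe_e, show l * e₀.a + e₀.a * (m * ε) = t by rw [← div_mul_cancel₀ t h0, e]; ring] at this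
  · push Not at hE
    obtain ⟨e₁, he₁, hE⟩ := hE
    obtain ⟨l, m, hl, hm, e⟩ := exists_basis (θ := e₁.a / e₀.a) (fun k => hE _ k (by field_simp)) (t / (e₀.a * ε))
    have := ad (cc hl he) (cc hm he₁)
    rwa [show e₀.a * (l * ε) + e₁.a * (m * ε) = t by
      rw [← div_mul_cancel₀ t (mul_ne_zero h0 ε0), e]; field_simp] at this

end Cfsg.Agent.U5F
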